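import Cfsg.Agent.TwoF.XS.P2.Gen_m3
import Cfsg.Agent.TwoF.XS.S62.Main_mg_m3
import Cfsg.Agent.ClassicalGeometry.AutPSL.Main
import Cfsg.Agent.SporadicStructure.PermChain
import Cfsg.Agent.OddHalf.D9.EEight.Id.InnerCore_m3
import Cfsg.Agent.S0252
import Cfsg.Agent.S0253
import Cfsg.Agent.S0254
import Cfsg.Agent.S0255
import Cfsg.Agent.S0256
import Cfsg.Agent.S2087
import Cfsg.Agent.S2088
import Cfsg.Agent.S0822
import Cfsg.Agent.S2090
import Cfsg.Agent.S2091
import Cfsg.Agent.S2092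
import Cfsg.Agent.Mrg.Omega.TwoF.RkPSU
import Cfsg.Agent.H915.Gs.SLThree_m3
import Cfsg.Agent.S2086
import Cfsg.Agent.H740.Cyc.PSUAut
import Cfsg.Agent.H859.Heis
import Cfsg.Agent.TwoF.Gen.BLay_m3
import Cfsg.Agent.HN.PC
import Cfsg.Agent.TwoF.XL.U43.Syl
import Cfsg.Agent.TwoF.XE.Wt_m3
import Cfsg.Agent.OddHalf.D6.QThree.U43Tw
import Cfsg.Agent.Lib.Refl
import Cfsg.Agent.S2579
import Cfsg.Agent.H422.AutBase
import Cfsg.Agent.H956.OrthSim
import Cfsg.Agent.H363.PslCard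
import Cfsg.Agent.LieClassical.HermSiegel
import Cfsg.Agent.ClassicalGeometry.HermOrtho
import Cfsg.Agent.ClassicalGeometry.GUBasic
import Cfsg.Agent.H380.RC.Ind
import Cfsg.Agent.H452.RG.ReeOuter_m3
import Cfsg.Agent.H71.ReeOut
import Cfsg.Agent.TwoF.DC.Close
import Cfsg.Agent.S1158
import Cfsg.Agent.S1159
import Cfsg.Agent.S2113
import Cfsg.Agent.S2127
import Cfsg.Agent.S2458
import Cfsg.Agent.Omega.Lie.HeisCover
import Cfsg.Agent.LieClassical.OrthFinite
import Cfsg.Agent.LieClassical.OrthForms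
import Cfsg.Agent.LieClassical.FieldTransfer
import Cfsg.Agent.ClassicalGeometry.SympBasic
import Cfsg.Agent.ClassicalGeometry.OrthAut1
import Cfsg.Agent.S0245
import Cfsg.Agent.S0246
import Cfsg.Agent.S0290
import Cfsg.Agent.S0294
import Cfsg.Agent.S0814
import Cfsg.Agent.S0818
import Cfsg.Agent.S2099
import Cfsg.Agent.SporRec.GF4
import Cfsg.Agent.UGT.U2.Rec.Congr
import Cfsg.Agent.S0293
import Cfsg.Agent.S0817
import Cfsg.Agent.H175.BdSp_m3
import Cfsg.Agent.S2093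
import Cfsg.Agent.H203.OrthHeis
import Cfsg.Agent.S0292
import Cfsg.Agent.S0816
import Cfsg.Agent.S2094
import Cfsg.Agent.S2095
import Cfsg.Agent.S2096
import Cfsg.Agent.S2097
import Cfsg.Agent.S2098
import Cfsg.Agent.TAB.Th.RepA_m3
import Cfsg.Agent.S2042
import Cfsg.Agent.S2068
import Cfsg.Agent.FastGrp
import Cfsg.Agent.Prune
set_option linter.all false

section
prune_inst 0x7ff0a8f88bb807ffdfff7e7fa690cffc38901fffe6dff9437fe061ff0b9f03000945ab8d09e010fc0ed6601410b87803f9ffeeffe26bd87ffffd1ff41ffbee0fe5f7b508511488340f300ffe03f0778e7f3fffffffffffffffffffffffffffaeffbfffffffff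

-- part: TwoF/XL/L2/Mat_mg
section
prune_inst 0xe55036445a80000000180586e1001c129400019000088800008002440648ac2a0501206104003102088824000004002001000080424000000e000400000401000080000821000008c20016000000000000000000000000000000000000010004000000000
set_option linter.all false
open scoped Cfsg.Agent.FastGrp

-- part: TwoF/XL/L2/Abs
section
/-!
# TwoF / XL / L2: a Borel subgroup of rank one, lower bounds for `cod` in characteristic two (helper77)
-/

set_option autoImplicit false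

namespace Cfsg.Agent.TwoF.XL.L2

open Module Gen Subgroup XE XS

/-- a root group `u` with the torus `h` -/
structure Bor (F : Type) [Field F] (S : Type) [Group S] where
  /-- the root elements -/
  u : F → S
  /-- the torus -/
  h : Fˣ →* S
  add : ∀ a b, u (a + b) = u a * u b
  inj : ∀ a, u a = 1 → a = 0
  cnj : ∀ (x : Fˣ) c, h x * u c * (h x)⁻¹ = u ((x : F) ^ 2 * c)
  ker : ∀ x : Fˣ, (x : F) ^ 2 = 1 → h x = 1

variable {F : Type} [Field F] {S : Type} [Group S] (B : Bor F S)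

theorem Bor.zero : B.u 0 = 1 := by
  have := B.add 0 0
  rw [add_zero] at this
  exact left_eq_mul.1 this

theorem Bor.neg (a : F) : B.u (-a) = (B.u a)⁻¹ := by
  rw [eq_inv_iff_mul_eq_one, ← B.add, neg_add_cancel, B.zero]

theorem Bor.pow (a : F) (n : ℕ) : B.u a ^ n = B.u (n * a) := by
  induction n with
  | zero => rw [pow_zero, Nat.cast_zero, zero_mul, B.zero]
  | succ n ih => rw [pow_succ, ih, ← B.add, Nat.cast_succ, add_mul, one_mul]

theorem Bor.injective : Function.Injective B.u := fun a b e =>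
  sub_eq_zero.1 (B.inj _ (by rw [sub_eq_add_neg, B.add, B.neg, e, mul_inv_cancel]))

/-- the root group -/
def Bor.U : Subgroup S where
  carrier := {g | ∃ c, g = B.u c}
  mul_mem' := by
    rintro _ _ ⟨c, rfl⟩ ⟨d, rfl⟩
    exact ⟨_, (B.add c d).symm⟩
  one_mem' := ⟨0, B.zero.symm⟩
  inv_mem' := by
    rintro _ ⟨c, rfl⟩
    exact ⟨_, (B.neg c).symm⟩

theorem Bor.mem (c : F) : B.u c ∈ B.U := ⟨c, rfl⟩

theorem Bor.comm : ∀ a ∈ B.U, ∀ b ∈ B.U, a * b = b * a := by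
  rintro _ ⟨c, rfl⟩ _ ⟨d, rfl⟩
  rw [← B.add, add_comm, B.add]

theorem Bor.exp (r : ℕ) [CharP F r] : ∀ a ∈ B.U, a ^ r = 1 := by
  rintro _ ⟨c, rfl⟩
  rw [B.pow, CharP.cast_eq_zero, zero_mul, B.zero]

theorem Bor.norm [Finite S] (x : Fˣ) : B.h x ∈ normalizer (B.U : Set S) := by
  refine mem_normalizer_fintype ?_
  rintro _ ⟨c, rfl⟩
  exact ⟨_, B.cnj x c⟩

variable {r : ℕ} [Fact r.Prime] [CharP F r] [Finite S]

section rep

variable {V : Type} [AddCommGroup V] [Module (ZMod 2) V] [Finite V] {σ : Representation (ZMod 2) S V}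

theorem Bor.cod_U (hr : r ≠ 2) (hσ : Function.Injective σ) (T : Finset F)
    (hT : ∀ t ∈ T, ∃ a : F, a ≠ 0 ∧ (t = a ^ 2 ∨ t = 2 * a ^ 2)) (h2 : (2 : F) ≠ 0) : T.card ≤ cod σ B.U := by
  classical
  have hk : (r : ZMod 2) ≠ 0 := cast_ne_zero Fact.out hr
  obtain ⟨χ, h1, h3⟩ := exists_wt (ρ := bc (AlgebraicClosure (ZMod 2)) σ) (R := B.U) B.comm
    (card_ne_zero_closure (card_ne_zero_of_exp Fact.out hk (B.exp r))) (r := ⟨_, B.mem 1⟩)
    (XL.bc_ne_one _ fun e => one_ne_zero (B.inj 1 (hσ (e.trans (map_one σ).symm))))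
  have key : ∀ t ∈ T, ∃ ψ : B.U →* (AlgebraicClosure (ZMod 2))ˣ, 0 < mlt (bc (AlgebraicClosure (ZMod 2)) σ) _ ψ ∧
      ∀ c, ψ ⟨_, B.mem c⟩ = χ ⟨_, B.mem (t * c)⟩ := fun t ht => by
    obtain ⟨a, ha, h⟩ := hT t ht
    have hg := inv_mem (B.norm (Units.mk0 a ha))
    have h4 : ∀ c, tw _ hg χ ⟨_, B.mem c⟩ = χ ⟨_, B.mem (a ^ 2 * c)⟩ := fun c =>
      tw_apply_of_eq hg χ (by rw [inv_inv]; exact (B.cnj (Units.mk0 a ha) c).symm)
    rcases h with rfl | rfl
    · exact ⟨tw _ hg χ, by rwa [mlt_tw], h4⟩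
    · refine ⟨tw _ hg χ ^ Fintype.card (ZMod 2), by rwa [mlt_pow_card, mlt_tw], fun c => ?_⟩
      rw [ZMod.card, MonoidHom.pow_apply, h4, ← map_pow]
      congr 1
      refine Subtype.ext ?_
      show B.u _ ^ 2 = B.u _
      rw [B.pow]
      congr 1
      push_cast
      ring
  choose! ψ hψ hψ' using key
  have hT0 : ∀ t ∈ T, t ≠ 0 := fun t ht => by
    obtain ⟨a, ha, rfl | rfl⟩ := hT t ht
    exacts [pow_ne_zero 2 ha, mul_ne_zero h2 (pow_ne_zero 2 ha)]
  have h5 : ∀ t ∈ T, ψ t ⟨_, B.mem t⁻¹⟩ ≠ 1 := fun t ht => by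
    rw [hψ' t ht]
    simpa only [mul_inv_cancel₀ (hT0 t ht)] using h1
  have hinj : Set.InjOn ψ T := fun s hs t ht hst => by
    by_contra h
    have h6 := sub_ne_zero.2 h
    have h7 := (hψ' s hs (s - t)⁻¹).symm.trans (hst ▸ hψ' t ht (s - t)⁻¹)
    refine h1 ?_
    have h8 : (⟨_, B.mem (s * (s - t)⁻¹)⟩ : B.U) = ⟨_, B.mem 1⟩ * ⟨_, B.mem (t * (s - t)⁻¹)⟩ := by
      refine Subtype.ext ?_
      show B.u _ = B.u _ * B.u _
      rw [← B.add]
      congr 1
      field_simp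
      ring
    rw [h8, map_mul] at h7
    exact mul_eq_right.1 h7
  rw [← cod_bc (AlgebraicClosure (ZMod 2)), ← Finset.card_image_of_injOn hinj, ← mul_one (Finset.card _)]
  refine card_mul_le_cod le_rfl _ (fun φ hφ h => ?_) fun φ hφ => ?_
  · obtain ⟨t, ht, rfl⟩ := Finset.mem_image.1 hφ
    exact h5 t ht (h _ (B.mem _))
  · obtain ⟨t, ht, rfl⟩ := Finset.mem_image.1 hφ
    exact hψ t ht

theorem Bor.cod_h (hr : r ≠ 2) (x : Fˣ) {o : ℕ} (ho : o ≤ orderOf (x ^ 2)) :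
    (o - 1) * cod σ B.U ≤ o * cod σ (zpowers (B.h x)) := by
  have hk : (r : ZMod 2) ≠ 0 := cast_ne_zero Fact.out hr
  have h1 := frobenius_bound (ρ := σ) (R := B.U) B.comm (card_ne_zero_of_exp Fact.out hk (B.exp r))
    (A := zpowers (B.h x)) (zpowers_le.2 (B.norm x)) (by
      rintro _ ⟨i, rfl⟩ h1 _ ⟨c, rfl⟩ e
      simp only [← map_zpow] at h1 e
      rw [← mul_inv_eq_iff_eq_mul, B.cnj] at e
      have h2 := B.injective e
      by_contra h3
      have h4 : c ≠ 0 := fun e' => h3 (by rw [e', B.zero])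
      exact h1 (B.ker _ (mul_left_eq_self₀.1 h2 |>.resolve_right h4)))
  have h2 : o ≤ Nat.card (zpowers (B.h x)) := by
    rw [Nat.card_zpowers]
    refine ho.trans (Nat.le_of_dvd (orderOf_pos _) (orderOf_dvd_of_pow_eq_one ?_))
    have h3 := B.cnj (x ^ orderOf (B.h x)) 1
    rw [map_pow, pow_orderOf_eq_one, one_mul, inv_one, mul_one, mul_one] at h3
    rw [← pow_mul, mul_comm, pow_mul]
    exact Units.ext (B.injective h3).symm
  generalize Nat.card (zpowers (B.h x)) = N at h1 h2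
  generalize cod σ B.U = D at h1
  generalize cod σ (zpowers (B.h x)) = c at h1
  rcases o with _ | o
  · simp
  obtain ⟨k, rfl⟩ := Nat.exists_eq_add_of_le h2
  rw [Nat.add_sub_cancel]
  rw [show o + 1 + k - 1 = o + k by omega] at h1
  rcases Nat.eq_zero_or_pos (o + k) with h3 | h3
  · obtain rfl : o = 0 := by omega
    simp
  refine Nat.le_of_mul_le_mul_left ?_ h3
  linarith only [Nat.mul_le_mul_left o h1, Nat.zero_le (k * c)]

end rep

theorem Bor.lo_U (hz : Zc 2 S 1) (hr : r ≠ 2) (T : Finset F)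
    (hT : ∀ t ∈ T, ∃ a : F, a ≠ 0 ∧ (t = a ^ 2 ∨ t = 2 * a ^ 2)) (h2 : (2 : F) ≠ 0) :
    Lo 2 (B.U.map MulAut.conj) T.card := by
  have := lo_of_rep hz (MonoidHom.id S) (B := B.U) (n := T.card) fun V _ _ _ σ hσ => B.cod_U hr hσ T hT h2
  rwa [map_id] at this

theorem Bor.li_h (hz : Zc 2 S 1) (hr : r ≠ 2) (T : Finset F)
    (hT : ∀ t ∈ T, ∃ a : F, a ≠ 0 ∧ (t = a ^ 2 ∨ t = 2 * a ^ 2)) (h2 : (2 : F) ≠ 0) (x : Fˣ) {o c : ℕ}
    (ho : o ≤ orderOf (x ^ 2)) (hc : o * (c - 1) < (o - 1) * T.card) : Li 2 (B.h x) c :=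
  li_of_rep hz (MonoidHom.id S) fun V _ _ _ σ hσ => by
    have h1 := (hc.trans_le (Nat.mul_le_mul_left _ (B.cod_U hr hσ T hT h2))).trans_le (B.cod_h hr x ho)
    have h3 := Nat.lt_of_mul_lt_mul_left h1
    show c ≤ cod σ (zpowers (B.h x))
    omega

omit [Finite S] in
/-- **equal fixed spaces**: `g` is fixed by `t` and moved by `b` -/
theorem lo_trick (hz : Zc 2 S 1) {E : Subgroup (MulAut S)} {t b : MulAut S} (ht : t ∈ E) (hb : b ∈ E) {g : S}
    (hg : t g = g) {c : ℕ} (h1 : Le 2 t (c - 1)) (h2 : Li 2 (b g * g⁻¹) c) : Lo 2 E c :=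
  fun Y _ _ V _ _ _ K ρ π φ H A hA => by
    obtain ⟨ι, e1, -, e3, e4⟩ := exists_iota hz H
    obtain ⟨t', ht', rfl⟩ := hA ht
    obtain ⟨b', hb', rfl⟩ := hA hb
    by_contra h3
    have h4 := h1.elt H rfl
    have h5 : ι g * t' = t' * ι g := by rw [mul_inv_eq_iff_eq_mul.1 (e4 t' g), hg]
    have h6 := conj_mem_cl_of_comm (ρ := ρ) ht' (by omega) h5 (le_cl A (inv_mem hb'))
    have h7 := cod_le_of_mem_cl (mul_mem (le_cl A hb') h6)
    have h8 := h2.elt H (y := b' * (ι g * b'⁻¹ * (ι g)⁻¹)) (by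
      rw [← e3, map_mul ι, ← e4, map_inv ι]
      congr 1
      group)
    omega

omit [Finite S] in
/-- generation by conjugates -/
theorem le_of_reach {P : Subgroup S} {n k c : ℕ} (h : Lo 2 (P.map MulAut.conj) n) {α : MulAut S}
    (hα : H915.Gs.Reach α k ⊤) (hc : k * (c - 1) < n) : Le 2 α c :=
  le_of_elt fun Y _ _ V _ _ _ K ρ π φ H y hy => by
    have h1 := finrank_le_of_reach H (hy ▸ hα)
    have h2 := h Y V K ρ π φ H ⊤ (by
      rintro _ ⟨s, -, rfl⟩
      obtain ⟨x, rfl⟩ := H.surj s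
      exact ⟨x, trivial, H.toFrm.φ_coe x⟩)
    have h3 := Nat.lt_of_mul_lt_mul_left ((hc.trans_le (h2.trans (cod_le_finrank _))).trans_le h1)
    omega

end Cfsg.Agent.TwoF.XL.L2
end

-- part: TwoF/XL/L2/Mat
section
/-!
# TwoF / XL / L2: involutions of `PGL₂(F)` (helper77)
-/

set_option autoImplicit false

namespace Cfsg.Agent.TwoF.XL.L2

open Matrix
open Cfsg.Agent.ClassicalGeometry.AutPSL.Root Cfsg.Agent.ClassicalGeometry.AutPSL.Auto
  Cfsg.Agent.ClassicalGeometry.AutPSL.Main Cfsg.Agent.ClassicalGeometry.AutPSL.FieldAutTwo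
  Cfsg.Agent.ClassicalGeometry.AutPSL.Images

variable {F : Type} [Field F]

/-- the diagonal torus -/
def Dm : Fˣ →* _root_.Matrix.SpecialLinearGroup (Fin 2) F where
  toFun x := ⟨!![(x : F), 0; 0, (x : F)⁻¹], by simp [det_fin_two]⟩
  map_one' := Subtype.ext (by
    ext i j
    (revert i j; simp only [_root_.Fin.forall_fin_succ, _root_.Units.val_one, _root_.inv_one, _root_.Matrix.of_apply, _root_.Matrix.cons_val', _root_.Matrix.cons_val_fin_one, _root_.Matrix.SpecialLinearGroup.coe_one, Fin.isValue, _root_.Matrix.cons_val_zero, _root_.Matrix.cons_val_succ, _root_.IsEmpty.forall_iff, _root_.and_true, _root_.Matrix.one_apply_eq, Nat.reduceAdd, _root_.Fin.succ_zero_eq_one, _root_.ne_eq, _root_.zero_ne_one, _root_.not_false_eq_true, _root_.Matrix.one_apply_ne, _root_.and_self, _root_.Fin.succ_ne_zero, _root_.true_and]))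
  map_mul' x y := Subtype.ext (by
    show _ = !![(x : F), 0; 0, (x : F)⁻¹] * !![(y : F), 0; 0, (y : F)⁻¹]
    ext i j
    (revert i j; simp [mul_comm, _root_.Fin.forall_fin_succ]))

theorem coe_Dm (x : Fˣ) : (Dm x : Matrix (Fin 2) (Fin 2) F) = !![(x : F), 0; 0, (x : F)⁻¹] := rfl

/-- the Borel subgroup of `PSL₂(F)` -/
def bor (F : Type) [Field F] : Bor F (ProjectiveSpecialLinearGroup (Fin 2) F) where
  u c := pr (X c)
  h := pr.comp Dm
  add a b := by
    rw [← map_mul]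
    congr 1
    refine Subtype.ext ?_
    show (X (a + b)).1 = (X a).1 * (X b).1
    rw [coe_X, coe_X, coe_X]
    ext i j
    (revert i j; simp [add_comm, _root_.Fin.forall_fin_succ])
  inj a h := pr_transvection_injective h01 (h.trans (by
    rw [← map_one pr]
    congr 1
    refine Subtype.ext ?_
    rw [show (SpecialLinearGroup.transvection h01 (0 : F)).1 = _ from coe_X 0]
    ext i j
    (revert i j; simp only [_root_.Fin.forall_fin_succ, _root_.Matrix.SpecialLinearGroup.coe_one, _root_.Matrix.of_apply, _root_.Matrix.cons_val', _root_.Matrix.cons_val_fin_one, Fin.isValue, _root_.Matrix.cons_val_zero, _root_.Matrix.cons_val_succ, _root_.IsEmpty.forall_iff, _root_.and_true, _root_.Matrix.one_apply_eq, Nat.reduceAdd, _root_.Fin.succ_zero_eq_one, _root_.ne_eq, _root_.zero_ne_one, _root_.not_false_eq_true, _root_.Matrix.one_apply_ne, _root_.and_self, _root_.Fin.succ_ne_zero, _root_.true_and])))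
  cnj x c := by
    rw [mul_inv_eq_iff_eq_mul, MonoidHom.comp_apply, ← map_mul, ← map_mul]
    congr 1
    refine Subtype.ext ?_
    show (Dm x).1 * (X c).1 = (X _).1 * (Dm x).1
    rw [coe_X, coe_X, coe_Dm]
    ext i j
    (revert i j; simp only [_root_.Fin.forall_fin_succ, _root_.Matrix.cons_mul, _root_.Nat.succ_eq_add_one, Nat.reduceAdd, _root_.Matrix.vecMul_cons, _root_.Matrix.head_cons, _root_.Matrix.smul_cons, _root_.smul_eq_mul, _root_.mul_one, _root_.Matrix.smul_empty, _root_.Matrix.tail_cons, _root_.zero_smul, _root_.Matrix.empty_vecMul, _root_.add_zero, _root_.MulZeroClass.mul_zero, _root_.zero_add, _root_.Matrix.empty_mul, _root_.Equiv.symm_apply_apply, _root_.Matrix.of_apply, _root_.Matrix.cons_val', _root_.Matrix.cons_val_fin_one, _root_.one_smul, _root_.Matrix.add_cons, _root_.Matrix.empty_add_empty, Fin.isValue, _root_.Matrix.cons_val_zero, _root_.Matrix.cons_val_succ, _root_.forall_const, _root_.implies_true,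 _root_.and_true, _root_.true_and]) <;> (repeat' with_reducible apply And.intro)
    field_simp
  ker x h := by
    rw [MonoidHom.comp_apply, ← map_one pr]
    refine (pr_eq_of_smul (c := (x : F)) ?_).symm
    rw [coe_Dm, inv_eq_of_mul_eq_one_right ((pow_two _).symm.trans h)]
    ext i j
    (revert i j; simp only [_root_.Fin.forall_fin_succ, _root_.Matrix.of_apply, _root_.Matrix.cons_val', _root_.Matrix.cons_val_fin_one, _root_.Matrix.SpecialLinearGroup.coe_one, _root_.Matrix.smul_apply, _root_.smul_eq_mul, Fin.isValue, _root_.Matrix.cons_val_zero, _root_.Matrix.cons_val_succ, _root_.IsEmpty.forall_iff, _root_.and_true, _root_.Matrix.one_apply_eq, _root_.mul_one, Nat.reduceAdd, _root_.Fin.succ_zero_eq_one, _root_.ne_eq, _root_.zero_ne_one, _root_.not_false_eq_true, _root_.Matrix.one_apply_ne, _root_.MulZeroClass.mul_zero, _root_.and_self, _root_.Fin.succ_ne_zero, _root_.Units.ne_zero, _root_.left_eq_mul₀, _root_.true_and])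

/-- the automorphisms induced by `GL₂(F)` -/
def Ps : GL (Fin 2) F →* MulAut (ProjectiveSpecialLinearGroup (Fin 2) F) := lift.comp cj

theorem Ps_def (C : GL (Fin 2) F) : Ps C = lift (cj C) := rfl

theorem Ps_pr {C : GL (Fin 2) F} {g g' : _root_.Matrix.SpecialLinearGroup (Fin 2) F}
    (h : (C : Matrix (Fin 2) (Fin 2) F) * g = g' * C) : Ps C (pr g) = pr g' := by
  rw [Ps_def, lift_pr]
  congr 1
  refine Subtype.ext ?_
  rw [show (cj C g).1 = _ from coe_cj C g, h, mul_assoc, ← Units.val_mul, mul_inv_cancel, Units.val_one, mul_one]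

theorem trace_zero {C : GL (Fin 2) F} (h1 : Ps C ≠ 1) (h2 : Ps C ^ 2 = 1) : C 0 0 + C 1 1 = 0 := by
  obtain ⟨s, hs⟩ := (injective_aux (C := C * C) (σ := 1) (τ := 1) (by
    rw [map_one fld, mul_one, map_one, ← Ps_def, map_mul, ← pow_two, h2])).1
  by_contra h
  have e := fun i j => congrFun (congrFun hs i) j
  have e1 := e 0 0
  have e2 := e 0 1
  have e3 := e 1 0
  have e4 := e 1 1
  simp only [scalar_apply, Units.val_mul, mul_apply, Fin.sum_univ_two, diagonal_apply_eq, ne_eq, zero_ne_one,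
    one_ne_zero, not_false_eq_true, diagonal_apply_ne] at e1 e2 e3 e4
  have f1 : C 0 1 = 0 := (mul_eq_zero.1 (show C 0 1 * (C 0 0 + C 1 1) = 0 by linear_combination -e2)).resolve_right h
  have f2 : C 1 0 = 0 := (mul_eq_zero.1 (show C 1 0 * (C 0 0 + C 1 1) = 0 by linear_combination -e3)).resolve_right h
  have f3 : C 1 1 = C 0 0 := sub_eq_zero.1
    ((mul_eq_zero.1 (show (C 1 1 - C 0 0) * (C 0 0 + C 1 1) = 0 by linear_combination e1 - e4)).resolve_right h)
  refine h1 ?_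
  rw [Ps_def, cj_eq_one_of_scalar (r := C 0 0), map_one]
  ext i j
  (revert i j; simp only [f1, f2, f3, _root_.Fin.forall_fin_succ, Fin.isValue, _root_.Matrix.scalar_apply, _root_.Fin.succ_zero_eq_one, _root_.IsEmpty.forall_iff, _root_.and_true, _root_.Matrix.diagonal_apply_eq, _root_.ne_eq, _root_.zero_ne_one, _root_.not_false_eq_true, _root_.Matrix.diagonal_apply_ne, _root_.and_self, _root_.Fin.succ_ne_zero])

theorem mem_inn {C : GL (Fin 2) F} (h : IsSquare (C : Matrix (Fin 2) (Fin 2) F).det) :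
    Ps C ∈ Inn (ProjectiveSpecialLinearGroup (Fin 2) F) := by
  obtain ⟨s, hs⟩ := h
  have h0 : s ≠ 0 := left_ne_zero_of_mul (hs ▸ C.det_ne_zero)
  let g : _root_.Matrix.SpecialLinearGroup (Fin 2) F := ⟨s⁻¹ • (C : Matrix (Fin 2) (Fin 2) F), by
    rw [det_smul, hs, Fintype.card_fin]
    field_simp⟩
  have hg : (C : Matrix (Fin 2) (Fin 2) F) = s • (g : Matrix (Fin 2) (Fin 2) F) := (smul_inv_smul₀ h0 _).symm
  refine ⟨pr g, MulEquiv.ext fun y => ?_⟩
  obtain ⟨y, rfl⟩ := pr_surjective y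
  rw [MulAut.conj_apply, ← map_inv, ← map_mul, ← map_mul]
  refine (Ps_pr ?_).symm
  rw [hg, Matrix.smul_mul, Matrix.mul_smul]
  congr 1
  exact congrArg Subtype.val (inv_mul_cancel_right (g * y) g).symm

theorem coe_conj {C P : GL (Fin 2) F} {W : Matrix (Fin 2) (Fin 2) F}
    (h : (C : Matrix (Fin 2) (Fin 2) F) * P = P * W) : ((P⁻¹ * C * P : GL (Fin 2) F) : Matrix (Fin 2) (Fin 2) F) = W := by
  rw [Units.val_mul, Units.val_mul, mul_assoc, h, ← mul_assoc, ← Units.val_mul, inv_mul_cancel, Units.val_one, one_mul]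

theorem exists_rat (h2 : (2 : F) ≠ 0) {C : GL (Fin 2) F} (h : C 0 0 + C 1 1 = 0) : ∃ P : GL (Fin 2) F,
    (C : Matrix (Fin 2) (Fin 2) F) * P = P * !![0, -(C : Matrix (Fin 2) (Fin 2) F).det; 1, 0] := by
  have h0 := C.det_ne_zero
  have h1 : C 1 1 = -C 0 0 := eq_neg_of_add_eq_zero_right h
  have key : ∀ x y : F, x * (C 1 0 * x + C 1 1 * y) - (C 0 0 * x + C 0 1 * y) * y ≠ 0 → ∃ P : GL (Fin 2) F,
      (C : Matrix (Fin 2) (Fin 2) F) * P = P * !![0, -(C : Matrix (Fin 2) (Fin 2) F).det; 1, 0] := fun x y e => by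
    refine ⟨GeneralLinearGroup.mkOfDetNeZero !![x, C 0 0 * x + C 0 1 * y; y, C 1 0 * x + C 1 1 * y]
      (by rwa [det_fin_two_of]), ?_⟩
    rw [GeneralLinearGroup.val_mkOfDetNeZero, det_fin_two]
    ext i j
    (revert i j; simp only [mul_apply, Fin.sum_univ_two, h1, _root_.Fin.forall_fin_succ, Fin.isValue, _root_.neg_mul, _root_.Matrix.of_apply, _root_.Matrix.cons_val', _root_.Matrix.cons_val_fin_one, _root_.Matrix.cons_val_zero, _root_.Matrix.cons_val_one, _root_.mul_neg, _root_.neg_sub, _root_.sub_neg_eq_add, _root_.MulZeroClass.mul_zero, _root_.mul_one, _root_.zero_add, _root_.Matrix.cons_val_succ, _root_.add_zero, _root_.forall_const, _root_.true_and, _root_.Fin.succ_zero_eq_one, _root_.IsEmpty.forall_iff, _root_.and_true]) <;> (repeat' with_reducible apply And.intro) <;> ring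
  rw [det_fin_two] at h0
  by_cases e1 : C 1 0 = 0
  · by_cases e2 : C 0 1 = 0
    · refine key 1 1 fun e => h0 ?_
      have : C 0 0 = 0 := (mul_eq_zero.1 (show 2 * C 0 0 = 0 by
        rw [e1, e2, h1] at e
        linear_combination -e)).resolve_left h2
      rw [this, e1, zero_mul, mul_zero, sub_zero]
    · exact key 0 1 (by simpa using e2)
  · exact key 1 0 (by simpa using e1)

/-- both diagonal entries vanish -/
def An (C : GL (Fin 2) F) : Prop := C 0 0 = 0 ∧ C 1 1 = 0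

/-- diagonal of trace zero -/
def Dg (C : GL (Fin 2) F) : Prop := C 0 1 = 0 ∧ C 1 0 = 0 ∧ C 1 1 = -C 0 0

theorem exists_an (h2 : (2 : F) ≠ 0) {C : GL (Fin 2) F} (h : C 0 0 + C 1 1 = 0) :
    ∃ P : GL (Fin 2) F, An (P⁻¹ * C * P) := by
  obtain ⟨P, hP⟩ := exists_rat h2 h
  have := coe_conj hP
  exact ⟨P, by rw [this]; rfl, by rw [this]; rfl⟩

theorem exists_dg (h2 : (2 : F) ≠ 0) {C : GL (Fin 2) F} (h : C 0 0 + C 1 1 = 0)
    (hs : IsSquare (-(C : Matrix (Fin 2) (Fin 2) F).det)) : ∃ P : GL (Fin 2) F, Dg (P⁻¹ * C * P) := by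
  obtain ⟨P, hP⟩ := exists_rat h2 h
  obtain ⟨s, hs⟩ := hs
  have h0 : s ≠ 0 := left_ne_zero_of_mul (hs ▸ neg_ne_zero.2 C.det_ne_zero)
  let Q : GL (Fin 2) F := GeneralLinearGroup.mkOfDetNeZero !![s, -s; 1, 1] (by
    rw [det_fin_two_of, show s * 1 - -s * 1 = 2 * s by ring]
    exact mul_ne_zero h2 h0)
  have := coe_conj (C := C) (P := P * Q) (W := !![s, 0; 0, -s]) (by
    rw [Units.val_mul, ← mul_assoc, hP, mul_assoc, mul_assoc, hs, GeneralLinearGroup.val_mkOfDetNeZero]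
    congr 1
    ext i j
    (revert i j; simp only [mul_apply, Fin.sum_univ_two, _root_.Fin.forall_fin_succ, _root_.Matrix.of_apply, _root_.Matrix.cons_val', _root_.Matrix.cons_val_fin_one, Fin.isValue, _root_.Matrix.cons_val_zero, _root_.Matrix.cons_val_one, _root_.mul_one, _root_.MulZeroClass.mul_zero, _root_.add_zero, _root_.Matrix.cons_val_succ, _root_.mul_neg, _root_.zero_add, _root_.forall_const, _root_.MulZeroClass.zero_mul, _root_.neg_zero, _root_.neg_mul, _root_.neg_neg, _root_.and_self, _root_.one_mul, _root_.implies_true]))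
  exact ⟨P * Q, by rw [this]; rfl, by rw [this]; rfl, by rw [this]; rfl⟩

theorem An.h {C : GL (Fin 2) F} (h : An C) (x : Fˣ) : Ps C ((bor F).h x) = (bor F).h x⁻¹ := by
  refine Ps_pr (g := Dm x) (g' := Dm x⁻¹) ?_
  rw [coe_Dm, coe_Dm]
  ext i j
  (revert i j; simp only [mul_apply, Fin.sum_univ_two, h.1, h.2, mul_comm, _root_.Fin.forall_fin_succ, _root_.Matrix.of_apply, _root_.Matrix.cons_val', _root_.Matrix.cons_val_fin_one, Fin.isValue, _root_.Matrix.cons_val_zero, _root_.Matrix.cons_val_one, _root_.Units.val_inv_eq_inv_val, _root_.inv_inv, _root_.MulZeroClass.zero_mul, _root_.add_zero, _root_.zero_add, _root_.Matrix.cons_val_succ, _root_.Fin.succ_zero_eq_one, _root_.IsEmpty.forall_iff, _root_.and_true, _root_.MulZeroClass.mul_zero, _root_.and_self, _root_.mul_eq_mul_left_iff, _root_.Units.ne_zero, _root_.or_false, _root_.mul_eq_zero, _root_.inv_eq_zero, _root_.false_or])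

theorem Dg.h {C : GL (Fin 2) F} (h : Dg C) (x : Fˣ) : Ps C ((bor F).h x) = (bor F).h x := by
  refine Ps_pr (g := Dm x) (g' := Dm x) ?_
  rw [coe_Dm]
  ext i j
  (revert i j; simp only [mul_apply, Fin.sum_univ_two, h.1, h.2.1, mul_comm, _root_.Fin.forall_fin_succ, _root_.Matrix.of_apply, _root_.Matrix.cons_val', _root_.Matrix.cons_val_fin_one, Fin.isValue, _root_.Matrix.cons_val_zero, _root_.Matrix.cons_val_one, _root_.MulZeroClass.zero_mul, _root_.add_zero, _root_.Matrix.cons_val_succ, _root_.zero_add, _root_.Fin.succ_zero_eq_one, _root_.IsEmpty.forall_iff, _root_.and_true, _root_.MulZeroClass.mul_zero, _root_.and_self, _root_.mul_eq_zero, _root_.Units.ne_zero, _root_.false_or, _root_.mul_eq_mul_left_iff, _root_.inv_eq_zero, _root_.or_false])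

theorem Dg.u {C : GL (Fin 2) F} (h : Dg C) (c : F) : Ps C ((bor F).u c) = (bor F).u (-c) := by
  refine Ps_pr (g := X c) (g' := X (-c)) ?_
  rw [coe_X, coe_X]
  ext i j
  (revert i j; simp only [mul_apply, Fin.sum_univ_two, h.1, h.2.1, h.2.2, mul_comm, _root_.Fin.forall_fin_succ, _root_.Matrix.of_apply, _root_.Matrix.cons_val', _root_.Matrix.cons_val_fin_one, Fin.isValue, _root_.Matrix.cons_val_zero, _root_.Matrix.cons_val_one, _root_.one_mul, _root_.MulZeroClass.zero_mul, _root_.add_zero, _root_.Matrix.cons_val_succ, _root_.Fin.succ_zero_eq_one, _root_.neg_mul, _root_.zero_add, _root_.IsEmpty.forall_iff, _root_.and_true, _root_.neg_neg, _root_.and_self, _root_.MulZeroClass.mul_zero])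

theorem Dg.an (h2 : (2 : F) ≠ 0) {A B : GL (Fin 2) F} (h : Dg A) (hB : B 0 0 + B 1 1 = 0)
    (hAB : (A * B) 0 0 + (A * B) 1 1 = 0) : An B := by
  have h0 := A.det_ne_zero
  rw [det_fin_two, h.1, zero_mul, sub_zero] at h0
  simp only [Units.val_mul, mul_apply, Fin.sum_univ_two, h.1, h.2.1, h.2.2] at hAB
  have h1 : B 0 0 = 0 := (mul_eq_zero.1 (show (A 0 0 * 2) * B 0 0 = 0 by
    linear_combination hAB + A 0 0 * hB)).resolve_left (mul_ne_zero (left_ne_zero_of_mul h0) h2)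
  exact ⟨h1, by rwa [h1, zero_add] at hB⟩

end Cfsg.Agent.TwoF.XL.L2
end

-- part: TwoF/XL/U43/Lab
section
/-!
# TwoF XL-U43: the affine actions of `A₆` on `𝔽₃⁴`, finite checks (helper87)

Vectors are numbers below `81`; `al` is the action of `x` (letter `3`), `be d` the action of `y` with translation `d`.
-/

set_option autoImplicit false
set_option maxRecDepth 100000

namespace Cfsg.Agent.TwoF.XL.U43

open Cfsg.Agent.SporadicStructure.PermChain

def cd (a b c d : ℕ) : ℕ := a + 3 * b + 9 * c + 27 * d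
def al (m : ℕ) : ℕ := cd (m / 3 % 3) (m / 9 % 3) (m / 27 % 3) (2 * (m % 3 + m / 3 % 3 + m / 9 % 3 + m / 27 % 3) % 3)
def be (d m : ℕ) : ℕ := cd ((m % 3 + d % 3) % 3) ((m / 3 % 3 + d / 3 % 3) % 3) ((m / 9 % 3 + m / 27 % 3 + d / 9 % 3) % 3)
  ((m % 3 + 2 * (m / 3 % 3) + m / 27 % 3 + d / 27 % 3) % 3)
def ng (m : ℕ) : ℕ := cd (2 * (m % 3) % 3) (2 * (m / 3 % 3) % 3) (2 * (m / 9 % 3) % 3) (2 * (m / 27 % 3) % 3)
def ip (g m : ℕ) : ℕ := g % 3 * (m % 3) + g / 3 % 3 * (m / 3 % 3) + g / 9 % 3 * (m / 9 % 3) + g / 27 % 3 * (m / 27 % 3)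
def nz (m : ℕ) : ℕ := bif Nat.beq m 0 then 0 else 1

section dig
variable {a b c d : ℕ} (ha : a < 3) (hb : b < 3) (hc : c < 3) (hd : d < 3)
include ha in
theorem cd0 : cd a b c d % 3 = a := by unfold cd; omega
include ha hb in
theorem cd1 : cd a b c d / 3 % 3 = b := by unfold cd; omega
include ha hb hc in
theorem cd2 : cd a b c d / 9 % 3 = c := by unfold cd; omega
include ha hb hc hd
theorem cd3 : cd a b c d / 27 % 3 = d := by unfold cd; omega
theorem cd_lt : cd a b c d < 81 := by unfold cd; omega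
end dig

theorem nz_eq (m : ℕ) : nz m = if m = 0 then 0 else 1 := by
  cases m <;> rfl

/-- the action of a word -/
def act (d : ℕ) : List ℕ → ℕ → ℕ
  | [], m => m
  | s :: l, m => force (act d l m) fun n => bif Nat.beq s 3 then al n else be d n

/-- the sum over an orbit of `x` -/
def s5 (f : ℕ → ℕ) (m : ℕ) : ℕ :=
  force (al m) fun m1 => force (al m1) fun m2 => force (al m2) fun m3 => force (al m3) fun m4 =>
    f m + f m1 + f m2 + f m3 + f m4

theorem s5_eq (f : ℕ → ℕ) (m : ℕ) :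
    s5 f m = f m + f (al m) + f (al (al m)) + f (al (al (al m))) + f (al (al (al (al m)))) := by
  simp only [s5, force_eq]

def rel : List ℕ := [3, 3, 3, 4, 3, 4, 4, 3, 3, 3, 3, 4, 3, 4, 4, 3]
def wa : List ℕ := [4, 4, 3, 4, 3, 3, 4, 3, 4]
def wb : List ℕ := [4, 3, 4, 3]
def wc : List ℕ := [3, 4, 3, 3, 4, 3]
def D9 : List ℕ := [0, 17, 22, 27, 44, 49, 54, 71, 76]

private noncomputable def hfK (A B : ℕ → ℕ) (m : ℕ) : ℕ :=
  force (A m) fun a => force (B a) fun a => force (B a) fun a => force (A a) fun a => force (B a) fun a =>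
    force (A a) fun a => force (A a) A

private noncomputable def beK (d m : ℕ) : ℕ :=
  Nat.add (Nat.add (Nat.add (Nat.mod (Nat.add m d) 3) (Nat.mul 3 (Nat.mod (Nat.add (Nat.div m 3) (Nat.div d 3)) 3)))
    (Nat.mul 9 (Nat.mod (Nat.add (Nat.add (Nat.div m 9) (Nat.div m 27)) (Nat.div d 9)) 3)))
    (Nat.mul 27 (Nat.mod (Nat.add (Nat.add (Nat.add m (Nat.mul 2 (Nat.div m 3))) (Nat.div m 27)) (Nat.div d 27)) 3))

private theorem beK_eq : be = beK := by
  funext d m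
  show _ = (m + d) % 3 + 3 * ((m / 3 + d / 3) % 3) + 9 * ((m / 9 + m / 27 + d / 9) % 3) +
    27 * ((m + 2 * (m / 3) + m / 27 + d / 27) % 3)
  unfold be cd
  have h1 : (m % 3 + d % 3) % 3 = (m + d) % 3 := by omega
  have h2 : (m / 3 % 3 + d / 3 % 3) % 3 = (m / 3 + d / 3) % 3 := by omega
  have h3 : (m / 9 % 3 + m / 27 % 3 + d / 9 % 3) % 3 = (m / 9 + m / 27 + d / 9) % 3 := by omega
  have h4 : (m % 3 + 2 * (m / 3 % 3) + m / 27 % 3 + d / 27 % 3) % 3 = (m + 2 * (m / 3) + m / 27 + d / 27) % 3 := by omega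
  rw [h1, h2, h3, h4]

private theorem act_rel (d m : ℕ) : act d rel m = force (hfK al (beK d) m) (hfK al (beK d)) := by
  simp only [rel, act, hfK, force_eq, beK_eq, show Nat.beq 3 3 = true from rfl, show Nat.beq 4 3 = false from rfl,
    cond_true, cond_false]

private noncomputable def actK (d : ℕ) (l : List ℕ) (m : ℕ) : ℕ :=
  @List.rec ℕ (fun _ => ℕ) m (fun s _ ih => force ih fun n => @Bool.rec (fun _ => ℕ) (beK d n) (al n) (Nat.beq s 3)) l

private theorem actK_eq : act = actK := by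
  funext d l m
  induction l with
  | nil => rfl
  | cons s l ih =>
    rw [act, ih, force_eq, beK_eq]
    refine Eq.trans ?_ (force_eq (actK d l m) fun n => @Bool.rec (fun _ => ℕ) (beK d n) (al n) (Nat.beq s 3)).symm
    cases Nat.beq s 3 <;> rfl

theorem chkRel : allBelow (fun d => D9.any (Nat.beq d) || allBelow (fun m => !(Nat.beq (act d rel m) m)) 81) 81 = true := by
  simp only [act_rel]
  decide +kernel

theorem mem_D9 {d m : ℕ} (hd : d < 81) (hm : m < 81) (h : act d rel m = m) : d ∈ D9 := by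
  have e := allBelow_spec _ _ chkRel d hd
  rw [Bool.or_eq_true] at e
  rcases e with e | e
  · obtain ⟨a, ha, e⟩ := List.any_eq_true.1 e
    exact Nat.eq_of_beq_eq_true e ▸ ha
  · have := allBelow_spec _ _ e m hm
    rw [h, Nat.beq_refl] at this
    exact absurd this (by decide)

def XT : List ℕ := [0x1bffd71f71c203e000400fef9c7fc5138e00a200077cfff80f9e38018200037ffae3ee38407c000801fdf38ff8a271c0144000ef9fff01f3c7003040006fff5c7dc7080f8001003fbe71ff144e380288001df3ffe03e78e00608000,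
  0x1fffdfdf7fee67eac2400fffdefffd77af9eb20007fefffbefbfbd95e20803fffef7effb797cd0a801fff7bfffbb79ee95c000ffbfffddfbef64ba46006ffffdffdfeacfa585003fbffdffdfce7b2ea8401dfffff6fe7ff9668a800,
  0x1ffffffdef2e24e66e0c8fffffff7e74a4be1c8c87fffffff5b5a49ccc8d83ffffffebcba92b93a321ffffffdfb9a927a3a160fffffffded2927a362647ffffffaface48eccc583ffffffeeee849ec78191fffffffeb4b497899990]
def HT : List ℕ := [0xa294a5294a5514a5294a5294a5294a528005294a5294a5294a5294a5514a5294a5294a5294052814529405280a529405294a07bdef7bdef7be8f7bdef7bdef7be8fa3caf7bdefa3de07bdef53def7bdef7bdef7bdef7a9ef7bdef7bdef7bdef7bdea7bdef7a94a5294a5294a5294a5294a5294a5294a5294a5294f529595294f5294f5280f2a94a5294a5294f5294a528aa5294a5294a528a52d0a5294a5294a5294a5294a0294a501545294a52a8a5294a5294a5294a5294a52a8a5294a529545294a529545280a5294af7bdef7bdef7bdefa3def7bdef7d1ef7bdef7bd4f7bdef7bdef7bdef7bdef7bdef2d1ef7bdea7bdef7bdef7bd4f53def7bde07bdef7bdef7bdef7bdef7bdefa51ef7a9ef7bdefa3def7bdefcbdef03def795e07bdef7bdef7bdef7bdea7bdef7bdef7bdef794a5294a5294a0294a5514a5294a5028a5a14a5294a5294a5294a5294a5280a529405294a5294a551405294a5294a5294aa281ef7bdef7bdef7bdef7bdef7a9ef7bdef7bdf4529efa01ef7bdef7bdef7bdef7bd4f7bdef7a9ef7bdef7bdef7bdef7bdef7a8a5294a5294a5295452bd45294a529405294a5294a5294a52d0af294a5294a5294a0294a5294aa294a5294a5294a5294a5294a5,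
  0xa294a5294a5794a5294a5294a5294a528005294a5294a5294a529405514a5294a5294a5514a5294a5294a52a8a5294a5294a05294a5294a5294a5294a5294a529ea5280a5294aa29405294a7a94a5294a5294a5294a7a9ea5294a5294a5294a5294a5154a5294a5294a5294a5294a5294a5294a528aa5294a5294a52954529595280a5280f7a94a5294a529545294a5280a5294a5294a5294a5514a5294a53d4a5294a5294a529452a94a5294a5294a5294a5294a5294a5294a53d4a5294a529ea5294a7a9ea5014a5294a5294a5154a5294aa294a5294a5514a5294a529ea5294a5294f5514a5294a5294a2bd4a5294a5294a5294a528aa5294a515405294a5294a5294a5294a5294aa294a53d4a5294a7a94a52945a29450294a53d405294a5294a5294a529455294a5294a5294a5294a5294a7a94f5294a5294a5294a2a94aa294a5294a5294a5294a5294a5154a5280a5294a5294aca8aa5294a5294a5294f5294a5294a5294a5294a5294a5294a5294a5294f7bd4a7814a7a94a5294a5294a528aa529eaa294a5294a5294a5294a5294a528a5514a5294aa295452d145294a529405294a5294a5294a52bcaa294a5294a5294aa014a5294a5294a5294a5294a5294a5294a5,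
  0xa294a5295e5a14a5294a5294a5294a528005294a5294a5294a529405514a5294a5294a5015452a945294052a8a5294a5294a55294a5294a528aa5294a5294a5294aa294a5294a7a9405294a7a94a5294a529405294a2fa8a5294a5294a5294a5294f5014a5294a5294a5514a5294a5294a5294a5280a5294a529545294a5295e5280a5294a7a94a5294a529545294a5280a5294a5294a5294a5514a5294a53d4a528aa52945529407a9ea5294a5154a5294a5294a5294a5294a5294a5294a529ea5294a2aa8a5014a5294a5294a5154a5294a7a94a5294a53d4a5294a52a8a5294a5295453d4a5294a5294a0514a529545294a7a94a5294aa294a515455294a5294a7a94a5294a5294a7a94a53d4a5294a5294a52940ca9402a94a53d452a94a5294a5294a529455294a5294a5294a5294a528aa529455294fa294a5294a53d4aa294a5294a5294a5294a5294a5014a5280a5294a5294aca94a5154a5294a5294f529ef7bdef7bdef7bdef7bdef7e5ef7bdef7bdf4a51efa15ef7bdefa3def7bdef7bc0f7be8fcd1ef7bdef7bdef7bdef7bdef7a945794a52954f295452d145294a529405294a5294a5294a52a8a0294a5294a5294aa014a5294aa294a5294a5294a5294a5294a5]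

/-- the chosen sets of weights -/
def X (j d m : ℕ) : Bool := Nat.testBit (XT.getD j 0) (81 * (d % 3 + 3 * (d / 27)) + m)
/-- the potentials -/
def H (j d m : ℕ) : ℕ := look 5 (HT.getD j 0) (81 * (d % 3 + 3 * (d / 27)) + m)
def xi (j d m : ℕ) : ℕ := bif X j d m then 1 else 0

def chkLb (j c : ℕ) (ws : List (List ℕ)) : Bool :=
  D9.all fun d => allBelow (fun m => (!(X j d m) || ws.any fun w => !(X j d (act d w m))) &&
    Nat.ble (s5 (fun m => c * nz m + H j d m) m) (s5 (fun m => 5 * xi j d m + H j d (be d m)) m)) 81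

theorem chkLb0 : chkLb 0 2 [wb] = true := by
  delta chkLb; rewrite [actK_eq, beK_eq]; decide +kernel
theorem chkLb1 : chkLb 1 3 [wa, wb, wa ++ wb] = true := by
  delta chkLb; rewrite [actK_eq, beK_eq]; decide +kernel
theorem chkLb2 : chkLb 2 3 [wa, wc, wa ++ wc] = true := by
  delta chkLb; rewrite [actK_eq, beK_eq]; decide +kernel

theorem chkLb_spec {j c : ℕ} {ws : List (List ℕ)} (h : chkLb j c ws = true) {d m : ℕ} (hd : d ∈ D9) (hm : m < 81) :
    (X j d m = true → ∃ w ∈ ws, X j d (act d w m) = false) ∧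
      s5 (fun m => c * nz m + H j d m) m ≤ s5 (fun m => 5 * xi j d m + H j d (be d m)) m := by
  have e := allBelow_spec _ _ (List.all_eq_true.1 h d hd) m hm
  rw [Bool.and_eq_true, Bool.or_eq_true, Bool.not_eq_true', List.any_eq_true] at e
  refine ⟨fun hx => ?_, Nat.le_of_ble_eq_true e.2⟩
  rcases e.1 with e | ⟨w, hw, e⟩
  · rw [hx] at e; exact Bool.noConfusion e
  · exact ⟨w, hw, by simpa using e⟩

/-! ### the group of order ten -/

def gm (m : ℕ) : ℕ := force (al m) ng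

theorem gm_eq (m : ℕ) : gm m = ng (al m) := force_eq _ _

/-- `x` followed by the Galois automorphism -/
def gam (l : ℕ × ℕ) : ℕ × ℕ := (ng l.1, gm l.2)

def itr (f : ℕ → ℕ) : ℕ → ℕ → ℕ
  | 0, m => m
  | k + 1, m => force (f m) (itr f k)

theorem itr_eq (f : ℕ → ℕ) (k m : ℕ) : itr f k m = f^[k] m := by
  induction k generalizing m with
  | zero => rfl
  | succ k ih => rw [itr, force_eq, ih]; rfl

theorem gam_iter (k : ℕ) (l : ℕ × ℕ) : gam^[k] l = (ng^[k] l.1, gm^[k] l.2) := by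
  induction k generalizing l with
  | zero => rfl
  | succ k ih => rw [Function.iterate_succ_apply, ih]; rfl

theorem chkTen : allBelow (fun m => (Nat.beq (itr ng 10 m) m && Nat.beq (itr gm 10 m) m) && (Nat.beq m 0 ||
    allBelow (fun k => !(Nat.beq (itr gm k m) 0) && (Nat.beq k 0 || !(Nat.beq (itr gm k m) m))) 10)) 81 = true := by
  decide +kernel

theorem gam_ten {l : ℕ × ℕ} (h1 : l.1 < 81) (h2 : l.2 < 81) : gam^[10] l = l := by
  have e1 := allBelow_spec _ _ chkTen _ h1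
  have e2 := allBelow_spec _ _ chkTen _ h2
  simp only [Bool.and_eq_true, Nat.beq_eq, itr_eq] at e1 e2
  rw [gam_iter, e1.1.1, e2.1.2]

theorem gam_free {l : ℕ × ℕ} (h2 : l.2 < 81) (h0 : l.2 ≠ 0) {k : ℕ} (hk : k < 10) :
    (gam^[k] l).2 ≠ 0 ∧ (gam^[k] l = l → k = 0) := by
  have e := allBelow_spec _ _ chkTen _ h2
  simp only [Bool.and_eq_true, Bool.or_eq_true, Nat.beq_eq] at e
  have e' := allBelow_spec _ _ (e.2.resolve_left h0) k hk
  simp only [Bool.and_eq_true, Bool.or_eq_true, Nat.beq_eq, Bool.not_eq_true', itr_eq] at e'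
  rw [gam_iter]
  refine ⟨fun h => ?_, fun h => e'.2.resolve_right fun h' => ?_⟩
  · have h' := e'.1
    rw [show gm^[k] l.2 = 0 from h] at h'
    exact Bool.noConfusion h'
  · rw [show gm^[k] l.2 = l.2 from congrArg Prod.snd h, Nat.beq_refl] at h'
    exact Bool.noConfusion h'

theorem gam_shift {l l' : ℕ × ℕ} (h1 : l'.1 < 81) (h2 : l'.2 < 81) (g1 : l.1 < 81) (g2 : l.2 < 81) {i k : ℕ}
    (hk : k < 10) (h : gam^[i] l = gam^[k] l') : l' = gam^[(10 - k + i) % 10] l := by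
  have p : Function.IsPeriodicPt gam 10 l := gam_ten g1 g2
  rw [p.iterate_mod_apply, Function.iterate_add_apply, h, ← Function.iterate_add_apply,
    show 10 - k + k = 10 by omega, gam_ten h1 h2]

/-- `(d', m')` is one of the first `k` iterates -/
def gi : ℕ → ℕ → ℕ → ℕ → ℕ → Bool
  | 0, _, _, _, _ => false
  | k + 1, d, m, d', m' => (Nat.beq d d' && Nat.beq m m') ||
    force (ng d) fun a => force (gm m) fun b => gi k a b d' m'

theorem gi_of {k i d m d' m' : ℕ} (hi : i < k) (h : gam^[i] (d, m) = (d', m')) : gi k d m d' m' = true := by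
  induction k generalizing i d m with
  | zero => exact absurd hi (Nat.not_lt_zero _)
  | succ k ih =>
    rw [gi, force_eq, force_eq, Bool.or_eq_true]
    cases i with
    | zero =>
      obtain ⟨rfl, rfl⟩ := Prod.mk.inj h
      exact Or.inl (by rw [Nat.beq_refl, Nat.beq_refl]; rfl)
    | succ i => exact Or.inr (ih (by omega) h)

/-- the labels of the two six-dimensional modules -/
def Sv (j : ℕ) : List ℕ := bif Nat.beq j 0 then [2189, 4428, 2250, 4389, 2194, 4375, 2214, 4419, 2208, 4379] else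
  [3578, 6191, 3637, 6222, 3608, 6181, 3622, 6194, 3615, 6232]

theorem chkSv : (D9.all fun d => allBelow (fun m => Nat.beq m 0 || (!(allBelow (fun i =>
    force (act d (4 :: List.replicate i 3) m) fun c => Nat.beq c 0 || gi 10 d m d c) 5) ||
      ((Sv 0).any (Nat.beq (81 * d + m)) || (Sv 1).any (Nat.beq (81 * d + m))))) 81) = true := by
  rewrite [actK_eq]; decide +kernel

theorem mem_Sv {d m : ℕ} (hd : d ∈ D9) (hm : m < 81) (h0 : m ≠ 0) (h : ∀ i < 5, act d (4 :: List.replicate i 3) m ≠ 0 →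
    ∃ k < 10, (d, act d (4 :: List.replicate i 3) m) = gam^[k] (d, m)) : ∃ j < 2, 81 * d + m ∈ Sv j := by
  have e := allBelow_spec _ _ (List.all_eq_true.1 chkSv d hd) m hm
  have k : allBelow (fun i => force (act d (4 :: List.replicate i 3) m) fun c => Nat.beq c 0 || gi 10 d m d c) 5
      = true := by
    have k' : ∀ i < 5, (force (act d (4 :: List.replicate i 3) m) fun c => Nat.beq c 0 || gi 10 d m d c) = true :=
      fun i hi => by
        rw [force_eq, Bool.or_eq_true, Nat.beq_eq]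
        refine (em _).imp_right fun h1 => ?_
        obtain ⟨k, hk, e⟩ := h i hi h1
        exact gi_of hk e.symm
    simp only [allBelow, k' 0 (by omega), k' 1 (by omega), k' 2 (by omega), k' 3 (by omega), k' 4 (by omega),
      Bool.and_self]
  rw [k] at e
  simp only [Bool.or_eq_true, Nat.beq_eq, Bool.not_true, List.any_eq_true] at e
  rcases e with e | e | ⟨a, ha, e⟩ | ⟨a, ha, e⟩
  · exact absurd e h0
  · exact Bool.noConfusion e
  · exact ⟨0, by omega, e ▸ ha⟩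
  · exact ⟨1, by omega, e ▸ ha⟩

def gv (j : ℕ) : ℕ := bif Nat.beq j 0 then 27 else 30
def uv (j : ℕ) : ℕ := bif Nat.beq j 0 then 28 else 3
def wq (j : ℕ) : List ℕ := bif Nat.beq j 0 then [3, 3, 3, 4] else [4]

theorem chkSm : ∀ j < 2, ∀ n ∈ Sv j, 81 * ng (n / 81) + gm (n % 81) ∈ Sv j ∧
    s5 (fun m => 5 * nz (ip (gv j) m % 3)) (n % 81) = s5 (fun m => 2 * nz m) (n % 81) ∧
    s5 (fun m => 5 * nz (ip 63 m % 3)) (n % 81) = s5 (fun m => 3 * nz m) (n % 81) ∧
    ip (uv j) (act (n / 81) (wq j) (n % 81)) % 3 ≠ ip (uv j) (n % 81) % 3 := by decide +kernel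

theorem s5_zero (g a b : ℕ) : s5 (fun m => a * nz (ip g m % 3)) 0 = s5 (fun m => b * nz m) 0 := by
  simp only [s5_eq, al, cd, ip, nz, _root_.Nat.zero_mod, _root_.MulZeroClass.mul_zero, _root_.Nat.zero_div, _root_.add_zero, _root_.Nat.beq_refl, _root_.cond_true]

end Cfsg.Agent.TwoF.XL.U43
end

private theorem dce_bd588df3172f : _root_.True := by
  try have : _root_.True := by simp only [_root_.Cfsg.Agent.TwoF.XL.U43.nz.eq_1]
  try have : _root_.True := by simp only [_root_.Cfsg.Agent.TwoF.XL.U43.itr.eq_1]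
  try have : _root_.True := by simp only [_root_.Cfsg.Agent.TwoF.XL.U43.cd.eq_1]
  try have : _root_.True := by simp only [_root_.Cfsg.Agent.TwoF.XL.U43.ip.eq_1]
  try have : _root_.True := by simp only [_root_.Cfsg.Agent.TwoF.XL.U43.gi.eq_2]
  try have : _root_.True := by simp only [_root_.Cfsg.Agent.TwoF.XL.U43.s5.eq_1]
  try have : _root_.True := by simp only [_root_.Cfsg.Agent.TwoF.XL.U43.itr.eq_def]
  try have : _root_.True := by simp only [_root_.Cfsg.Agent.TwoF.XL.U43.itr.eq_2]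
  try have : _root_.True := by simp only [_root_.Cfsg.Agent.TwoF.XL.U43.gi.eq_1]
  try have : _root_.True := by simp only [_root_.Cfsg.Agent.TwoF.XL.U43.gi.eq_def]
  try have : _root_.True := by simp only [_root_.Cfsg.Agent.TwoF.XL.U43.al.eq_1]
  exact _root_.True.intro
end

-- part: TwoF/XL/Red/Main_mg
section
prune_inst 0xc55012400080000000000082810000005c0001900000880088000a44020020220000280004803002002a800000000020010000800040000004000000000500000000020801000000400010000000000000000000000000000000000000010004000000000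
set_option linter.all false
open scoped Cfsg.Agent.FastGrp

-- part: TwoF/XL/Red/Lin
section
/-!
# TwoF / XL, the reduction (1): linear groups (helper30)
-/

set_option autoImplicit false
set_option maxHeartbeats 200000

namespace Cfsg.Agent.TwoF.XL.Red

open Cfsg.Agent.TwoF.XE Cfsg.Agent.TwoF.Gen Cfsg.Agent.TwoF.XS.Red

variable {p : ℕ} [Fact p.Prime]

theorem dt_mk {S : Type} [Group S] [Finite S] {d z s o : ℕ} (h1 : LB p S d)
    (h2 : ∀ (K : Type) [Group K] [Finite K] (π : K →* S), IsStemExtension π → Nat.card π.ker ∣ z) (h3 : 0 < z)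
    (h4 : Nat.card S = s) (h5 : Nat.card (Out S) = o) (h6 : Subgroup.center S = ⊥) : Dt p S d z s o :=
  ⟨h1, h2, h3, h4, by rw [card_aut h6, h4, h5, mul_comm], h6⟩

theorem eq_div_mul {a b c s : ℕ} (ha : 0 < a) (hb : 0 < b) (h : a * (b * s) = c) : s = c / (a * b) := by
  rw [← h, ← mul_assoc, Nat.mul_div_cancel_left _ (Nat.mul_pos ha hb)]

theorem card_prod3 (a b c : ℕ) : Nat.card (Multiplicative (ZMod a × ZMod b × ZMod c)) = a * (b * c) := by
  rw [Nat.card_congr Multiplicative.toAdd, Nat.card_prod, Nat.card_prod, Nat.card_zmod, Nat.card_zmod, Nat.card_zmod]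

theorem not_dvd_pow {r f : ℕ} (hr : r.Prime) (hrp : r ≠ p) : ¬ p ∣ r ^ f := fun h =>
  hrp ((Nat.prime_dvd_prime_iff_eq Fact.out hr).1 ((Fact.out : p.Prime).dvd_of_dvd_pow h)).symm

/-- the order of `PSL_n(q)` -/
def sL (n q : ℕ) : ℕ := (∏ i ∈ Finset.range n, (q ^ n - q ^ i)) / (Nat.gcd n (q - 1) * (q - 1))

theorem card_sL {F : Type} [Field F] [Fintype F] {n q : ℕ} (hF : Fintype.card F = q) (hn : 2 ≤ n) :
    Nat.card (PL n F) = sL n q := by
  have hq : 1 < q := hF ▸ Fintype.one_lt_card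
  have h := S0243.result hF n hn
  rw [Fin.prod_univ_eq_prod_range (fun i => q ^ n - q ^ i) n] at h
  exact eq_div_mul (Nat.gcd_pos_of_pos_left _ (by omega)) (by omega) h

/-! ### dimension two -/

set_option synthInstance.maxSize 100000 in
set_option synthInstance.maxHeartbeats 400000 in
theorem tab_two : ∀ r < 1024, (∀ t ∈ [2, 3, 5, 7, 11, 13, 17, 19, 23, 29, 31], r % t = 0 → t = r) → ∀ f < 10, 1 ≤ f →
    5 ≤ r ^ f → r ^ f < 1024 → r ^ f ≠ 9 →
    big ((r ^ f - 1) / Nat.gcd 2 (r ^ f - 1)) (Nat.gcd 2 (r ^ f - 1)) (sL 2 (r ^ f)) (Nat.gcd 2 (r ^ f - 1) * f) = true ∧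
      ∀ t ∈ [2, 3, 5, 7, 11, 13, 17, 19, 23], t = r ∨
        ok ((r ^ f - 1) / Nat.gcd 2 (r ^ f - 1)) (Nat.gcd 2 (r ^ f - 1)) (sL 2 (r ^ f)) (Nat.gcd 2 (r ^ f - 1) * f) t
          = true ∨
        (t = 2 ∧ (r ^ f = 5 ∨ r ^ f = 7 ∨ (r ^ f % 2 = 1 ∧ 11 ≤ r ^ f ∧ r ^ f ≤ 81))) ∨ (t = 3 ∧ r ^ f = 8) := by
  (delta Cfsg.Agent.TwoF.XS.Red.big Cfsg.Agent.TwoF.XL.Red.sL Cfsg.Agent.TwoF.XS.Red.ok Cfsg.Agent.TwoF.Gen.small; set_option synthInstance.maxSize 100000 in exact Cfsg.Agent.Lib.Refl.of (by decide +kernel))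

theorem row_two (H : Small) {F : Type} [Field F] [Fintype F] {r f : ℕ} (hr : r.Prime) (hf : 1 ≤ f)
    (hF : Fintype.card F = r ^ f) (h4 : 4 ≤ r ^ f) (hrp : r ≠ p) (hp : ¬ IsPSLChar p (PL 2 F))
    (ha : ¬ IsAlternating (PL 2 F)) : Row p (PL 2 F) := by
  have := finL 2 F
  have h5 : r ^ f ≠ 4 := fun h => ha ⟨5, le_rfl, S0252.result (hF.trans h)⟩
  have h9 : r ^ f ≠ 9 := fun h => ha ⟨6, by omega, S0254.result (hF.trans h)⟩
  have he : ¬ ExL 2 (r ^ f) := by simp only [ExL, h5, h9, _root_.Set.mem_insert_iff, _root_.Prod.mk.injEq, _root_.and_false, _root_.Nat.reduceEqDiff, _root_.false_and, _root_.and_self, _root_.Set.mem_singleton_iff, _root_.or_self, _root_.not_false_eq_true]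
  have D := dt_mk (lbL2 hF (not_dvd_pow hr hrp) h4 he) (card_ker_dvd' (S2086.result hF 2 le_rfl (fun _ => h4) he))
    (Nat.gcd_pos_of_pos_left _ two_pos) (card_sL hF le_rfl) (outL2 hr hf hF h4) (centerL le_rfl fun _ => hF ▸ h4)
  by_cases hQ : 1024 ≤ r ^ f
  · refine D.row_gen (q := r ^ f) (m := 1) (by omega) (by rwa [pow_one]) ?_ ?_
    · have h1 := cardL_le hF le_rfl
      rw [card_sL hF le_rfl] at h1
      have h2 : Nat.gcd 2 (r ^ f - 1) * f ≤ (r ^ f) ^ 1 :=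
        (Nat.mul_le_mul_right _ (gcd_two_le _)).trans ((two_mul_le hr.two_le).trans (pow_one _).ge)
      exact (Nat.mul_le_mul h1 h2).trans (pow_add _ _ _).ge
    · have h1 := Nat.div_le_div_left (a := r ^ f - 1) (gcd_two_le (r ^ f - 1)) (Nat.gcd_pos_of_pos_left _ two_pos)
      rw [pow_one]
      omega
  have h1 : r < 1024 := (Nat.le_self_pow (by omega) r).trans_lt (not_le.1 hQ)
  have h2 : f < 10 := by
    by_contra h2
    have := (Nat.pow_le_pow_left hr.two_le 10).trans (Nat.pow_le_pow_right hr.pos (not_lt.1 h2))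
    omega
  have h3 : ∀ t ∈ [2, 3, 5, 7, 11, 13, 17, 19, 23, 29, 31], r % t = 0 → t = r := fun t ht h =>
    (hr.eq_one_or_self_of_dvd t (Nat.dvd_of_mod_eq_zero h)).resolve_left (by rintro rfl; simp at ht)
  refine (D.row_or hrp (tab_two r h1 h3 f h2 hf (by omega) (not_le.1 hQ) h9)).elim id ?_
  rw [← hF]
  rintro (⟨rfl, h | h | ⟨h6, h7, h8⟩⟩ | ⟨rfl, h⟩)
  · exact (ha ⟨5, le_rfl, S0253.result h⟩).elim
  · exact (hp ⟨ZMod 2, inferInstance, inferInstance, inferInstance, 3, by omega, fun h => absurd h (by omega),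
      S0255.result h (ZMod.card 2)⟩).elim
  · exact H.ltwo F (Nat.odd_iff.2 h6) h7 h8
  · exact H.lp3 F 2 (.inl ⟨rfl, h⟩)

/-! ### dimension at least three -/

/-- the dimension bound -/
def dL (m q : ℕ) : ℕ := if m = 2 ∧ (q = 2 ∨ q = 4) then 0 else q ^ m - 1
/-- the multiplier -/
def zL (m q : ℕ) : ℕ := if m = 2 ∧ q = 2 then 2 else if m = 2 ∧ q = 4 then 48 else Nat.gcd (m + 1) (q - 1)

set_option synthInstance.maxSize 100000 in
set_option synthInstance.maxHeartbeats 400000 in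
theorem tab_lin : ∀ r ∈ [2, 3, 5, 7, 11, 13, 17, 19, 23, 29, 31], ∀ f < 5, ∀ m < 10, 1 ≤ f → 2 ≤ m → (r ^ f) ^ m < 1024 →
    ¬ (m = 3 ∧ r ^ f = 2) →
    big (dL m (r ^ f)) (zL m (r ^ f)) (sL (m + 1) (r ^ f)) (Nat.gcd (m + 1) (r ^ f - 1) * (2 * f)) = true ∧
      ∀ t ∈ [2, 3, 5, 7, 11, 13, 17, 19, 23], t = r ∨
        ok (dL m (r ^ f)) (zL m (r ^ f)) (sL (m + 1) (r ^ f)) (Nat.gcd (m + 1) (r ^ f - 1) * (2 * f)) t = true ∨
        (t = 2 ∧ ((m + 1 = 3 ∧ (r ^ f = 3 ∨ r ^ f = 5)) ∨ (m + 1 = 4 ∧ r ^ f = 3))) ∨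
        (t = 3 ∧ ((m + 1 = 3 ∧ r ^ f = 4) ∨ (m + 1 = 6 ∧ r ^ f = 2))) := by
  decide +kernel

theorem dt_lin {F : Type} [Field F] [Fintype F] {r f m : ℕ} (hr : r.Prime) (hf : 1 ≤ f)
    (hF : Fintype.card F = r ^ f) (hm : 2 ≤ m) (h42 : ¬ (m = 3 ∧ r ^ f = 2)) (hrp : r ≠ p) :
    Dt p (PL (m + 1) F) (dL m (r ^ f)) (zL m (r ^ f)) (sL (m + 1) (r ^ f))
      (Nat.gcd (m + 1) (r ^ f - 1) * (2 * f)) := by
  have := finL (m + 1) F
  have he : ¬ (m = 2 ∧ r ^ f = 2) → ¬ (m = 2 ∧ r ^ f = 4) → ¬ ExL (m + 1) (r ^ f) := fun h1 h2 => by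
    simp only [ExL, Set.mem_insert_iff, Set.mem_singleton_iff, Prod.mk.injEq]
    omega
  refine dt_mk ?_ (fun K _ _ π hπ => ?_) ?_ (card_sL hF (by omega)) (outL hr hf hF (by omega))
    (centerL (by omega) (by omega))
  · unfold dL
    split_ifs with h
    · exact lb_zero
    · exact lbL hF (not_dvd_pow hr hrp) (by omega) (he (by omega) (by omega))
  · unfold zL
    split_ifs with h h'
    · obtain ⟨rfl, h⟩ := h
      exact card_ker_dvd' (S2087.result (hF.trans h)) K π hπ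
    · obtain ⟨rfl, h'⟩ := h'
      exact (card_ker_dvd (S2088.result (hF.trans h')) K π hπ).trans (card_prod3 3 4 4).dvd
    · exact card_ker_dvd' (S2086.result hF (m + 1) (by omega) (by omega) (he h h')) K π hπ
  · unfold zL
    split_ifs <;> positivity

theorem row_lin (H : Small) {F : Type} [Field F] [Fintype F] {r f m : ℕ} (hr : r.Prime) (hf : 1 ≤ f)
    (hF : Fintype.card F = r ^ f) (hm : 2 ≤ m) (hrp : r ≠ p) (ha : ¬ IsAlternating (PL (m + 1) F)) :
    Row p (PL (m + 1) F) := by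
  have := finL (m + 1) F
  have h42 : ¬ (m = 3 ∧ r ^ f = 2) := by
    rintro ⟨rfl, h⟩
    exact ha ⟨8, by omega, S0256.result (hF.trans h)⟩
  have D := dt_lin hr hf hF hm h42 hrp
  have hq : 2 ≤ r ^ f := hF ▸ Fintype.one_lt_card
  by_cases hQ : 1024 ≤ (r ^ f) ^ m
  · have h1 : ¬ (m = 2 ∧ r ^ f = 2) := fun h => by rw [h.1, h.2] at hQ; omega
    have h2 : ¬ (m = 2 ∧ r ^ f = 4) := fun h => by rw [h.1, h.2] at hQ; omega
    refine D.row_gen hq hQ ?_ (by rw [dL, if_neg (by omega)]; omega)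
    rw [zL, if_neg h1, if_neg h2]
    have h3 := cardL_le hF (show 2 ≤ m + 1 by omega)
    rw [card_sL hF (by omega)] at h3
    have h4 : Nat.gcd (m + 1) (r ^ f - 1) * (2 * f) ≤ (r ^ f) ^ 2 := by
      rw [sq]
      exact Nat.mul_le_mul ((Nat.gcd_le_right _ (by omega)).trans (Nat.sub_le _ _)) (two_mul_le hr.two_le)
    refine (Nat.mul_le_mul h3 h4).trans ?_
    rw [← pow_add, show (m + 1) ^ 2 - 1 = m ^ 2 + 2 * m from Nat.sub_eq_of_eq_add (by ring)]
    exact Nat.pow_le_pow_right (by omega) (by nlinarith only [hm])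
  obtain ⟨h3, h4, h5⟩ := _root_.Cfsg.Agent.TwoF.XS.Red.small_range hr hf hm (not_le.1 hQ)
  refine (D.row_or hrp (tab_lin r h3 f h4 m h5 hf hm (not_le.1 hQ) h42)).elim id ?_
  rw [← hF]
  rintro (⟨rfl, h⟩ | ⟨rfl, h⟩)
  · exact H.lp2 F _ h
  · exact H.lp3 F _ (.inr h)

theorem box_psl (H : Small) : Box fun K _ => IsPSL K := by
  rintro p _ S _ _ _ ⟨F, _, _, n, hn, h2, ⟨e⟩⟩ hp ha
  obtain ⟨r, f, hr, hc, hf, hF⟩ := exists_char F
  have hrp : r ≠ p := by
    rintro rfl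
    exact hp (.inl ⟨F, _, _, hc, n, hn, h2, ⟨e⟩⟩)
  have ha' : ¬ IsAlternating (PL n F) := fun ⟨k, hk, ⟨e'⟩⟩ => ha ⟨k, hk, ⟨e.trans e'⟩⟩
  refine Row.of_equiv ?_ e
  rcases hn.eq_or_lt with rfl | h3
  · exact row_two H hr hf hF (hF ▸ h2 rfl) hrp
      (fun ⟨K, i1, i2, h1, k, h3, h4, ⟨e'⟩⟩ => hp (.inl ⟨K, i1, i2, h1, k, h3, h4, ⟨e.trans e'⟩⟩)) ha'
  · obtain ⟨m, rfl⟩ : ∃ m, n = m + 1 := ⟨n - 1, by omega⟩
    exact row_lin H hr hf hF (by omega) hrp ha'

end Cfsg.Agent.TwoF.XL.Red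
end

-- part: TwoF/XL/Red/Main
section
/-!
# TwoF / XL, the reduction (2): unitary groups, `red` (helper30)
-/

set_option autoImplicit false
set_option maxHeartbeats 200000

namespace Cfsg.Agent.TwoF.XL.Red

open Cfsg.Agent.TwoF.XE Cfsg.Agent.TwoF.Gen Cfsg.Agent.TwoF.XS.Red

variable {p : ℕ} [Fact p.Prime]

/-- the order of `PSU_n(q)` -/
def sU (n q : ℕ) : ℕ := (q ^ (n * (n - 1) / 2) *
  ∏ i ∈ Finset.range n, (if Even i then q ^ (i + 1) + 1 else q ^ (i + 1) - 1)) / (Nat.gcd n (q + 1) * (q + 1))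

theorem card_sU {F : Type} [Field F] [Fintype F] {n q : ℕ} (hF : Fintype.card F = q ^ 2) (hn : 2 ≤ n) :
    Nat.card (PSU n F q) = sU n q :=
  eq_div_mul (Nat.gcd_pos_of_pos_left _ (by omega)) (by omega) (S0280.result hF n hn)

/-- the dimension bound -/
def dU (m q : ℕ) : ℕ := if (m = 3 ∧ (q = 2 ∨ q = 3)) ∨ (m = 5 ∧ q = 2) then 0 else (q - 1) * q ^ (m - 1)
/-- the multiplier -/
def zU (m q : ℕ) : ℕ := if m = 3 ∧ q = 2 then 2 else if m = 3 ∧ q = 3 then 36 else if m = 5 ∧ q = 2 then 12 else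
  Nat.gcd (m + 1) (q + 1)

set_option synthInstance.maxSize 100000 in
set_option synthInstance.maxHeartbeats 400000 in
theorem tab_uni : ∀ r ∈ [2, 3, 5, 7, 11, 13, 17, 19, 23, 29, 31], ∀ f < 5, ∀ m < 10, 1 ≤ f → 2 ≤ m → (r ^ f) ^ m < 1024 →
    ¬ (m + 1 = 3 ∧ r ^ f = 2) →
    big (dU m (r ^ f)) (zU m (r ^ f)) (sU (m + 1) (r ^ f)) (Nat.gcd (m + 1) (r ^ f + 1) * (2 * f)) = true ∧
      ∀ t ∈ [2, 3, 5, 7, 11, 13, 17, 19, 23], t = r ∨
        ok (dU m (r ^ f)) (zU m (r ^ f)) (sU (m + 1) (r ^ f)) (Nat.gcd (m + 1) (r ^ f + 1) * (2 * f)) t = true ∨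
        (t = 2 ∧ ((m + 1 = 3 ∧ (r ^ f = 3 ∨ r ^ f = 5 ∨ r ^ f = 7)) ∨ (m + 1 = 5 ∧ r ^ f = 3))) ∨
        (m = 2 ∧ ((r ^ f = 4 ∧ t = 5) ∨ (r ^ f = 5 ∧ t = 3))) ∨ (t = 2 ∧ m = 3 ∧ r ^ f = 3) ∨
        (t = 3 ∧ r ^ f = 2 ∧ (m = 3 ∨ (5 ≤ m + 1 ∧ m + 1 ≤ 8))) := by
  (set_option synthInstance.maxSize 100000 in exact Cfsg.Agent.Lib.Refl.of (by decide +kernel))

/-- the multiplier of `U₄(2)` -/
theorem mult_u42 {F : Type} [Field F] [Fintype F] (hF : Fintype.card F = 2 ^ 2) (K : Type) [Group K] [Finite K]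
    (π : K →* PSU 4 F 2) (hπ : IsStemExtension π) : Nat.card π.ker ∣ 2 := by
  obtain ⟨e⟩ := S0822.result (K := ZMod 3) hF (ZMod.card 3)
  have h1 := MonoidHom.ker_mulEquiv_comp π e
  have h2 := card_ker_dvd' (S2092.result (ZMod.card 3) 2 le_rfl (fun _ => le_rfl) (by omega)) K
    ((e : PSU 4 F 2 →* PSp 2 (ZMod 3)).comp π) ⟨e.surjective.comp hπ.1, h1 ▸ hπ.2.1, h1 ▸ hπ.2.2⟩
  rwa [h1] at h2

theorem dt_uni {F : Type} [Field F] [Fintype F] {r f m : ℕ} (hr : r.Prime) (hf : 1 ≤ f)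
    (hF : Fintype.card F = (r ^ f) ^ 2) (hm : 2 ≤ m) (h32 : ¬ (m + 1 = 3 ∧ r ^ f = 2)) (hrp : r ≠ p) :
    Dt p (PSU (m + 1) F (r ^ f)) (dU m (r ^ f)) (zU m (r ^ f)) (sU (m + 1) (r ^ f))
      (Nat.gcd (m + 1) (r ^ f + 1) * (2 * f)) := by
  have := finU (m + 1) F (r ^ f)
  have he : ¬ (m = 3 ∧ r ^ f = 2) → ¬ (m = 3 ∧ r ^ f = 3) → ¬ (m = 5 ∧ r ^ f = 2) → ¬ ExU (m + 1) (r ^ f) :=
    fun h1 h2 h3 => by
      simp only [ExU, Set.mem_insert_iff, Set.mem_singleton_iff, Prod.mk.injEq]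
      omega
  refine dt_mk ?_ (fun K _ _ π hπ => ?_) ?_ (card_sU hF (by omega)) (outU hr hf rfl hF (by omega) h32)
    (centerU hF (by omega) h32)
  · unfold dU
    split_ifs with h
    · exact lb_zero
    · exact lbU hF (not_dvd_pow hr hrp) (by omega) h32 (he (by omega) (by omega) (by omega))
  · unfold zU
    split_ifs with h h' h''
    · obtain ⟨rfl, h⟩ := h
      generalize r ^ f = q at *
      subst h
      exact mult_u42 hF K π hπ
    · obtain ⟨rfl, h'⟩ := h'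
      generalize r ^ f = q at *
      subst h'
      exact (card_ker_dvd (S2090.result hF) K π hπ).trans (card_prod3 4 3 3).dvd
    · obtain ⟨rfl, h''⟩ := h''
      generalize r ^ f = q at *
      subst h''
      exact (card_ker_dvd (S2091.result hF) K π hπ).trans (card_prod3 3 2 2).dvd
    · exact card_ker_dvd' (S2089.result (m + 1) _ hF (by omega) h32 (he h h' h'')) K π hπ
  · unfold zU
    split_ifs <;> positivity

theorem box_psu (H : Small) : Box fun K _ => IsPSU K := by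
  rintro p _ S _ _ _ ⟨F, _, _, n, q, hF, hn, h32, ⟨e⟩⟩ hp -
  obtain ⟨r, f, hr, hc, rfl, hf⟩ := LieClassical.HermBasic.exists_prime_pow hF
  have hrp : r ≠ p := by
    rintro rfl
    exact hp (.inr <| .inr <| .inl ⟨F, _, _, hc, n, _, hF, hn, h32, ⟨e⟩⟩)
  obtain ⟨m, rfl⟩ : ∃ m, n = m + 1 := ⟨n - 1, by omega⟩
  have := finU (m + 1) F (r ^ f)
  refine Row.of_equiv ?_ e
  have hm : 2 ≤ m := by omega
  have D := dt_uni hr hf hF hm h32 hrp
  have hq : 2 ≤ r ^ f := hr.two_le.trans (Nat.le_self_pow (by omega) r)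
  by_cases hQ : 1024 ≤ (r ^ f) ^ m
  · have h1 : ¬ (m = 3 ∧ r ^ f = 2) := fun h => by rw [h.1, h.2] at hQ; omega
    have h2 : ¬ (m = 3 ∧ r ^ f = 3) := fun h => by rw [h.1, h.2] at hQ; omega
    have h5 : ¬ (m = 5 ∧ r ^ f = 2) := fun h => by rw [h.1, h.2] at hQ; omega
    refine D.row_gen hq hQ ?_ ?_
    · rw [zU, if_neg h1, if_neg h2, if_neg h5]
      have h3 := cardU_le hF (show 2 ≤ m + 1 by omega)
      rw [card_sU hF (by omega)] at h3
      have h4 : Nat.gcd (m + 1) (r ^ f + 1) * (2 * f) ≤ (r ^ f) ^ (2 + 1) := by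
        rw [pow_succ]
        refine Nat.mul_le_mul ((Nat.gcd_le_right _ (by omega)).trans ?_) (two_mul_le hr.two_le)
        nlinarith only [hq]
      refine (Nat.mul_le_mul h3 h4).trans ?_
      rw [← pow_add, show (m + 1) ^ 2 - 1 = m ^ 2 + 2 * m from Nat.sub_eq_of_eq_add (by ring)]
      exact Nat.pow_le_pow_right (by omega) (by nlinarith only [hn])
    · rw [dU, if_neg (by omega)]
      obtain ⟨k, rfl⟩ : ∃ k, m = k + 1 := ⟨m - 1, by omega⟩
      rw [Nat.add_sub_cancel, pow_succ']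
      have h3 : r ^ f * (r ^ f) ^ k ≤ (2 * (r ^ f - 1)) * (r ^ f) ^ k := Nat.mul_le_mul_right _ (by omega)
      rw [mul_assoc] at h3
      omega
  obtain ⟨h3, h4, h5⟩ := _root_.Cfsg.Agent.TwoF.XS.Red.small_range hr hf hm (not_le.1 hQ)
  refine (D.row_or hrp (tab_uni r h3 f h4 m h5 hf hm (not_le.1 hQ) h32)).elim id ?_
  generalize r ^ f = q at *
  rintro (⟨rfl, h⟩ | ⟨rfl, h⟩ | ⟨rfl, rfl, rfl⟩ | ⟨rfl, rfl, rfl | h⟩)
  · exact H.up2 F _ q hF h
  · exact H.up3 p F q hF h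
  · exact H.ufour F hF
  · obtain ⟨e'⟩ := S0822.result (K := ZMod 3) hF (ZMod.card 3)
    exact (hp (.inr <| .inl ⟨ZMod 3, inferInstance, inferInstance, inferInstance, 2, le_rfl,
      fun _ => (ZMod.card 3).ge, ⟨e.trans e'⟩⟩)).elim
  · exact H.utwo F _ hF h.1 h.2

end Cfsg.Agent.TwoF.XL.Red

/-- **the reduction to the small rows** -/
theorem Cfsg.Agent.TwoF.XL.red : Cfsg.Agent.TwoF.XL.Red := fun H =>
  ⟨Cfsg.Agent.TwoF.XL.Red.box_psl H, Cfsg.Agent.TwoF.XL.Red.box_psu H⟩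
end

-- part: TwoF/XL/L2/Main
section
/-!
# TwoF / XL / L2: the rows `L₂(q)`, `q ≥ 11` odd, `p = 2` (helper77)
-/

set_option autoImplicit false

namespace Cfsg.Agent.TwoF.XL.L2

open Matrix Gen Subgroup XE XS
open Cfsg.Agent.ClassicalGeometry.AutPSL.Auto Cfsg.Agent.ClassicalGeometry.AutPSL.Main
open Cfsg.Agent.Omega.TwoF

variable {F : Type} [Field F] [Fintype F]

local notation "S" => ProjectiveSpecialLinearGroup (Fin 2) F

theorem isSquare_mul {a b : F} (ha : ¬ IsSquare a) (hb : ¬ IsSquare b) : IsSquare (a * b) := by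
  classical
  have h0 : a * b ≠ 0 := mul_ne_zero (fun e => ha (e ▸ IsSquare.zero)) fun e => hb (e ▸ IsSquare.zero)
  rw [← quadraticChar_one_iff_isSquare h0, map_mul, quadraticChar_neg_one_iff_not_isSquare.2 ha,
    quadraticChar_neg_one_iff_not_isSquare.2 hb]
  rfl

theorem exists_all (h2 : ¬ IsSquare (2 : F)) : ∃ T : Finset F, T.card = Fintype.card F - 1 ∧
    ∀ t ∈ T, ∃ a : F, a ≠ 0 ∧ (t = a ^ 2 ∨ t = 2 * a ^ 2) := by
  classical
  refine ⟨Finset.univ.erase 0, by rw [Finset.card_erase_of_mem (Finset.mem_univ _), Finset.card_univ], fun t ht => ?_⟩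
  have h0 := Finset.ne_of_mem_erase ht
  have h3 : (2 : F) ≠ 0 := fun e => h2 (e ▸ IsSquare.zero)
  by_cases h : IsSquare t
  · obtain ⟨a, rfl⟩ := h
    exact ⟨a, left_ne_zero_of_mul h0, Or.inl (pow_two a).symm⟩
  · obtain ⟨a, ha⟩ := isSquare_mul h2 h
    refine ⟨a / 2, div_ne_zero (left_ne_zero_of_mul (ha ▸ mul_ne_zero h3 h0)) h3, Or.inr ?_⟩
    field_simp
    linear_combination ha

theorem exists_half : ∃ T : Finset F, Fintype.card F - 1 ≤ 2 * T.card ∧
    ∀ t ∈ T, ∃ a : F, a ≠ 0 ∧ (t = a ^ 2 ∨ t = 2 * a ^ 2) := by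
  classical
  refine ⟨(Finset.univ.erase 0).image (· ^ 2), ?_, fun t ht => ?_⟩
  · rw [← Finset.card_univ, ← Finset.card_erase_of_mem (Finset.mem_univ (0 : F))]
    refine Finset.card_le_mul_card_image _ 2 fun t ht => ?_
    obtain ⟨a, -, rfl⟩ := Finset.mem_image.1 ht
    refine (Finset.card_le_card (t := {a, -a}) fun b hb => ?_).trans Finset.card_le_two
    simpa using sq_eq_sq_iff_eq_or_eq_neg.1 (Finset.mem_filter.1 hb).2
  · obtain ⟨a, ha, rfl⟩ := Finset.mem_image.1 ht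
    exact ⟨a, Finset.ne_of_mem_erase ha, Or.inl rfl⟩

theorem exists_eight (ho : Odd (Fintype.card F)) (hq : 11 ≤ Fintype.card F) : ∃ T : Finset F, 8 ≤ T.card ∧
    ∀ t ∈ T, ∃ a : F, a ≠ 0 ∧ (t = a ^ 2 ∨ t = 2 * a ^ 2) := by
  have h15 : Fintype.card F ≠ 15 := fun e => by
    obtain ⟨p, -, hp⟩ := isPrimePow_iff_unique_prime_dvd.1 (e ▸ FiniteField.isPrimePow_card F)
    exact absurd ((hp 3 ⟨by norm_num, by norm_num⟩).trans (hp 5 ⟨by norm_num, by norm_num⟩).symm) (by norm_num)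
  have h1 := Nat.odd_iff.1 ho
  by_cases h : 17 ≤ Fintype.card F
  · obtain ⟨T, h2, h3⟩ := exists_half (F := F)
    exact ⟨T, by omega, h3⟩
  · obtain ⟨T, h2, h3⟩ := exists_all (F := F) (by rw [FiniteField.isSquare_two_iff]; omega)
    exact ⟨T, by omega, h3⟩

theorem zc (hq : 11 ≤ Fintype.card F) : Zc 2 S 1 := fun K _ _ π h1 h2 => by
  have h3 := card_ker_dvd' (S2086.result rfl 2 le_rfl (fun _ => by omega) (by simp; omega)) K π h1
  rcases (Nat.dvd_prime Nat.prime_two).1 (h3.trans (Nat.gcd_dvd_left _ _)) with h4 | h4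
  · rw [h4]
  · exact (h2 (by rw [h4])).elim

theorem isSquare_neg_one {σ : F ≃+* F} (h1 : σ ≠ 1) (h2 : σ * σ = 1) : IsSquare (-1 : F) := by
  obtain ⟨x, hx⟩ : ∃ x, σ x ≠ x := by
    by_contra! e
    exact h1 (RingEquiv.ext e)
  have key : ∀ y : F, y ≠ 0 → σ y = -y → IsSquare y → IsSquare (-1 : F) := by
    rintro _ h3 h4 ⟨z, rfl⟩
    have h5 := left_ne_zero_of_mul h3
    refine ⟨σ z / z, ?_⟩
    rw [map_mul] at h4
    field_simp
    linear_combination -h4
  have h3 : σ (σ x - x) = -(σ x - x) := by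
    rw [map_sub, show σ (σ x) = x from congrArg (fun τ : F ≃+* F => τ x) h2, neg_sub]
  by_contra h4
  refine h4 (key (-1 * (σ x - x)) (mul_ne_zero (neg_ne_zero.2 one_ne_zero) (sub_ne_zero.2 hx)) ?_
    (isSquare_mul h4 fun h5 => h4 (key _ (sub_ne_zero.2 hx) h3 h5)))
  rw [neg_one_mul, map_neg, h3]

theorem le_card (ho : Odd (Fintype.card F)) (hq : 11 ≤ Fintype.card F) {σ : F ≃+* F} (h1 : σ ≠ 1) (h2 : σ * σ = 1) :
    25 ≤ Fintype.card F := by
  have h3 := FiniteField.isSquare_neg_one_iff.1 (isSquare_neg_one h1 h2)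
  have h4 := Nat.odd_iff.1 ho
  have h21 : Fintype.card F ≠ 21 := fun e => by
    obtain ⟨p, -, hp⟩ := isPrimePow_iff_unique_prime_dvd.1 (e ▸ FiniteField.isPrimePow_card F)
    exact absurd ((hp 3 ⟨by norm_num, by norm_num⟩).trans (hp 7 ⟨by norm_num, by norm_num⟩).symm) (by norm_num)
  by_contra h5
  have hr : (Fintype.card F).Prime := by
    rcases (show Fintype.card F = 13 ∨ Fintype.card F = 17 by omega) with e | e <;> rw [e] <;> norm_num
  refine h1 (RingEquiv.ext fun a => ?_)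
  obtain ⟨x, rfl⟩ := (ZMod.ringEquivOfPrime F hr rfl).surjective a
  exact RingHom.congr_fun (RingHom.ext_zmod (σ.toRingHom.comp (ZMod.ringEquivOfPrime F hr rfl).toRingHom)
    (ZMod.ringEquivOfPrime F hr rfl).toRingHom) x

/-- bounds for the split involutions, for a square in the torus and for the root group -/
structure Bd (F : Type) [Field F] (a b n : ℕ) : Prop where
  dg : ∀ C : GL (Fin 2) F, Dg C → Ps C ^ 2 = 1 → Le 2 (Ps C) a
  tor : ∃ x : Fˣ, Li 2 ((bor F).h x⁻¹ * ((bor F).h x)⁻¹) b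
  rt : Lo 2 ((bor F).U.map MulAut.conj) n

theorem bd (h2 : (2 : F) ≠ 0) (hq : 11 ≤ Fintype.card F) (T : Finset F)
    (hT : ∀ t ∈ T, ∃ a : F, a ≠ 0 ∧ (t = a ^ 2 ∨ t = 2 * a ^ 2)) {a b n o : ℕ} (hn : n ≤ T.card)
    (ha : 2 * (a - 1) < n) (ho : 4 * (o - 1) + 1 < Fintype.card F) (hb : o * (b - 1) < (o - 1) * n) : Bd F a b n := by
  classical
  obtain ⟨r, hr⟩ := CharP.exists F
  have : Fact r.Prime := ⟨CharP.char_is_prime F r⟩
  have hr2 : r ≠ 2 := by
    rintro rfl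
    exact h2 (CharP.cast_eq_zero F 2)
  have h1 := ((bor F).lo_U (zc hq) hr2 T hT h2).le hn
  refine ⟨fun C hC h3 => le_of_inverts (zc hq) (bor F).comm ((Fact.out : r.Prime).odd_of_ne_two hr2) ((bor F).exp r)
    h3 ?_ h1 ha, ?_, h1⟩
  · rintro _ ⟨c, rfl⟩
    rw [hC.u, Bor.neg]
  · obtain ⟨x, hx⟩ := IsCyclic.exists_generator (α := Fˣ)
    refine ⟨x⁻¹, ?_⟩
    rw [← map_inv, ← map_mul, inv_inv]
    refine (bor F).li_h (zc hq) hr2 T hT h2 _ (o := o) ?_ (hb.trans_le (Nat.mul_le_mul_left _ hn))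
    have h3 := orderOf_eq_card_of_forall_mem_zpowers hx
    rw [Nat.card_eq_fintype_card, Fintype.card_units] at h3
    have h4 : orderOf x ≤ 4 * orderOf ((x * x) ^ 2) := Nat.le_of_dvd (Nat.mul_pos four_pos (orderOf_pos _))
      (orderOf_dvd_of_pow_eq_one (by
        rw [pow_mul, show x ^ 4 = (x * x) ^ 2 by rw [← pow_two, ← pow_mul], pow_orderOf_eq_one]))
    omega

omit [Fintype F] in
theorem Ps_conj (P C : GL (Fin 2) F) : Ps (P⁻¹ * C * P) = Ps P⁻¹ * Ps C * (Ps P⁻¹)⁻¹ := by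
  rw [map_mul, map_mul, ← map_inv, inv_inv]

omit [Fintype F] in
/-- every involution of `PGL₂(F)` inverts a split torus -/
theorem Bd.any {a b n c : ℕ} (h : Bd F a b n) (h2 : (2 : F) ≠ 0) (hc : 2 * (c - 1) < b) {C : GL (Fin 2) F}
    (h1 : Ps C ≠ 1) (h3 : Ps C ^ 2 = 1) : Le 2 (Ps C) c := by
  obtain ⟨P, hP⟩ := exists_an h2 (trace_zero h1 h3)
  obtain ⟨x, hx⟩ := h.tor
  refine Le.of_conj (Ps P⁻¹) ?_
  rw [← Ps_conj]
  exact Le.comm ((bor F).h x) (by rwa [hP.h]) hc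

/-- a four-group that contains a split involution -/
theorem Bd.four {b n c : ℕ} (h : Bd F (c - 1) b n) (h2 : (2 : F) ≠ 0) (hq : 11 ≤ Fintype.card F) (hc : c ≤ b)
    {E : Subgroup (MulAut S)} (hE : ∀ α ∈ E, α ^ 2 = 1) {A B : GL (Fin 2) F} (hA : Ps A ∈ E) (hB : Ps B ∈ E)
    (h1 : Ps A ≠ 1) (h3 : Ps B ≠ 1) (h4 : Ps A * Ps B ≠ 1) (hs : IsSquare (-(A : Matrix (Fin 2) (Fin 2) F).det)) :
    Lo 2 E c := by
  obtain ⟨P, hP⟩ := exists_dg h2 (trace_zero h1 (hE _ hA)) hs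
  obtain ⟨x, hx⟩ := h.tor
  have e1 : ∀ C, Ps C ∈ E → Ps (P⁻¹ * C * P) ^ 2 = 1 := fun C hC => by
    rw [Ps_conj, conj_pow, hE _ hC, mul_one, mul_inv_cancel]
  have e2 : ∀ C, Ps C ≠ 1 → Ps (P⁻¹ * C * P) ≠ 1 := fun C hC e => hC (by
    rwa [Ps_conj, mul_inv_eq_one, mul_eq_left] at e)
  have h5 : An (P⁻¹ * B * P) := hP.an h2 (trace_zero (e2 _ h3) (e1 _ hB)) (by
    rw [show P⁻¹ * A * P * (P⁻¹ * B * P) = P⁻¹ * (A * B) * P by group]
    exact trace_zero (e2 _ (by rwa [map_mul])) (e1 _ (by rw [map_mul]; exact mul_mem hA hB)))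
  have e3 : ∀ C, Ps C ∈ E → Ps (P⁻¹ * C * P) ∈ E.map (MulAut.conj (Ps P⁻¹)).toMonoidHom := fun C hC =>
    ⟨_, hC, (Ps_conj P C).symm⟩
  refine Lo.of_conj (Ps P⁻¹) (lo_trick (zc hq) (e3 A hA) (e3 B hB) (hP.h x) (h.dg _ hP (e1 _ hA)) ?_)
  rw [h5.h]
  exact Lo.le hx hc

theorem Bd.four' {b n c : ℕ} (h : Bd F (c - 1) b n) (h2 : (2 : F) ≠ 0) (hq : 11 ≤ Fintype.card F) (hc : c ≤ b)
    {E : Subgroup (MulAut S)} (hE : ∀ α ∈ E, α ^ 2 = 1) {A B : GL (Fin 2) F} (hA : Ps A ∈ E) (hB : Ps B ∈ E)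
    (h1 : Ps A ≠ 1) (h3 : Ps B ≠ 1) (h4 : Ps A ≠ Ps B)
    (hs : IsSquare (-1 : F) ∨ ¬ IsSquare (A : Matrix (Fin 2) (Fin 2) F).det) : Lo 2 E c := by
  have h5 : Ps A * Ps B ≠ 1 := fun e => h4 (mul_right_cancel (e.trans ((pow_two _).symm.trans (hE _ hB)).symm))
  have h6 : Ps B * Ps A ≠ 1 := fun e => h5 (mul_eq_one_comm.1 e)
  by_cases e1 : IsSquare (-(A : Matrix (Fin 2) (Fin 2) F).det)
  · exact h.four h2 hq hc hE hA hB h1 h3 h5 e1
  by_cases e2 : IsSquare (-(B : Matrix (Fin 2) (Fin 2) F).det)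
  · exact h.four h2 hq hc hE hB hA h3 h1 h6 e2
  have h7 : IsSquare (-1 : F) := by
    by_contra e
    refine hs.resolve_left e ?_
    simpa only [_root_.mul_neg, _root_.neg_mul, _root_.one_mul, _root_.neg_neg] using isSquare_mul e e1
  refine h.four h2 hq hc hE (A := A * B) (B := B) (by rw [map_mul]; exact mul_mem hA hB) hB (by rwa [map_mul]) h3
    (by rwa [map_mul, mul_assoc, ← pow_two, hE _ hB, mul_one]) ?_
  rw [Units.val_mul, det_mul]
  simpa only [_root_.mul_neg, _root_.neg_mul, _root_.neg_neg, _root_.one_mul] using h7.mul (isSquare_mul e1 e2)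

theorem exists_third {G : Type*} [Group G] {E : Subgroup G} [Finite E] (h : 2 < Nat.card E) (a : G) :
    ∃ b ∈ E, b ≠ 1 ∧ a ≠ b := by
  by_contra! e
  have h1 : (E : Set G) ⊆ {1, a} := fun b hb => (eq_or_ne b 1).imp id fun h2 => (e b hb h2).symm
  have h2 : Nat.card E ≤ _ := Set.ncard_le_ncard h1 (Set.toFinite _)
  have h3 := Set.ncard_insert_le 1 ({a} : Set G)
  rw [Set.ncard_singleton] at h3
  omega

theorem row89 (ho : Odd (Fintype.card F)) (hq : 11 ≤ Fintype.card F) : Row89 2 S := by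
  obtain ⟨r, hr⟩ := CharP.exists F
  have : Fact r.Prime := ⟨CharP.char_is_prime F r⟩
  have h2 : (2 : F) ≠ 0 := Ring.two_ne_zero fun e => by
    have := FiniteField.even_card_of_char_two e
    have := Nat.odd_iff.1 ho
    omega
  refine row89_of_lo fun E hE hn j h0 hj => ?_
  have hE2 : ∀ x ∈ E, x * x = 1 := fun x hx => (pow_two x).symm.trans (hE.2 x hx)
  by_cases hl : ∀ x ∈ E, ∃ C : GL (Fin 2) F, x = lift (cj C)
  · obtain ⟨T, h3, hT⟩ := exists_eight ho hq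
    have B : Bd F 4 6 8 := bd h2 hq T hT (o := 3) h3 (by norm_num) (by omega) (by norm_num)
    have h4 : j ≤ 2 := (Nat.pow_le_pow_iff_right one_lt_two).1 (hj ▸ RkPSL.card_linear h2 le_rfl E hE2 hl)
    obtain ⟨α, hα, h5⟩ := Set.not_subset.1 hn
    obtain ⟨A, rfl⟩ := hl α hα
    have h6 : Ps A ≠ 1 := fun e => h5 (by rw [← Ps_def, e]; exact one_mem _)
    rcases (show j = 1 ∨ j = 2 by omega) with rfl | rfl
    · exact (B.any h2 (by norm_num) h6 (hE.2 _ hα)).lo hα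
    · obtain ⟨β, hβ, h7, h8⟩ := exists_third (E := E) (by rw [hj]; norm_num) (Ps A)
      obtain ⟨C, rfl⟩ := hl β hβ
      exact Bd.four' (c := 5) B h2 hq (by norm_num) hE.2 hα hβ h6 h7 h8 (Or.inr fun e => h5 (mem_inn e))
  · push Not at hl
    obtain ⟨γ, hγ, h3⟩ := hl
    obtain ⟨C, σ, rfl⟩ := surj_two r γ
    have h4 : σ ≠ 1 := by
      rintro rfl
      exact h3 C (by rw [map_one, mul_one])
    have h5 : σ * σ = 1 := RkPSL.field_sq le_rfl (hE2 _ hγ)
    have h6 := le_card ho hq h4 h5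
    obtain ⟨T, h7, hT⟩ := exists_half (F := F)
    have B : Bd F 6 10 12 := bd h2 hq T hT (o := 6) (by omega) (by norm_num) (by omega) (by norm_num)
    have h8 : j ≤ 3 := (Nat.pow_le_pow_iff_right one_lt_two).1 (hj ▸ RkPSL.rkAut_two h2 E hE2)
    have h9 : Nat.card E ≤ 2 * Nat.card ↥(E ⊓ Ps.range) := RkLin.card_le_two_mul fun x hx hxn y hy hyn => by
      obtain ⟨A, τ, rfl⟩ := surj_two r x
      obtain ⟨D, τ', rfl⟩ := surj_two r y
      have e1 : τ * τ = 1 := RkPSL.field_sq le_rfl (hE2 _ hx)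
      have e2 := RkPSL.field_inv_unique e1 (RkPSL.field_sq le_rfl (hE2 _ hy)) (by
        rintro rfl
        exact hxn ⟨hx, A, by rw [map_one, mul_one]; rfl⟩) (by
        rintro rfl
        exact hyn ⟨hy, D, by rw [map_one, mul_one]; rfl⟩)
      refine ⟨mul_mem hx hy, A * GeneralLinearGroup.map (τ : F →+* F) D, ?_⟩
      rw [RkPSL.semi_mul, ← e2, e1, map_one, mul_one]
      rfl
    rcases (show j = 1 ∨ 2 ≤ j by omega) with rfl | h10
    · refine (le_of_reach B.rt (H915.Gs.reach_two (by omega) _ ?_) (by norm_num)).lo hγ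
      rw [orderOf_eq_prime (hE.2 _ hγ) fun e => h3 1 (by rw [e, map_one, map_one])]
      exact Nat.prime_two
    have h11 : 4 ≤ Nat.card E := hj ▸ Nat.pow_le_pow_right two_pos h10
    obtain ⟨_, ⟨hα, A, rfl⟩, h12⟩ :=
      (E ⊓ Ps.range).bot_or_exists_ne_one.resolve_left ((one_lt_card_iff_ne_bot _).1 (by omega))
    rcases (show j = 2 ∨ j = 3 by omega) with rfl | rfl
    · exact (B.any h2 (by norm_num) h12 (hE.2 _ hα)).lo hα
    · obtain ⟨_, ⟨hβ, D, rfl⟩, h13, h14⟩ := exists_third (E := E ⊓ Ps.range) (by omega) (Ps A)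
      exact Bd.four' (c := 7) B h2 hq (by norm_num) hE.2 hα hβ h12 h13 h14 (Or.inl (isSquare_neg_one h4 h5))

theorem row88 (ho : Odd (Fintype.card F)) : Row88 2 S := by
  have h2 : (2 : F) ≠ 0 := Ring.two_ne_zero fun e => by
    have := FiniteField.even_card_of_char_two e
    have := Nat.odd_iff.1 ho
    omega
  refine row88_of_lo fun E hE j h0 hj => ?_
  have h8 : j ≤ 3 := (Nat.pow_le_pow_iff_right one_lt_two).1
    (hj ▸ RkPSL.rkAut_two h2 E fun x hx => (pow_two x).symm.trans (hE.2 x hx))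
  rw [small_two] at h0
  omega

/-- all odd `q ≥ 11` -/
theorem row (ho : Odd (Fintype.card F)) (hq : 11 ≤ Fintype.card F) : Row 2 S := ⟨row88 ho, row89 ho hq⟩

end Cfsg.Agent.TwoF.XL.L2

namespace Cfsg.Agent.TwoF.XL

/-- **`L₂(q)`, `q` odd, `p = 2`** -/
theorem ltwo : LTwo := fun _ _ _ ho hq _ => L2.row ho hq

end Cfsg.Agent.TwoF.XL
end

-- part: TwoF/XL/UP3
section
/-!
# TwoF / XL: the rows `U₃(4)`, `p = 5` and `U₃(5)`, `p = 3` (helper1)
-/

set_option autoImplicit false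

namespace Cfsg.Agent.TwoF.XL

open Module Gen XE Subgroup Matrix
open Cfsg.Agent.ClassicalGeometry Cfsg.Agent.LieClassical.SUBasic

section Three

variable {p : ℕ} [Fact p.Prime] {S : Type} [Group S]

theorem not_card_prime {E : Subgroup S} {s : S} (hc : Nat.card E = p) (hn : ∀ x ∈ E, s * x * s⁻¹ ∈ E)
    (hN : ∀ x ∈ E, x * (s * x * s⁻¹) * (s * (s * x * s⁻¹) * s⁻¹) = 1) (hp : ∀ k : ℤ, ¬ (p : ℤ) ∣ 1 + k + k * k) :
    False := by
  have hpp : p.Prime := Fact.out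
  have : Finite E := Nat.finite_of_card_ne_zero (hc ▸ hpp.ne_zero)
  obtain ⟨⟨x, hx⟩, x1⟩ := ne_bot_iff_exists_ne_one.1 (show E ≠ ⊥ from fun e => hpp.one_lt.ne' (by rw [← hc, e, card_bot]))
  have ho : orderOf x = p :=
    orderOf_eq_prime (congrArg Subtype.val (hc ▸ pow_card_eq_one' (x := (⟨x, hx⟩ : E)))) fun e => x1 (Subtype.ext e)
  have he : zpowers x = E := eq_of_le_of_card_ge (zpowers_le.2 hx) (by rw [Nat.card_zpowers, ho, hc])
  obtain ⟨k, hk⟩ := mem_zpowers_iff.1 (he.ge (hn x hx))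
  have h := hN x hx
  rw [← hk, ← conj_zpow, ← hk, ← _root_.zpow_mul, ← _root_.zpow_one_add, ← _root_.zpow_add] at h
  exact hp k (ho ▸ orderOf_dvd_iff_zpow_eq_one.2 h)

/-- a Sylow subgroup of order `p ^ 2` with an element that permutes `a`, `b`, `c` cyclically, `a * b * c = 1` -/
theorem row88_of_three [Finite S] (h3 : ¬ p ^ 3 ∣ Nat.card (MulAut S)) (hp : ∀ k : ℤ, ¬ (p : ℤ) ∣ 1 + k + k * k)
    {a b c s : S} (a1 : a ≠ 1) (ap : a ^ p = 1) (ab : a * b = b * a) (abc : a * b * c = 1) (sa : s * a = b * s)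
    (sb : s * b = c * s) : Row88 p S := by
  have hpp : p.Prime := Fact.out
  replace sa : s * a * s⁻¹ = b := by rw [sa, mul_inv_cancel_right]
  replace sb : s * b * s⁻¹ = c := by rw [sb, mul_inv_cancel_right]
  have hc : c = (a * b)⁻¹ := eq_inv_of_mul_eq_one_right abc
  have sc : s * c * s⁻¹ = a := by
    rw [hc, ← conj_inv, ← conj_mul, sa, sb, inv_eq_iff_mul_eq_one, hc]
    group
  have bp : b ^ p = 1 := by rw [← sa, conj_pow, ap, mul_one, mul_inv_cancel]
  have hab : Commute a b := ab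
  let f : zpowers a × zpowers b →* S := MonoidHom.noncommCoprod (zpowers a).subtype (zpowers b).subtype (by
    rintro ⟨_, i, rfl⟩ ⟨_, j, rfl⟩
    exact hab.zpow_zpow i j)
  have hf : ∀ x, x ∈ f.range ↔ ∃ i j : ℤ, a ^ i * b ^ j = x := fun x =>
    ⟨by rintro ⟨⟨⟨_, i, rfl⟩, _, j, rfl⟩, rfl⟩; exact ⟨i, j, rfl⟩,
      by rintro ⟨i, j, rfl⟩; exact ⟨(⟨_, i, rfl⟩, ⟨_, j, rfl⟩), rfl⟩⟩
  have ma : a ∈ f.range := (hf _).2 ⟨1, 0, by simp⟩
  have mb : b ∈ f.range := (hf _).2 ⟨0, 1, by simp⟩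
  have mc : c ∈ f.range := hc ▸ inv_mem (mul_mem ma mb)
  have cm : ∀ x ∈ f.range, ∀ y ∈ f.range, Commute x y := fun x hx y hy => by
    obtain ⟨i, j, rfl⟩ := (hf _).1 hx
    obtain ⟨k, l, rfl⟩ := (hf _).1 hy
    exact (((Commute.refl a).zpow_zpow i k).mul_right (hab.zpow_zpow i l)).mul_left
      ((hab.symm.zpow_zpow j k).mul_right ((Commute.refl b).zpow_zpow j l))
  have nm : ∀ y ∈ f.range, s * y * s⁻¹ ∈ f.range := fun y hy => by
    obtain ⟨i, j, rfl⟩ := (hf _).1 hy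
    rw [← conj_mul, ← conj_zpow, ← conj_zpow, sa, sb]
    exact mul_mem (zpow_mem mb i) (zpow_mem mc j)
  have hN : ∀ x ∈ f.range, x * (s * x * s⁻¹) * (s * (s * x * s⁻¹) * s⁻¹) = 1 := fun x hx => by
    obtain ⟨i, j, rfl⟩ := (hf _).1 hx
    rw [← conj_mul, ← conj_zpow, ← conj_zpow, sa, sb, ← conj_mul, ← conj_zpow, ← conj_zpow, sb, sc,
      (cm _ (zpow_mem mb j) _ (zpow_mem mb i)).mul_mul_mul_comm,
      (cm _ (mul_mem (zpow_mem mb j) (zpow_mem mc j)) _ (zpow_mem mc i)).mul_mul_mul_comm, ← hab.mul_zpow,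
      ← (cm _ mb _ mc).mul_zpow, ← (cm _ (mul_mem ma mb) _ mc).mul_zpow, ← (cm _ (mul_mem mb mc) _ ma).mul_zpow, abc,
      (cm _ (mul_mem mb mc) _ ma).eq, ← mul_assoc, abc, _root_.one_zpow, _root_.one_zpow, one_mul]
  have hP : Nat.card f.range = p ^ 2 := by
    have h1 : Nat.card f.range ∣ p ^ 2 := by
      refine (card_dvd_of_surjective f.rangeRestrict f.rangeRestrict_surjective).trans ?_
      rw [Nat.card_prod, Nat.card_zpowers, Nat.card_zpowers, pow_two]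
      exact mul_dvd_mul (orderOf_dvd_of_pow_eq_one ap) (orderOf_dvd_of_pow_eq_one bp)
    obtain ⟨i, hi, h2⟩ := (Nat.dvd_prime_pow hpp).1 h1
    interval_cases i
    · exact absurd (mem_bot.1 ((card_eq_one.1 h2).le ma)) a1
    · exact (not_card_prime (h2.trans (pow_one p)) nm hN hp).elim
    · exact h2
  have ns : s ∈ normalizer (f.range : Set S) := mem_normalizer_fintype nm
  refine XS.row88_of_sq h3 hP le_rfl fun E hE hn => ?_
  by_contra h
  rw [not_or] at h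
  exact not_card_prime (XS.card_eq_of_sq hP hE h.1 h.2) (hn s ns) (fun x hx => hN x (hE hx)) hp

end Three

section Mat

variable {F : Type} [Field F] {n q : ℕ}

theorem perm_diag (τ : Equiv.Perm (Fin n)) (d : Fin n → F) :
    τ.permMatrix F * diagonal d = diagonal (fun i => d (τ i)) * τ.permMatrix F := by
  ext i j
  rw [mul_diagonal, diagonal_mul, Equiv.Perm.permMatrix, PEquiv.toMatrix_apply]
  split_ifs with h
  · rw [Equiv.toPEquiv_apply, Option.mem_some_iff] at h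
    rw [h, mul_comm]
  · rw [zero_mul, mul_zero]

theorem su_ext {A B : SU n F q} (h : (A.1 : Matrix (Fin n) (Fin n) F) = B.1) : A = B := Subtype.ext (Subtype.ext h)

end Mat

variable {F : Type} [Field F] [Fintype F]

theorem row_U34 (hF : Fintype.card F = 4 ^ 2) : haveI : Fact (Nat.Prime 5) := ⟨by norm_num⟩; Row 5 (PSU 3 F 4) := by
  have h : ∀ y : ZMod 5, 1 + y + y * y ≠ 0 := by decide
  have : Fact (Nat.Prime 5) := ⟨by norm_num⟩
  have := finU 3 F 4
  have ho : Nat.card (Out (PSU 3 F 4)) = 4 := outU (r := 2) (f := 2) Nat.prime_two (by omega) rfl hF le_rfl (by omega)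
  have hs : Nat.card (PSU 3 F 4) = 62400 := cardU hF (by omega) (by decide)
  refine ⟨?_, row89_of_not_dvd (by rw [ho]; decide)⟩
  obtain ⟨x, x5, x1⟩ := exists_norm_one hF
  replace x5 : x ^ 5 = 1 := x5
  have n1 : ∀ k : ℕ, (x ^ k) ^ (4 + 1) = 1 := fun k => by rw [← pow_mul, mul_comm, pow_mul, x5, one_pow]
  let D : ∀ i j k : ℕ, (i + j + k) % 5 = 0 → SU 3 F 4 := fun i j k h => suDiag 4 ![x ^ i, x ^ j, x ^ k] (by
    rw [Fin.prod_univ_three]
    change x ^ i * x ^ j * x ^ k = 1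
    rw [← pow_add, ← pow_add, ← Nat.mod_add_div (i + j + k) 5, h, zero_add, pow_mul, x5, one_pow])
    (fun l => by fin_cases l <;> exact n1 _)
  let s : SU 3 F 4 := suPerm 4 (finRotate 3) (by decide)
  have sD : ∀ i j k h h', s * D i j k h = D j k i h' * s := fun i j k h h' => su_ext (by
    change (finRotate 3).permMatrix F * diagonal _ = diagonal _ * (finRotate 3).permMatrix F
    rw [perm_diag]
    congr 2
    funext l
    fin_cases l <;> rfl)
  let π := PSUAutBasic.pr 3 F 4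
  refine row88_of_three (a := π (D 1 4 0 rfl)) (b := π (D 4 0 1 rfl)) (c := π (D 0 1 4 rfl)) (s := π s)
    (by rw [card_aut (centerU hF le_rfl (by omega)), hs, ho]; decide) (fun k hk => ?_) (fun e => ?_) ?_ ?_ ?_
    (by rw [← map_mul, ← map_mul, sD _ _ _ rfl rfl]) (by rw [← map_mul, ← map_mul, sD _ _ _ rfl rfl])
  · refine h (k : ZMod 5) ?_
    exact_mod_cast (ZMod.intCast_zmod_eq_zero_iff_dvd _ 5).2 hk
  · have h := diag_eq le_rfl (PSUAutBasic.pr_eq_one_iff.1 e) 0 2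
    exact x1 (by simpa only [D, coe_suDiag, _root_.pow_one, _root_.pow_zero, _root_.Fin.isValue, _root_.Matrix.diagonal_apply_eq, _root_.Matrix.cons_val_zero, _root_.Matrix.cons_val] using h)
  · rw [← map_pow, ← map_one π]
    refine congrArg π (su_ext ?_)
    change diagonal _ ^ 5 = 1
    rw [diagonal_pow, ← diagonal_one]
    congr 1
    funext l
    fin_cases l <;> exact n1 _
  · rw [← map_mul, ← map_mul]
    refine congrArg π (su_ext ?_)
    change diagonal _ * diagonal _ = diagonal _ * diagonal _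
    rw [diagonal_mul_diagonal, diagonal_mul_diagonal]
    congr 1
    funext l
    exact mul_comm _ _
  · rw [← map_mul, ← map_mul, ← map_one π]
    refine congrArg π (su_ext ?_)
    change diagonal _ * diagonal _ * diagonal _ = 1
    rw [diagonal_mul_diagonal, diagonal_mul_diagonal, ← diagonal_one]
    congr 1
    funext l
    (revert l; simp only [_root_.Fin.forall_fin_succ, _root_.pow_one, _root_.pow_zero, Fin.isValue, _root_.Matrix.cons_val_zero, _root_.mul_one, _root_.Matrix.cons_val_succ, _root_.Matrix.cons_val_fin_one, _root_.one_mul, _root_.forall_const]) <;> (repeat' with_reducible apply And.intro) <;> linear_combination x5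

/-- the `3`-rank of `Aut U₃(q)` if `3` divides `q + 1` and `81` does not divide the order -/
theorem rank_U3 {q : ℕ} (hF : Fintype.card F = q ^ 2) (h3 : 3 ∣ q + 1) (h : ¬ 3 ^ 4 ∣ Nat.card (MulAut (PSU 3 F q)))
    (E : Subgroup (MulAut (PSU 3 F q))) (hE : IsElementaryAbelian 3 E) : Nat.card E ≤ 3 ^ 2 := by
  have := finU 3 F q
  have : Finite (MulAut (PSU 3 F q)) := Finite.of_injective _ (DFunLike.coe_injective (F := MulAut (PSU 3 F q)))
  obtain ⟨x, x3, x1⟩ : ∃ x : F, x ^ 3 = 1 ∧ x ≠ 1 := by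
    obtain ⟨u, hu⟩ := exists_prime_orderOf_dvd_card' (G := rootsOfUnity (q + 1) F) 3
      (by rwa [GUBasic.card_rootsOfUnity_eq hF])
    refine ⟨((u : Fˣ) : F), ?_, fun e => ?_⟩
    · rw [← Units.val_pow_eq_pow_val, ← Subgroup.coe_pow, ← hu, pow_orderOf_eq_one]; rfl
    · rw [show u = 1 from Subtype.ext (Units.ext e), orderOf_one] at hu
      omega
  have n3 : ∀ k : ℕ, (x ^ k) ^ 3 = 1 := fun k => by rw [← pow_mul, mul_comm, pow_mul, x3, one_pow]
  have n1 : ∀ k : ℕ, (x ^ k) ^ (q + 1) = 1 := fun k => by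
    obtain ⟨m, hm⟩ := h3
    rw [hm, pow_mul, n3, one_pow]
  let D : ℕ → ℕ → ℕ → GU 3 F q := fun i j k => GUBasic.guDiag q ![x ^ i, x ^ j, x ^ k]
    (fun l => by fin_cases l <;> exact n1 _)
  let s : GU 3 F q := GUBasic.guPerm q (finRotate 3)
  let f : GU 3 F q →* MulAut (PSU 3 F q) := MonoidHom.mk' (fun A => PSUAutCount.toAut A 1) (H740.Cyc.toAut_mul_one hF)
  have sD : ∀ i j k, s * D i j k = D j k i * s := fun i j k => PSUAutCount.gm_inj (by
    change (finRotate 3).permMatrix F * diagonal _ = diagonal _ * (finRotate 3).permMatrix F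
    rw [perm_diag]
    congr 2
    funext l
    fin_cases l <;> rfl)
  have DD : ∀ i j k i' j' k', D i j k * D i' j' k' = D (i + i') (j + j') (k + k') := fun i j k i' j' k' =>
    PSUAutCount.gm_inj (by
      change diagonal _ * diagonal _ = diagonal _
      rw [diagonal_mul_diagonal]
      congr 1
      funext l
      fin_cases l <;> exact (pow_add _ _ _).symm)
  have Dc : ∀ i j k, D (i + 3) j k = D i j k ∧ D i (j + 3) k = D i j k ∧ D i j (k + 3) = D i j k := fun i j k => by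
    simp only [D, pow_add, x3, mul_one, and_self]
  have D1 : ∀ i, f (D i i i) = 1 := fun i => H740.Cyc.toAut_eq_one_of_scalar hF (n1 i) (by
    change diagonal _ = _
    rw [smul_one_eq_diagonal]
    congr 1
    funext l
    fin_cases l <;> rfl)
  have D3 : ∀ i j k, f (D i j k) ^ 3 = 1 := fun i j k => by
    rw [← map_pow, ← map_one f]
    refine congrArg f (PSUAutCount.gm_inj ?_)
    change diagonal _ ^ 3 = 1
    rw [diagonal_pow, ← diagonal_one]
    congr 1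
    funext l
    fin_cases l <;> exact n3 _
  have R : H859.Heis.Rel 3 (f s) (f (D 0 0 1)) (f (D 0 2 1)) := by
    refine ⟨?_, D3 _ _ _, D3 _ _ _, ?_, ?_, ?_, fun e => ?_⟩
    · rw [← map_pow, ← map_one f]
      refine congrArg f (PSUAutCount.gm_inj ?_)
      change (finRotate 3).permMatrix F ^ 3 = 1
      ext i j
      (revert i j; simp only [pow_succ, mul_apply, Fin.sum_univ_three, Equiv.Perm.permMatrix, PEquiv.toMatrix_apply, _root_.Fin.forall_fin_succ, _root_.pow_zero, _root_.one_mul, _root_.Equiv.toPEquiv_apply, _root_.finRotate_apply, Fin.isValue, _root_.Option.mem_def, _root_.Option.some.injEq, _root_.mul_ite, _root_.mul_one, _root_.MulZeroClass.mul_zero, _root_.zero_add, Fin.reduceAdd, _root_.add_eq_right, _root_.one_ne_zero, ↓reduceIte, Fin.reduceEq, _root_.add_zero, _root_.zero_ne_one, _root_.Fin.succ_zero_eq_one, _root_.Fin.succ_one_eq_two, _root_.IsEmpty.forall_iff, _root_.and_true, _root_.Matrix.one_apply_eq,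 Nat.reduceAdd, _root_.ne_eq, _root_.not_false_eq_true, _root_.Matrix.one_apply_ne, _root_.and_self, _root_.Fin.succ_ne_zero, _root_.true_and])
    · rw [← map_mul, sD, map_mul, ← mul_one (f (D 0 2 1)), ← D1 2, ← map_mul f (D 0 2 1), DD, (Dc 2 1 (1 + 2)).2.1,
        (Dc 2 1 0).2.2]
    · rw [← map_mul, ← map_mul, DD, DD]
    · rw [← map_mul, ← map_mul, ← map_mul, mul_assoc, DD, sD, map_mul, map_mul, ← mul_one (f (D 0 0 1)), ← D1 2,
        ← map_mul f (D 0 0 1), DD, (Dc 2 2 0).2.2]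
    · obtain ⟨-, c, -, hc⟩ := PSUAutCount.eq_of_toAut_eq hF le_rfl (H740.Cyc.toAut_one_one.trans e.symm)
      have h0 := congrFun (congrFun hc 0) 0
      have h2 := congrFun (congrFun hc 2) 2
      change diagonal _ 0 0 = c * (1 : Matrix (Fin 3) (Fin 3) F) 0 0 at h0
      change diagonal _ 2 2 = c * (1 : Matrix (Fin 3) (Fin 3) F) 2 2 at h2
      simp at h0 h2
      exact x1 (h2.trans h0.symm)
  refine card_le_of_not_elemAb h (H859.Heis.isPGroup R) (fun e => H859.Heis.not_comm R ?_) E hE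
  exact elemAb_comm e (H859.Heis.b_mem R) (H859.Heis.a_mem R)

theorem row_U35 (hF : Fintype.card F = 5 ^ 2) : Row 3 (PSU 3 F 5) := by
  have := finU 3 F 5
  have ho : Nat.card (Out (PSU 3 F 5)) = 6 := outU (r := 5) (f := 1) (by norm_num) le_rfl rfl hF le_rfl (by omega)
  have hs : Nat.card (PSU 3 F 5) = 126000 := cardU hF (by omega) (by decide)
  exact (noOff_of_reach (k := 4) (m := 2) (fun x hx => reach_U3 hF (by omega) (hx ▸ Nat.prime_three))
    (rank_U3 hF (by decide) (by rw [card_aut (centerU hF le_rfl (by omega)), hs, ho]; decide))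
    (lbU hF (by decide) le_rfl (by omega) (by unfold ExU; decide)) (by decide)).row

theorem up3 : UP3 := by
  rintro p _ F _ _ q hF (⟨rfl, rfl⟩ | ⟨rfl, rfl⟩)
  · exact row_U34 hF
  · exact row_U35 hF

end Cfsg.Agent.TwoF.XL
end

-- part: TwoF/XL/U43/Wt
section
/-!
# TwoF XL-U43: the weights of the preimage of `3⁴` under `A₆` (helper87)
-/

set_option autoImplicit false

namespace Cfsg.Agent.TwoF.XL.U43

open Module Gen Cfsg.Agent.SporadicStructure.PermChain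

/-- the algebraic closure -/
abbrev kb : Type := AlgebraicClosure (ZMod 2)

theorem exists_om : ∃ ω : kbˣ, orderOf ω = 3 ∧ ∀ u : kbˣ, u ^ 3 = 1 → ∃ i < 3, ω ^ i = u := by
  have : NeZero ((3 : ℕ) : kb) := ⟨fun h => absurd ((CharP.cast_eq_zero_iff kb 2 3).1 h) (by norm_num)⟩
  obtain ⟨ζ, hζ⟩ := HasEnoughRootsOfUnity.exists_primitiveRoot kb 3
  lift ζ to kbˣ using hζ.isUnit (by norm_num)
  refine ⟨ζ, (IsPrimitiveRoot.coe_units_iff.1 hζ).eq_orderOf.symm, fun u hu => ?_⟩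
  obtain ⟨i, hi, e⟩ := hζ.eq_pow_of_pow_eq_one (ξ := (u : kb)) (by rw [← Units.val_pow_eq_pow_val, hu, Units.val_one])
  exact ⟨i, hi, Units.ext (by rw [Units.val_pow_eq_pow_val, e])⟩

/-- a primitive cube root of unity -/
noncomputable def om : kbˣ := exists_om.choose

open Classical in
/-- the logarithm -/
noncomputable def lg (u : kbˣ) : ℕ := if h : ∃ i < 3, om ^ i = u then h.choose else 0

theorem lg_lt (u : kbˣ) : lg u < 3 := by
  unfold lg; split_ifs with h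
  · exact h.choose_spec.1
  · norm_num

theorem om_lg {u : kbˣ} (h : u ^ 3 = 1) : u = om ^ lg u := by
  have h' : ∃ i < 3, om ^ i = u := exists_om.choose_spec.2 u h
  rw [lg, dif_pos h']; exact h'.choose_spec.2.symm

theorem om_inj {a b : ℕ} : om ^ a = om ^ b ↔ a % 3 = b % 3 := by
  rw [pow_eq_pow_iff_modEq, show orderOf om = 3 from exists_om.choose_spec.1]; rfl

theorem lg_eq {u : kbˣ} {n : ℕ} (h : u = om ^ n) : lg u = n % 3 := by
  have h3 : u ^ 3 = 1 := by rw [h, ← pow_mul, ← pow_zero om, om_inj]; omega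
  rw [← om_inj.1 ((om_lg h3).symm.trans h), Nat.mod_eq_of_lt (lg_lt u)]

theorem comm_closure {Y : Type*} [Group Y] {S : Set Y} (h : ∀ a ∈ S, ∀ b ∈ S, a * b = b * a) :
    ∀ a ∈ Subgroup.closure S, ∀ b ∈ Subgroup.closure S, a * b = b * a := by
  have h1 : Subgroup.closure S ≤ Subgroup.centralizer S :=
    (Subgroup.closure_le _).2 fun a ha => Subgroup.mem_centralizer_iff.2 fun b hb => h b hb a ha
  have h2 : Subgroup.closure S ≤ Subgroup.centralizer (Subgroup.closure S : Set Y) :=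
    (Subgroup.closure_le _).2 fun a ha => Subgroup.mem_centralizer_iff.2 fun b hb =>
      (Subgroup.mem_centralizer_iff.1 (h1 hb) a ha).symm
  exact fun a ha b hb => (Subgroup.mem_centralizer_iff.1 (h2 ha) b hb).symm

variable {Y : Type} [Group Y]

/-- lifts of the generators of `3⁴ : A₆` -/
structure Dat (K : Subgroup Y) where
  r0 : Y
  r1 : Y
  r2 : Y
  r3 : Y
  x : Y
  y : Y
  z0 : Y
  z1 : Y
  z2 : Y
  z3 : Y
  cent : Subgroup.centralizer (K : Set Y) ≤ K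
  odd : ¬ 2 ∣ Nat.card (Subgroup.centralizer (K : Set Y))
  rK : ∀ a ∈ ({r0, r1, r2, r3} : Set Y), a ∈ K
  xK : x ∈ K
  yK : y ∈ K
  h0 : z0 ∈ Subgroup.centralizer (K : Set Y)
  h1 : z1 ∈ Subgroup.centralizer (K : Set Y)
  h2 : z2 ∈ Subgroup.centralizer (K : Set Y)
  h3 : z3 ∈ Subgroup.centralizer (K : Set Y)
  comm : ∀ a ∈ ({r0, r1, r2, r3} : Set Y), ∀ b ∈ ({r0, r1, r2, r3} : Set Y), a * b = b * a
  cube : ∀ a ∈ ({r0, r1, r2, r3} : Set Y), a ^ 3 = 1
  x0 : x⁻¹ * r0 * x = r1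
  x1 : x⁻¹ * r1 * x = r2
  x2 : x⁻¹ * r2 * x = r3
  x3 : x⁻¹ * r3 * x = (r0 * r1 * r2 * r3)⁻¹
  y0 : y⁻¹ * r0 * y = r0 * z0
  y1 : y⁻¹ * r1 * y = r1 * z1
  y2 : y⁻¹ * r2 * y = r2 * r3 * z2
  y3 : y⁻¹ * r3 * y = r0 * r1 ^ 2 * r3 * z3
  hrel : (rel.map fun s => bif Nat.beq s 3 then x else y).prod ∈ Subgroup.centralizer (K : Set Y)

namespace Dat

variable {K : Subgroup Y} (D : Dat K)

/-- the abelian group -/
def R : Subgroup Y := Subgroup.closure ({D.r0, D.r1, D.r2, D.r3} ∪ (Subgroup.centralizer (K : Set Y) : Set Y))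

theorem r_mem {a : Y} (h : a ∈ ({D.r0, D.r1, D.r2, D.r3} : Set Y)) : a ∈ D.R := Subgroup.subset_closure (Or.inl h)
theorem c_mem {a : Y} (h : a ∈ Subgroup.centralizer (K : Set Y)) : a ∈ D.R := Subgroup.subset_closure (Or.inr h)
theorem m0 : D.r0 ∈ D.R := D.r_mem (by simp)
theorem m1 : D.r1 ∈ D.R := D.r_mem (by simp)
theorem m2 : D.r2 ∈ D.R := D.r_mem (by simp)
theorem m3 : D.r3 ∈ D.R := D.r_mem (by simp)

theorem R_le : D.R ≤ K := (Subgroup.closure_le _).2 fun a h => h.elim (D.rK a) fun h => D.cent h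

theorem R_comm : ∀ a ∈ D.R, ∀ b ∈ D.R, a * b = b * a := comm_closure fun a ha b hb => by
  rcases ha with ha | ha
  · rcases hb with hb | hb
    · exact D.comm a ha b hb
    · exact Subgroup.mem_centralizer_iff.1 hb a (D.rK a ha)
  · exact (Subgroup.mem_centralizer_iff.1 ha b (hb.elim (D.rK b) fun h => D.cent h)).symm

theorem R_card [Finite Y] : (Nat.card D.R : kb) ≠ 0 := fun h => by
  obtain ⟨a, ha⟩ := exists_prime_orderOf_dvd_card' 2 ((CharP.cast_eq_zero_iff kb 2 _).1 h)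
  have key : ∀ g ∈ D.R, g ^ (3 * Nat.card (Subgroup.centralizer (K : Set Y))) = 1 := fun g hg => by
    induction hg using Subgroup.closure_induction with
    | mem g hg =>
      rcases hg with hg | hg
      · rw [pow_mul, D.cube g hg, one_pow]
      · rw [pow_mul']
        exact (congrArg (· ^ 3) (congrArg Subtype.val (pow_card_eq_one' (x := ⟨g, hg⟩)))).trans (one_pow 3)
    | one => exact one_pow _
    | mul a b ha hb h1 h2 => rw [(show Commute a b from D.R_comm a ha b hb).mul_pow, h1, h2, mul_one]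
    | inv a _ h => rw [inv_pow, h, inv_one]
  have := orderOf_dvd_of_pow_eq_one (key a a.2)
  rw [Subgroup.orderOf_coe, ha] at this
  exact D.odd ((Nat.Coprime.dvd_mul_left (by norm_num)).1 this)

theorem conj_c {g c : Y} (hg : g ∈ K) (hc : c ∈ Subgroup.centralizer (K : Set Y)) : g⁻¹ * c * g = c := by
  rw [mul_assoc, ← Subgroup.mem_centralizer_iff.1 hc g hg, inv_mul_cancel_left]

theorem norm_of [Finite Y] {g : Y} (hg : g ∈ K) (h : ∀ a ∈ ({D.r0, D.r1, D.r2, D.r3} : Set Y), g⁻¹ * a * g ∈ D.R) :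
    g ∈ Subgroup.normalizer (D.R : Set Y) := by
  refine inv_mem_iff.1 (Subgroup.mem_normalizer_fintype (HN.PC.conj_closure fun a ha => ?_))
  rw [inv_inv]
  rcases ha with ha | ha
  · exact h a ha
  · rw [conj_c hg ha]; exact D.c_mem ha

theorem xN [Finite Y] : D.x ∈ Subgroup.normalizer (D.R : Set Y) := D.norm_of D.xK (by
  rintro a (rfl | rfl | rfl | rfl)
  · rw [D.x0]; exact D.m1
  · rw [D.x1]; exact D.m2
  · rw [D.x2]; exact D.m3
  · rw [D.x3]; exact inv_mem (mul_mem (mul_mem (mul_mem D.m0 D.m1) D.m2) D.m3))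

theorem yN [Finite Y] : D.y ∈ Subgroup.normalizer (D.R : Set Y) := D.norm_of D.yK (by
  rintro a (rfl | rfl | rfl | rfl)
  · rw [D.y0]; exact mul_mem D.m0 (D.c_mem D.h0)
  · rw [D.y1]; exact mul_mem D.m1 (D.c_mem D.h1)
  · rw [D.y2]; exact mul_mem (mul_mem D.m2 D.m3) (D.c_mem D.h2)
  · rw [D.y3]; exact mul_mem (mul_mem (mul_mem D.m0 (pow_mem D.m1 2)) D.m3) (D.c_mem D.h3))

/-! ### labels -/

open Classical in
/-- the value of a character -/
noncomputable def v (χ : D.R →* kbˣ) (g : Y) : kbˣ := if h : g ∈ D.R then χ ⟨g, h⟩ else 1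

variable {D}

theorem v_eq (χ : D.R →* kbˣ) {g : Y} (h : g ∈ D.R) : D.v χ g = χ ⟨g, h⟩ := dif_pos h

theorem v_mul (χ : D.R →* kbˣ) {a b : Y} (ha : a ∈ D.R) (hb : b ∈ D.R) : D.v χ (a * b) = D.v χ a * D.v χ b := by
  rw [v_eq χ ha, v_eq χ hb, v_eq χ (mul_mem ha hb), ← map_mul]; rfl

theorem v_pow (χ : D.R →* kbˣ) {a : Y} (ha : a ∈ D.R) (n : ℕ) : D.v χ (a ^ n) = D.v χ a ^ n := by
  rw [v_eq χ ha, v_eq χ (pow_mem ha n), ← map_pow]; rfl

theorem v_inv (χ : D.R →* kbˣ) {a : Y} (ha : a ∈ D.R) : D.v χ a⁻¹ = (D.v χ a)⁻¹ := by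
  rw [v_eq χ ha, v_eq χ (inv_mem ha), ← map_inv]; rfl

theorem v_sq (χ : D.R →* kbˣ) {a : Y} (ha : a ∈ D.R) : D.v (χ ^ 2) a = D.v χ a ^ 2 := by
  rw [v_eq χ ha, v_eq _ ha]; rfl

theorem v_tw (χ : D.R →* kbˣ) {g a : Y} (hg : g ∈ Subgroup.normalizer (D.R : Set Y)) (ha : a ∈ D.R) :
    D.v (tw g hg χ) a = D.v χ (g⁻¹ * a * g) := by
  rw [v_eq _ ha, v_eq _ (conj_mem_of_normalizer hg ha)]; rfl

theorem v_om (χ : D.R →* kbˣ) {a : Y} (ha : a ∈ D.R) (h : a ^ 3 = 1) : D.v χ a = om ^ lg (D.v χ a) :=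
  om_lg (by rw [← v_pow χ ha, h, v_eq χ (one_mem _)]; exact map_one χ)

theorem cube_z {g r e z : Y} (h : g⁻¹ * r * g = e * z) (hr : r ^ 3 = 1) (he : e ^ 3 = 1) (heK : e ∈ K)
    (hz : z ∈ Subgroup.centralizer (K : Set Y)) : z ^ 3 = 1 := by
  have h1 : (e * z) ^ 3 = 1 := by
    rw [← h, show g⁻¹ * r * g = g⁻¹ * r * g⁻¹⁻¹ by rw [inv_inv], conj_pow, hr, mul_one, mul_inv_cancel]
  rwa [(show Commute e z from Subgroup.mem_centralizer_iff.1 hz e heK).mul_pow, he, one_mul] at h1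

theorem cube_mul {a b : Y} (ha : a ∈ D.R) (hb : b ∈ D.R) (h1 : a ^ 3 = 1) (h2 : b ^ 3 = 1) : (a * b) ^ 3 = 1 := by
  rw [(show Commute a b from D.R_comm a ha b hb).mul_pow, h1, h2, mul_one]

theorem cube_pow {a : Y} (h : a ^ 3 = 1) (n : ℕ) : (a ^ n) ^ 3 = 1 := by rw [← pow_mul, mul_comm, pow_mul, h, one_pow]

variable (D)
theorem c0 : D.r0 ^ 3 = 1 := D.cube _ (by simp)
theorem c1 : D.r1 ^ 3 = 1 := D.cube _ (by simp)
theorem c2 : D.r2 ^ 3 = 1 := D.cube _ (by simp)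
theorem c3 : D.r3 ^ 3 = 1 := D.cube _ (by simp)
theorem d0 : D.z0 ^ 3 = 1 := cube_z D.y0 D.c0 D.c0 (D.R_le D.m0) D.h0
theorem d1 : D.z1 ^ 3 = 1 := cube_z D.y1 D.c1 D.c1 (D.R_le D.m1) D.h1
theorem d2 : D.z2 ^ 3 = 1 := cube_z D.y2 D.c2 (cube_mul D.m2 D.m3 D.c2 D.c3) (D.R_le (mul_mem D.m2 D.m3)) D.h2
theorem d3 : D.z3 ^ 3 = 1 :=
  cube_z D.y3 D.c3 (cube_mul (mul_mem D.m0 (pow_mem D.m1 2)) D.m3 (cube_mul D.m0 (pow_mem D.m1 2) D.c0
    (cube_pow D.c1 2)) D.c3) (D.R_le (mul_mem (mul_mem D.m0 (pow_mem D.m1 2)) D.m3)) D.h3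

/-- the restriction to the complement -/
noncomputable def mm (χ : D.R →* kbˣ) : ℕ :=
  cd (lg (D.v χ D.r0)) (lg (D.v χ D.r1)) (lg (D.v χ D.r2)) (lg (D.v χ D.r3))

/-- the translation -/
noncomputable def dd (χ : D.R →* kbˣ) : ℕ :=
  cd (lg (D.v χ D.z0)) (lg (D.v χ D.z1)) (lg (D.v χ D.z2)) (lg (D.v χ D.z3))

theorem mm_lt (χ : D.R →* kbˣ) : D.mm χ < 81 := cd_lt (lg_lt _) (lg_lt _) (lg_lt _) (lg_lt _)
theorem dd_lt (χ : D.R →* kbˣ) : D.dd χ < 81 := cd_lt (lg_lt _) (lg_lt _) (lg_lt _) (lg_lt _)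

theorem dd_tw (χ : D.R →* kbˣ) {g : Y} (hg : g ∈ Subgroup.normalizer (D.R : Set Y)) (hK : g ∈ K) :
    D.dd (tw g hg χ) = D.dd χ := by
  rw [dd, v_tw χ hg (D.c_mem D.h0), v_tw χ hg (D.c_mem D.h1), v_tw χ hg (D.c_mem D.h2), v_tw χ hg (D.c_mem D.h3),
    conj_c hK D.h0, conj_c hK D.h1, conj_c hK D.h2, conj_c hK D.h3, dd]

theorem ng_cd (a b c d : kbˣ) (ha : a = om ^ lg a) (hb : b = om ^ lg b) (hc : c = om ^ lg c) (hd : d = om ^ lg d) :
    cd (lg (a ^ 2)) (lg (b ^ 2)) (lg (c ^ 2)) (lg (d ^ 2)) = ng (cd (lg a) (lg b) (lg c) (lg d)) := by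
  have k : ∀ u : kbˣ, u = om ^ lg u → lg (u ^ 2) = 2 * lg u % 3 := fun u h =>
    lg_eq (by rw [mul_comm, pow_mul, ← h])
  rw [ng, cd0 (lg_lt _), cd1 (lg_lt _) (lg_lt _), cd2 (lg_lt _) (lg_lt _) (lg_lt _),
    cd3 (lg_lt _) (lg_lt _) (lg_lt _) (lg_lt _), k a ha, k b hb, k c hc, k d hd]

theorem mm_sq (χ : D.R →* kbˣ) : D.mm (χ ^ 2) = ng (D.mm χ) := by
  rw [mm, v_sq χ D.m0, v_sq χ D.m1, v_sq χ D.m2, v_sq χ D.m3]
  exact ng_cd _ _ _ _ (v_om χ D.m0 D.c0) (v_om χ D.m1 D.c1) (v_om χ D.m2 D.c2) (v_om χ D.m3 D.c3)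

theorem dd_sq (χ : D.R →* kbˣ) : D.dd (χ ^ 2) = ng (D.dd χ) := by
  rw [dd, v_sq χ (D.c_mem D.h0), v_sq χ (D.c_mem D.h1), v_sq χ (D.c_mem D.h2), v_sq χ (D.c_mem D.h3)]
  exact ng_cd _ _ _ _ (v_om χ (D.c_mem D.h0) D.d0) (v_om χ (D.c_mem D.h1) D.d1) (v_om χ (D.c_mem D.h2) D.d2)
    (v_om χ (D.c_mem D.h3) D.d3)

/-- the elements of the complement -/
def el (n : ℕ) : Y := D.r0 ^ (n % 3) * D.r1 ^ (n / 3 % 3) * D.r2 ^ (n / 9 % 3) * D.r3 ^ (n / 27 % 3)

theorem el_mem (n : ℕ) : D.el n ∈ D.R :=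
  mul_mem (mul_mem (mul_mem (pow_mem D.m0 _) (pow_mem D.m1 _)) (pow_mem D.m2 _)) (pow_mem D.m3 _)

theorem el_cube (n : ℕ) : D.el n ^ 3 = 1 :=
  cube_mul (mul_mem (mul_mem (pow_mem D.m0 _) (pow_mem D.m1 _)) (pow_mem D.m2 _)) (pow_mem D.m3 _)
    (cube_mul (mul_mem (pow_mem D.m0 _) (pow_mem D.m1 _)) (pow_mem D.m2 _)
      (cube_mul (pow_mem D.m0 _) (pow_mem D.m1 _) (cube_pow D.c0 _) (cube_pow D.c1 _)) (cube_pow D.c2 _))
    (cube_pow D.c3 _)

theorem v_el (χ : D.R →* kbˣ) (n : ℕ) : D.v χ (D.el n) = om ^ ip n (D.mm χ) := by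
  rw [el, v_mul χ (mul_mem (mul_mem (pow_mem D.m0 _) (pow_mem D.m1 _)) (pow_mem D.m2 _)) (pow_mem D.m3 _),
    v_mul χ (mul_mem (pow_mem D.m0 _) (pow_mem D.m1 _)) (pow_mem D.m2 _), v_mul χ (pow_mem D.m0 _) (pow_mem D.m1 _),
    v_pow χ D.m0, v_pow χ D.m1, v_pow χ D.m2, v_pow χ D.m3, ip, mm, cd0 (lg_lt _), cd1 (lg_lt _) (lg_lt _),
    cd2 (lg_lt _) (lg_lt _) (lg_lt _), cd3 (lg_lt _) (lg_lt _) (lg_lt _) (lg_lt _)]
  simp only [pow_add, pow_mul']
  rw [← v_om χ D.m0 D.c0, ← v_om χ D.m1 D.c1, ← v_om χ D.m2 D.c2, ← v_om χ D.m3 D.c3]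

variable [Finite Y]

theorem mm_x (χ : D.R →* kbˣ) : D.mm (tw D.x D.xN χ) = al (D.mm χ) := by
  rw [mm, v_tw χ _ D.m0, v_tw χ _ D.m1, v_tw χ _ D.m2, v_tw χ _ D.m3, D.x0, D.x1, D.x2, D.x3, mm, al, cd0 (lg_lt _),
    cd1 (lg_lt _) (lg_lt _), cd2 (lg_lt _) (lg_lt _) (lg_lt _), cd3 (lg_lt _) (lg_lt _) (lg_lt _) (lg_lt _)]
  congr 1
  refine lg_eq ?_
  rw [v_inv χ (mul_mem (mul_mem (mul_mem D.m0 D.m1) D.m2) D.m3), v_mul χ (mul_mem (mul_mem D.m0 D.m1) D.m2) D.m3,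
    v_mul χ (mul_mem D.m0 D.m1) D.m2, v_mul χ D.m0 D.m1, inv_eq_iff_mul_eq_one]
  conv_lhs => enter [1]; rw [v_om χ D.m0 D.c0, v_om χ D.m1 D.c1, v_om χ D.m2 D.c2, v_om χ D.m3 D.c3]
  rw [← pow_add, ← pow_add, ← pow_add, ← pow_add, ← pow_zero om, om_inj]
  omega

theorem mm_y (χ : D.R →* kbˣ) : D.mm (tw D.y D.yN χ) = be (D.dd χ) (D.mm χ) := by
  rw [mm, v_tw χ _ D.m0, v_tw χ _ D.m1, v_tw χ _ D.m2, v_tw χ _ D.m3, D.y0, D.y1, D.y2, D.y3, mm, dd, be,
    cd0 (lg_lt _), cd1 (lg_lt _) (lg_lt _), cd2 (lg_lt _) (lg_lt _) (lg_lt _),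
    cd3 (lg_lt _) (lg_lt _) (lg_lt _) (lg_lt _), cd0 (lg_lt _), cd1 (lg_lt _) (lg_lt _),
    cd2 (lg_lt _) (lg_lt _) (lg_lt _), cd3 (lg_lt _) (lg_lt _) (lg_lt _) (lg_lt _)]
  congr 1 <;> refine lg_eq ?_
  · rw [v_mul χ D.m0 (D.c_mem D.h0), pow_add, ← v_om χ D.m0 D.c0, ← v_om χ (D.c_mem D.h0) D.d0]
  · rw [v_mul χ D.m1 (D.c_mem D.h1), pow_add, ← v_om χ D.m1 D.c1, ← v_om χ (D.c_mem D.h1) D.d1]
  · rw [v_mul χ (mul_mem D.m2 D.m3) (D.c_mem D.h2), v_mul χ D.m2 D.m3, pow_add, pow_add, ← v_om χ D.m2 D.c2,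
      ← v_om χ D.m3 D.c3, ← v_om χ (D.c_mem D.h2) D.d2]
  · rw [v_mul χ (mul_mem (mul_mem D.m0 (pow_mem D.m1 2)) D.m3) (D.c_mem D.h3),
      v_mul χ (mul_mem D.m0 (pow_mem D.m1 2)) D.m3, v_mul χ D.m0 (pow_mem D.m1 2), v_pow χ D.m1, pow_add, pow_add,
      pow_add, pow_mul', ← v_om χ D.m0 D.c0, ← v_om χ D.m1 D.c1, ← v_om χ D.m3 D.c3, ← v_om χ (D.c_mem D.h3) D.d3]

/-! ### words -/

omit [Finite Y] in
/-- the lift of a word in `x`, `y` -/
def wY (l : List ℕ) : Y := (l.map fun s => bif Nat.beq s 3 then D.x else D.y).prod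

omit [Finite Y] in
theorem wY_append (l l' : List ℕ) : D.wY (l ++ l') = D.wY l * D.wY l' := by
  rw [wY, List.map_append, List.prod_append]; rfl

omit [Finite Y] in
theorem wY_mem {H : Subgroup Y} (hx : D.x ∈ H) (hy : D.y ∈ H) (l : List ℕ) : D.wY l ∈ H :=
  Subgroup.list_prod_mem _ fun g hg => by
    obtain ⟨s, _, rfl⟩ := List.mem_map.1 hg
    cases Nat.beq s 3
    exacts [hy, hx]

theorem mm_wY (l : List ℕ) (χ : D.R →* kbˣ) :
    D.mm (tw (D.wY l) (D.wY_mem D.xN D.yN l) χ) = act (D.dd χ) l (D.mm χ) := by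
  induction l with
  | nil => exact congrArg D.mm (tw_one χ)
  | cons s l ih =>
    rw [act, force_eq, ← ih]
    cases h : Nat.beq s 3
    · rw [tw_congr _ (mul_mem D.yN (D.wY_mem D.xN D.yN l)) (show D.wY (s :: l) = D.y * D.wY l by
        rw [wY, List.map_cons, List.prod_cons, h]; rfl), ← tw_tw D.yN (D.wY_mem D.xN D.yN l), mm_y,
        D.dd_tw _ _ (D.wY_mem D.xK D.yK l)]
      rfl
    · rw [tw_congr _ (mul_mem D.xN (D.wY_mem D.xN D.yN l)) (show D.wY (s :: l) = D.x * D.wY l by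
        rw [wY, List.map_cons, List.prod_cons, h]; rfl), ← tw_tw D.xN (D.wY_mem D.xN D.yN l), mm_x]
      rfl

omit [Finite Y] in
/-- `g` is the word `l` up to a central element -/
def At (g : Y) (l : List ℕ) : Prop := ∃ c ∈ Subgroup.centralizer (K : Set Y), g = D.wY l * c

variable {D}

omit [Finite Y] in
theorem At.mem {g : Y} {l : List ℕ} (h : D.At g l) : g ∈ K := by
  obtain ⟨c, hc, rfl⟩ := h
  exact mul_mem (D.wY_mem D.xK D.yK l) (D.cent hc)

omit [Finite Y] in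
theorem At.mul {g g' : Y} {l l' : List ℕ} (h : D.At g l) (h' : D.At g' l') : D.At (g * g') (l ++ l') := by
  obtain ⟨c, hc, rfl⟩ := h
  obtain ⟨c', hc', rfl⟩ := h'
  refine ⟨c * c', mul_mem hc hc', ?_⟩
  rw [wY_append, mul_assoc, mul_assoc, ← mul_assoc c,
    ← Subgroup.mem_centralizer_iff.1 hc _ (D.wY_mem D.xK D.yK l'), mul_assoc]

theorem At.norm {g : Y} {l : List ℕ} (h : D.At g l) : g ∈ Subgroup.normalizer (D.R : Set Y) := by
  obtain ⟨c, hc, rfl⟩ := h
  exact mul_mem (D.wY_mem D.xN D.yN l) (Subgroup.le_normalizer (D.c_mem hc))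

theorem At.mm {g : Y} {l : List ℕ} (h : D.At g l) (hg : g ∈ Subgroup.normalizer (D.R : Set Y)) (χ : D.R →* kbˣ) :
    D.mm (tw g hg χ) = act (D.dd χ) l (D.mm χ) := by
  obtain ⟨c, hc, rfl⟩ := h
  rw [← tw_tw (D.wY_mem D.xN D.yN l) (Subgroup.le_normalizer (D.c_mem hc)),
    tw_eq_self_of_comm _ (fun r hr => D.R_comm c (D.c_mem hc) r hr), mm_wY]

theorem dd_mem (χ : D.R →* kbˣ) : D.dd χ ∈ D9 := by
  refine mem_D9 (D.dd_lt χ) (D.mm_lt χ) ?_
  rw [← mm_wY, tw_eq_self_of_comm _ fun r hr => D.R_comm (D.wY rel) (D.c_mem D.hrel) r hr]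

end Dat

end Cfsg.Agent.TwoF.XL.U43
end

-- part: TwoF/XL/U43/Dich
section
/-!
# TwoF XL-U43: lower bounds from the weights, the small case (helper87)
-/

set_option autoImplicit false

namespace Cfsg.Agent.TwoF.XL.U43

open Module Gen Cfsg.Agent.SporadicStructure.PermChain

variable {Y : Type} [Group Y] [Finite Y] {K : Subgroup Y} {V : Type} [AddCommGroup V] [Module (ZMod 2) V] [Finite V]

omit [Finite Y] in
theorem even_cod (ρ : Representation (ZMod 2) Y V) {a : Y} (ha : a ^ 3 = 1) : Even (cod ρ (Subgroup.zpowers a)) := by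
  have : Fact (Nat.Prime 3) := ⟨Nat.prime_three⟩
  have h := pow_cod_modEq (ρ := ρ) (s := 3) (by rw [Nat.card_zmod]; norm_num) (elemAb_isPGroup (elemAb_zpowers ha))
  by_contra e
  obtain ⟨t, e⟩ := Nat.not_even_iff_odd.1 e
  rw [Nat.card_zmod, e, pow_succ, pow_mul] at h
  have := ((Nat.ModEq.pow t (show 2 ^ 2 ≡ 1 [MOD 3] by decide)).mul_right 2).symm.trans h
  rw [one_pow] at this
  exact absurd this (by decide)

namespace Dat

variable (D : Dat K) (ρ : Representation (ZMod 2) Y V) [Fintype (D.R →* kbˣ)]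

/-- the weighted sum of a function of the labels -/
noncomputable def Sm (F : ℕ → ℕ → ℕ) : ℕ := ∑ χ : D.R →* kbˣ, F (D.dd χ) (D.mm χ) * mlt (bc kb ρ) D.R χ

theorem Sm_al (F : ℕ → ℕ → ℕ) : D.Sm ρ (fun d m => F d (al m)) = D.Sm ρ F := by
  rw [Sm, Sm, ← Equiv.sum_comp (twP kb D.R ⟨D.x, D.xN⟩) fun χ => F (D.dd χ) (D.mm χ) * mlt (bc kb ρ) D.R χ]
  refine Finset.sum_congr rfl fun χ _ => ?_
  rw [twP_apply, mlt_tw, D.mm_x, D.dd_tw _ _ D.xK]

theorem Sm_be (F : ℕ → ℕ → ℕ) : D.Sm ρ (fun d m => F d (be d m)) = D.Sm ρ F := by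
  rw [Sm, Sm, ← Equiv.sum_comp (twP kb D.R ⟨D.y, D.yN⟩) fun χ => F (D.dd χ) (D.mm χ) * mlt (bc kb ρ) D.R χ]
  refine Finset.sum_congr rfl fun χ _ => ?_
  rw [twP_apply, mlt_tw, D.mm_y, D.dd_tw _ _ D.yK]

omit [Finite Y] [Finite V] in
theorem Sm_add (F G : ℕ → ℕ → ℕ) : D.Sm ρ (fun d m => F d m + G d m) = D.Sm ρ F + D.Sm ρ G := by
  simp only [Sm, add_mul, Finset.sum_add_distrib]

omit [Finite Y] [Finite V] in
theorem Sm_mul (c : ℕ) (F : ℕ → ℕ → ℕ) : D.Sm ρ (fun d m => c * F d m) = c * D.Sm ρ F := by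
  simp only [Sm, mul_assoc, Finset.mul_sum]

omit [Finite Y] [Finite V] in
theorem Sm_mono {F G : ℕ → ℕ → ℕ} (h : ∀ χ, 0 < mlt (bc kb ρ) D.R χ → F (D.dd χ) (D.mm χ) ≤ G (D.dd χ) (D.mm χ)) :
    D.Sm ρ F ≤ D.Sm ρ G := Finset.sum_le_sum fun χ _ => by
  rcases Nat.eq_zero_or_pos (mlt (bc kb ρ) D.R χ) with e | e
  · rw [e, mul_zero, mul_zero]
  · exact Nat.mul_le_mul_right _ (h χ e)

theorem Sm_s5 (F : ℕ → ℕ → ℕ) : D.Sm ρ (fun d m => s5 (F d) m) = 5 * D.Sm ρ F := by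
  have h1 := D.Sm_al ρ F
  have h2 := D.Sm_al ρ fun d m => F d (al m)
  have h3 := D.Sm_al ρ fun d m => F d (al (al m))
  have h4 := D.Sm_al ρ fun d m => F d (al (al (al m)))
  simp only [s5_eq]
  rw [Sm_add, Sm_add, Sm_add, Sm_add, h4, h3, h2, h1]
  show D.Sm ρ F + _ + _ + _ + _ = _
  omega

theorem avg_le {F G : ℕ → ℕ → ℕ}
    (h : ∀ χ, 0 < mlt (bc kb ρ) D.R χ → s5 (F (D.dd χ)) (D.mm χ) ≤ s5 (G (D.dd χ)) (D.mm χ)) :
    D.Sm ρ F ≤ D.Sm ρ G := by
  have := D.Sm_mono ρ (F := fun d m => s5 (F d) m) (G := fun d m => s5 (G d) m) h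
  rw [Sm_s5, Sm_s5] at this
  omega

/-- the number of weights that are non-trivial on the complement -/
noncomputable def n0 : ℕ := D.Sm ρ fun _ m => nz m

theorem lb {j c : ℕ} {ws : List (List ℕ)} (h : chkLb j c ws = true) {A : Subgroup Y}
    (hA : A ≤ Subgroup.normalizer (D.R : Set Y)) (hw : ∀ w ∈ ws, ∃ a ∈ A, D.At a w) :
    c * D.n0 ρ ≤ 5 * cod ρ A := by
  classical
  have h1 := D.avg_le ρ (F := fun d m => c * nz m + H j d m) (G := fun d m => 5 * xi j d m + H j d (be d m))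
    fun χ _ => (chkLb_spec h (dd_mem χ) (D.mm_lt χ)).2
  rw [Sm_add, Sm_add, Sm_be, D.Sm_mul ρ c fun _ m => nz m, Sm_mul] at h1
  have h2 := sum_mlt_le_cod (ρ := bc kb ρ) hA (Finset.univ.filter fun χ => X j (D.dd χ) (D.mm χ) = true)
    fun χ hχ => by
      obtain ⟨w, hw', e⟩ := (chkLb_spec h (dd_mem χ) (D.mm_lt χ)).1 (Finset.mem_filter.1 hχ).2
      obtain ⟨a, ha, h3⟩ := hw w hw'
      refine ⟨a, ha, fun h4 => ?_⟩
      have h5 := (Finset.mem_filter.1 h4).2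
      rw [h3.mm, D.dd_tw _ _ h3.mem, e] at h5
      exact Bool.noConfusion h5
  rw [cod_bc, Finset.sum_filter] at h2
  have h3 : D.Sm ρ (xi j) = ∑ χ : D.R →* kbˣ, if X j (D.dd χ) (D.mm χ) = true then mlt (bc kb ρ) D.R χ else 0 :=
    Finset.sum_congr rfl fun χ _ => by
      rw [xi]
      cases X j (D.dd χ) (D.mm χ) <;> simp
  have h4 : D.Sm ρ (fun d m => xi j d m) = D.Sm ρ (xi j) := rfl
  unfold n0
  omega

/-- `x` followed by the Galois automorphism -/
noncomputable def Ga (χ : D.R →* kbˣ) : D.R →* kbˣ := tw D.x D.xN χ ^ 2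

omit [Fintype (D.R →* kbˣ)] in
theorem Ga_iter (k : ℕ) (χ : D.R →* kbˣ) : (D.dd (D.Ga^[k] χ), D.mm (D.Ga^[k] χ)) = gam^[k] (D.dd χ, D.mm χ) ∧
    mlt (bc kb ρ) D.R (D.Ga^[k] χ) = mlt (bc kb ρ) D.R χ := by
  induction k with
  | zero => exact ⟨rfl, rfl⟩
  | succ k ih =>
    rw [Function.iterate_succ_apply', Function.iterate_succ_apply', ← ih.1, ← ih.2, Ga, mm_sq, dd_sq, mm_x,
      D.dd_tw _ _ D.xK, gam, gm_eq]
    refine ⟨rfl, ?_⟩
    have := mlt_pow_card (ρ := ρ) kb (tw D.x D.xN (D.Ga^[k] χ))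
    rwa [ZMod.card, mlt_tw] at this

theorem twenty {χ ψ : D.R →* kbˣ} (h1 : 0 < mlt (bc kb ρ) D.R χ) (h2 : 0 < mlt (bc kb ρ) D.R ψ) (g1 : D.mm χ ≠ 0)
    (g2 : D.mm ψ ≠ 0) (h : ∀ k < 10, (D.dd ψ, D.mm ψ) ≠ gam^[k] (D.dd χ, D.mm χ)) : 20 ≤ D.n0 ρ := by
  classical
  have inj : ∀ φ : D.R →* kbˣ, D.mm φ ≠ 0 → Set.InjOn (fun k => D.Ga^[k] φ) (Finset.range 10 : Set ℕ) := by
    intro φ hφ i hi k hk e
    have hi : i < 10 := Finset.mem_range.1 hi
    have hk : k < 10 := Finset.mem_range.1 hk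
    have e' : gam^[i] (D.dd φ, D.mm φ) = gam^[k] (D.dd φ, D.mm φ) := by
      rw [← (D.Ga_iter ρ i φ).1, ← (D.Ga_iter ρ k φ).1, show D.Ga^[i] φ = D.Ga^[k] φ from e]
    have := (gam_free (l := (D.dd φ, D.mm φ)) (D.mm_lt φ) hφ (Nat.mod_lt _ (by norm_num))).2
      (gam_shift (D.dd_lt φ) (D.mm_lt φ) (D.dd_lt φ) (D.mm_lt φ) hk e').symm
    omega
  have dis : Disjoint ((Finset.range 10).image fun k => D.Ga^[k] χ) ((Finset.range 10).image fun k => D.Ga^[k] ψ) := by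
    rw [Finset.disjoint_left]
    intro φ a b
    obtain ⟨i, _, rfl⟩ := Finset.mem_image.1 a
    obtain ⟨k, hk, e⟩ := Finset.mem_image.1 b
    have e' : gam^[i] (D.dd χ, D.mm χ) = gam^[k] (D.dd ψ, D.mm ψ) := by
      rw [← (D.Ga_iter ρ i χ).1, ← (D.Ga_iter ρ k ψ).1, e]
    exact h _ (Nat.mod_lt _ (by norm_num))
      (gam_shift (D.dd_lt ψ) (D.mm_lt ψ) (D.dd_lt χ) (D.mm_lt χ) (Finset.mem_range.1 hk) e')
  have one : ∀ φ : D.R →* kbˣ, 0 < mlt (bc kb ρ) D.R φ → D.mm φ ≠ 0 → ∀ a ∈ (Finset.range 10).image fun k => D.Ga^[k] φ,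
      1 ≤ nz (D.mm a) * mlt (bc kb ρ) D.R a := fun φ p1 p2 a ha => by
    obtain ⟨k, hk, rfl⟩ := Finset.mem_image.1 ha
    have := (gam_free (l := (D.dd φ, D.mm φ)) (D.mm_lt φ) p2 (Finset.mem_range.1 hk)).1
    rw [← (D.Ga_iter ρ k φ).1] at this
    rw [nz_eq, if_neg this, one_mul, (D.Ga_iter ρ k φ).2]
    exact p1
  have c := Finset.card_nsmul_le_sum _ (fun a => nz (D.mm a) * mlt (bc kb ρ) D.R a) 1
    fun a ha => (Finset.mem_union.1 ha).elim (one χ h1 g1 a) (one ψ h2 g2 a)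
  rw [Finset.card_union_of_disjoint dis, Finset.card_image_of_injOn (inj χ g1), Finset.card_image_of_injOn (inj ψ g2),
    Finset.card_range] at c
  exact c.trans (Finset.sum_le_sum_of_subset (Finset.subset_univ _))

theorem cod_el (n : ℕ) : cod ρ (Subgroup.zpowers (D.el n)) = D.Sm ρ fun _ m => nz (ip n m % 3) := by
  rw [← cod_bc kb, show D.el n = ((⟨D.el n, D.el_mem n⟩ : D.R) : Y) from rfl, cod_zpowers_eq_sum D.R_comm D.R_card]
  refine Finset.sum_congr rfl fun χ _ => ?_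
  rw [← v_eq χ (D.el_mem n), v_el, ← pow_zero om]
  simp only [om_inj, Nat.zero_mod, nz_eq]
  split_ifs <;> simp

theorem sv_iter {j : ℕ} (hj : j < 2) {l : ℕ × ℕ} (h2 : l.2 < 81) (h : 81 * l.1 + l.2 ∈ Sv j) (k : ℕ) :
    (gam^[k] l).2 < 81 ∧ 81 * (gam^[k] l).1 + (gam^[k] l).2 ∈ Sv j := by
  induction k with
  | zero => exact ⟨h2, h⟩
  | succ k ih =>
    have := (chkSm j hj _ ih.2).1
    rw [show (81 * (gam^[k] l).1 + (gam^[k] l).2) / 81 = (gam^[k] l).1 by omega,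
      show (81 * (gam^[k] l).1 + (gam^[k] l).2) % 81 = (gam^[k] l).2 by omega] at this
    rw [Function.iterate_succ_apply']
    refine ⟨?_, this⟩
    show gm _ < 81
    rw [gm_eq]
    exact cd_lt (Nat.mod_lt _ (by norm_num)) (Nat.mod_lt _ (by norm_num)) (Nat.mod_lt _ (by norm_num))
      (Nat.mod_lt _ (by norm_num))

theorem small (hf : Function.Injective ρ) (h0 : D.r0 ≠ 1) (h : D.n0 ρ < 20) :
    ∃ j < 2, cod ρ (Subgroup.zpowers (D.el (gv j))) ≤ 4 ∧
      ∀ q, D.At q (wq j) → q⁻¹ * D.el (uv j) * q ≠ D.el (uv j) := by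
  obtain ⟨χ, h1, h2⟩ := exists_wt (ρ := bc kb ρ) D.R_comm D.R_card (r := ⟨D.r0, D.m0⟩)
    fun e => h0 (bc_injective kb hf (e.trans (map_one _).symm))
  have h3 : D.mm χ ≠ 0 := fun e => h1 (by
    have : lg (D.v χ D.r0) = 0 := by unfold mm cd at e; omega
    rw [← v_eq χ D.m0, v_om χ D.m0 D.c0, this, pow_zero])
  have h4 : ∀ ψ, 0 < mlt (bc kb ρ) D.R ψ → D.mm ψ ≠ 0 → ∃ k < 10, (D.dd ψ, D.mm ψ) = gam^[k] (D.dd χ, D.mm χ) :=
    fun ψ p1 p2 => by
      by_contra e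
      exact absurd (D.twenty ρ h2 p1 h3 p2 fun k hk e' => e ⟨k, hk, e'⟩) (not_le.2 h)
  obtain ⟨j, hj, h5⟩ := mem_Sv (dd_mem χ) (D.mm_lt χ) h3 fun i _ e => by
    have := h4 (tw _ (D.wY_mem D.xN D.yN (4 :: List.replicate i 3)) χ) (by rwa [mlt_tw]) (by rwa [mm_wY])
    rwa [mm_wY, D.dd_tw _ _ (D.wY_mem D.xK D.yK _)] at this
  have h6 : ∀ ψ, 0 < mlt (bc kb ρ) D.R ψ → D.mm ψ = 0 ∨ ∃ n ∈ Sv j, n % 81 = D.mm ψ := fun ψ p1 => by
    refine (em _).imp_right fun p2 => ?_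
    obtain ⟨k, _, e⟩ := h4 ψ p1 p2
    have := (sv_iter hj (l := (D.dd χ, D.mm χ)) (D.mm_lt χ) h5 k).2
    rw [← e] at this
    exact ⟨_, this, by have := D.mm_lt ψ; show (81 * D.dd ψ + D.mm ψ) % 81 = _; omega⟩
  have h7 : ∀ g c, (∀ n ∈ Sv j, s5 (fun m => 5 * nz (ip g m % 3)) (n % 81) = s5 (fun m => c * nz m) (n % 81)) →
      5 * cod ρ (Subgroup.zpowers (D.el g)) = c * D.n0 ρ := fun g c e => by
    have e' : ∀ ψ, 0 < mlt (bc kb ρ) D.R ψ →
        s5 (fun m => 5 * nz (ip g m % 3)) (D.mm ψ) = s5 (fun m => c * nz m) (D.mm ψ) := fun ψ p => by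
      rcases h6 ψ p with p | ⟨n, hn, p⟩
      · rw [p]; exact s5_zero _ _ _
      · rw [← p]; exact e n hn
    rw [cod_el, n0, ← Sm_mul, ← Sm_mul]
    exact le_antisymm (D.avg_le ρ fun ψ p => (e' ψ p).le) (D.avg_le ρ fun ψ p => (e' ψ p).ge)
  have h8 := h7 (gv j) 2 fun n hn => (chkSm j hj n hn).2.1
  have h9 := h7 63 3 fun n hn => (chkSm j hj n hn).2.2.1
  obtain ⟨t, h11⟩ := even_cod ρ (D.el_cube 63)
  refine ⟨j, hj, by omega, fun q hq e => ?_⟩
  have h12 := (chkSm j hj _ h5).2.2.2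
  have := D.mm_lt χ
  rw [show (81 * D.dd χ + D.mm χ) / 81 = D.dd χ by omega, show (81 * D.dd χ + D.mm χ) % 81 = D.mm χ by omega,
    ← hq.mm hq.norm] at h12
  exact h12 (om_inj.1 (by rw [← v_el, ← v_el, v_tw χ _ (D.el_mem _), e]))

omit [Fintype (D.R →* kbˣ)] in
/-- **the dichotomy** -/
theorem dich (hf : Function.Injective ρ) (h0 : D.r0 ≠ 1) :
    ((∀ t, D.At t wb → 8 ≤ cod ρ (Subgroup.zpowers t)) ∧
      ∀ (a b : Y) (A : Subgroup Y), D.At a wa → D.At b wb ∨ D.At b wc → a ∈ A → b ∈ A → 12 ≤ cod ρ A) ∨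
    ∃ j < 2, cod ρ (Subgroup.zpowers (D.el (gv j))) ≤ 4 ∧
      ∀ q, D.At q (wq j) → q⁻¹ * D.el (uv j) * q ≠ D.el (uv j) := by
  have := finite_char kb D.R
  have := Fintype.ofFinite (D.R →* kbˣ)
  refine (le_or_gt 20 (D.n0 ρ)).imp (fun h => ⟨fun t ht => ?_, fun a b A ha hb h1 h2 => ?_⟩) (D.small ρ hf h0)
  · have := D.lb ρ chkLb0 (A := Subgroup.zpowers t) ((Subgroup.zpowers_le).2 ht.norm) fun w hw =>
      ⟨t, Subgroup.mem_zpowers t, List.mem_singleton.1 hw ▸ ht⟩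
    omega
  · have key : ∀ j w, chkLb j 3 [wa, w, wa ++ w] = true → D.At b w → 12 ≤ cod ρ A := fun j w c hb => by
      have := D.lb ρ c (A := A ⊓ Subgroup.normalizer (D.R : Set Y)) inf_le_right fun w' hw => by
        simp only [List.mem_cons, List.not_mem_nil, or_false] at hw
        rcases hw with rfl | rfl | rfl
        · exact ⟨a, ⟨h1, ha.norm⟩, ha⟩
        · exact ⟨b, ⟨h2, hb.norm⟩, hb⟩
        · exact ⟨a * b, ⟨mul_mem h1 h2, (ha.mul hb).norm⟩, ha.mul hb⟩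
      have h3 := cod_mono (ρ := ρ) (inf_le_left : A ⊓ Subgroup.normalizer (D.R : Set Y) ≤ A)
      omega
    exact hb.elim (key 1 _ chkLb1) (key 2 _ chkLb2)

end Dat

end Cfsg.Agent.TwoF.XL.U43
end

-- part: TwoF/XL/U43/Lift
section
/-!
# TwoF XL-U43: lifts of words, the data for the weights (helper87)
-/

set_option autoImplicit false
set_option maxRecDepth 100000

namespace Cfsg.Agent.TwoF.XL.U43

open Module Gen Cfsg.Agent.SporadicStructure.PermChain

variable {Y : Type} [Group Y] {K : Subgroup Y} {π : K →* M} {φ : Y →* MulAut M}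

/-- `g` is a lift of the word `l` -/
def Rep (π : K →* M) (g : Y) (l : List ℕ) : Prop := ∃ hg : g ∈ K, π ⟨g, hg⟩ = Wm l

/-- the powers of a word -/
def pw (n : ℕ) (l : List ℕ) : List ℕ := (List.replicate n l).flatten

namespace Rep

variable {g g' : Y} {l l' : List ℕ}

theorem mem (h : Rep π g l) : g ∈ K := h.1

theorem one : Rep π 1 [] := ⟨one_mem _, map_one π⟩

theorem mul (h : Rep π g l) (h' : Rep π g' l') : Rep π (g * g') (l ++ l') :=
  ⟨mul_mem h.1 h'.1, by rw [Wm_append, ← h.2, ← h'.2, ← map_mul]; rfl⟩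

theorem congr (h : Rep π g l) (e : eqB l l' = true) : Rep π g l' := ⟨h.1, h.2.trans (Wm_eq e)⟩

theorem inv (h : Rep π g l) (e : eqB (l' ++ l) [] = true) : Rep π g⁻¹ l' :=
  ⟨inv_mem h.1, by
    have := Wm_eq e
    rw [Wm_append, ← h.2] at this
    exact (map_inv π ⟨g, h.1⟩).trans (eq_inv_of_mul_eq_one_left this).symm⟩

theorem pow (h : Rep π g l) (n : ℕ) : Rep π (g ^ n) (pw n l) := by
  induction n with
  | zero => rw [pow_zero]; exact one
  | succ n ih => rw [pow_succ']; exact h.mul ih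

theorem prod {f : ℕ → Y} {w : ℕ → List ℕ} (h : ∀ s, Rep π (f s) (w s)) (l : List ℕ) :
    Rep π (l.map f).prod (l.flatMap w) := by
  induction l with
  | nil => exact one
  | cons s l ih => rw [List.map_cons, List.prod_cons, List.flatMap_cons]; exact (h s).mul ih

variable (F : Frm K π φ)
include F

theorem exi (l : List ℕ) : ∃ g, Rep π g l := by
  obtain ⟨g, hg⟩ := F.surj (Wm l)
  exact ⟨g, g.2, hg⟩

theorem cen (h : Rep π g l) (e : eqB l [] = true) : g ∈ Subgroup.centralizer (K : Set Y) :=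
  F.π_eq_one_iff.1 (h.2.trans (Wm_eq e))

theorem not_cen (h : Rep π g l) (e : eqB l [] = false) : g ∉ Subgroup.centralizer (K : Set Y) := fun h' =>
  Wm_ne e (h.2.symm.trans (F.π_eq_one_iff (x := ⟨g, h.1⟩).2 h'))

theorem eq' (h : Rep π g l) (h' : Rep π g' l') (e : Wm l = Wm l') :
    ∃ c ∈ Subgroup.centralizer (K : Set Y), g = g' * c :=
  ⟨g'⁻¹ * g, F.π_eq_one_iff (x := ⟨g', h'.1⟩⁻¹ * ⟨g, h.1⟩).1 (by rw [map_mul, map_inv, h.2, h'.2, e, inv_mul_cancel]),
    (mul_inv_cancel_left _ _).symm⟩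

theorem eq (h : Rep π g l) (h' : Rep π g' l') (e : eqB l l' = true) :
    ∃ c ∈ Subgroup.centralizer (K : Set Y), g = g' * c := eq' F h h' (Wm_eq e)

theorem phi (h : Rep π g l) : φ g = MulAut.conj (Wm l) := h.2 ▸ F.φ_coe ⟨g, h.1⟩

end Rep

theorem eq_one_of_sq [Finite Y] (ho : ¬ 2 ∣ Nat.card (Subgroup.centralizer (K : Set Y))) {z : Y}
    (hz : z ∈ Subgroup.centralizer (K : Set Y)) (h : z * z = 1) : z = 1 := by
  by_contra e
  refine ho ?_
  have : orderOf z = 2 := orderOf_eq_prime (by rw [pow_two, h]) e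
  exact this ▸ Subgroup.orderOf_dvd_natCard _ hz

/-- lifts of two commuting elements that are interchanged by a third one commute -/
theorem comm_of_swap [Finite Y] (F : Frm K π φ) (ho : ¬ 2 ∣ Nat.card (Subgroup.centralizer (K : Set Y))) {a b : Y}
    {la lb : List ℕ} (ha : Rep π a la) (hb : Rep π b lb) (lw : List ℕ) (e1 : eqB (lw ++ la) (lb ++ lw) = true)
    (e2 : eqB (lw ++ lb) (la ++ lw) = true) (e3 : eqB (la ++ lb) (lb ++ la) = true) : a * b = b * a := by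
  obtain ⟨w, hw⟩ := Rep.exi F lw
  obtain ⟨c, hc, h1⟩ := (hw.mul ha).eq F (hb.mul hw) e1
  obtain ⟨d, hd, h2⟩ := (hw.mul hb).eq F (ha.mul hw) e2
  obtain ⟨z, hz, h3⟩ := (ha.mul hb).eq F (hb.mul ha) e3
  have k : ∀ {u g : Y}, u ∈ Subgroup.centralizer (K : Set Y) → g ∈ K → u * g = g * u := fun hu hg =>
    (Subgroup.mem_centralizer_iff.1 hu _ hg).symm
  have p1 : w * (a * b) = b * a * (w * (d * c)) := by
    rw [← mul_assoc, h1, mul_assoc (b * w), k hc hb.mem, ← mul_assoc, mul_assoc b, h2]; group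
  have p2 : w * (b * a) = a * b * (w * (d * c)) := by
    rw [← mul_assoc, h2, mul_assoc (a * w), k hd ha.mem, ← mul_assoc, mul_assoc a, h1, ← k hc (F.cent hd)]; group
  rw [h3, ← mul_assoc w, p2, h3, mul_assoc (b * a), mul_assoc (b * a), mul_right_inj,
    k hz (mul_mem hw.mem (F.cent (mul_mem hd hc))), mul_assoc, mul_eq_left] at p1
  rw [h3, eq_one_of_sq ho hz p1, mul_one]

def bw : List (List ℕ) := [[10, 2, 6, 3, 11, 5, 1], [10, 1, 5, 12, 3, 9, 0], [0, 4, 1, 1, 9, 8, 0], [4, 5, 4, 5, 5, 4]]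

/-- the words of the elements of `3⁴` -/
def ew (n : ℕ) : List ℕ := pw (n % 3) (bw.getD 0 []) ++ pw (n / 3 % 3) (bw.getD 1 []) ++
  pw (n / 9 % 3) (bw.getD 2 []) ++ pw (n / 27 % 3) (bw.getD 3 [])

theorem rep_wY {x y : Y} (hx : Rep π x [3]) (hy : Rep π y [4]) {l : List ℕ} (h : ∀ s ∈ l, s = 3 ∨ s = 4) :
    Rep π (l.map fun s => bif Nat.beq s 3 then x else y).prod l := by
  induction l with
  | nil => exact Rep.one
  | cons s l ih =>
    rw [List.map_cons, List.prod_cons]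
    rcases h s List.mem_cons_self with rfl | rfl
    · exact hx.mul (ih fun t ht => h t (List.mem_cons_of_mem _ ht))
    · exact hy.mul (ih fun t ht => h t (List.mem_cons_of_mem _ ht))

theorem exists_dat [Finite Y] (F : Frm K π φ) (ho : ¬ 2 ∣ Nat.card (Subgroup.centralizer (K : Set Y))) :
    ∃ D : Dat K, D.r0 ≠ 1 ∧ (∀ g l, (∀ s ∈ l, s = 3 ∨ s = 4) → Rep π g l → D.At g l) ∧
      ∀ n, Rep π (D.el n) (ew n) := by
  obtain ⟨x, hx⟩ := Rep.exi F [3]
  obtain ⟨y, hy⟩ := Rep.exi F [4]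
  obtain ⟨c0, h0⟩ := Rep.exi F [5]
  have hx' : Rep π x⁻¹ [3, 3, 3, 3] := hx.inv (by decide +kernel)
  have hy' : Rep π y⁻¹ [4, 4] := hy.inv (by decide +kernel)
  obtain ⟨c1, e1⟩ : ∃ c, c = x⁻¹ * c0 * x := ⟨_, rfl⟩
  obtain ⟨c2, e2⟩ : ∃ c, c = x⁻¹ * c1 * x := ⟨_, rfl⟩
  obtain ⟨c3, e3⟩ : ∃ c, c = x⁻¹ * c2 * x := ⟨_, rfl⟩
  obtain ⟨c4, e4⟩ : ∃ c, c = x⁻¹ * c3 * x := ⟨_, rfl⟩
  have e0 : c0 = x⁻¹ * c4 * x := by
    have p := Subgroup.mem_centralizer_iff.1 ((hx.pow 5).cen F (by decide +kernel)) c0 h0.mem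
    rw [e4, e3, e2, e1]
    calc c0 = (x ^ 5)⁻¹ * (x ^ 5 * c0) := by group
      _ = _ := by rw [← p]; simp only [pow_succ, pow_zero, one_mul, mul_inv_rev, mul_assoc]
  have h1 : Rep π c1 [9, 2, 4, 2, 9] := e1 ▸ ((hx'.mul h0).mul hx).congr (by decide +kernel)
  have h2 : Rep π c2 [3, 3, 3, 5, 3, 3] := e2 ▸ ((hx'.mul h1).mul hx).congr (by decide +kernel)
  have h3 : Rep π c3 [3, 3, 5, 3, 3, 3] := e3 ▸ ((hx'.mul h2).mul hx).congr (by decide +kernel)
  have h4 : Rep π c4 [3, 5, 3, 3, 3, 3] := e4 ▸ ((hx'.mul h3).mul hx).congr (by decide +kernel)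
  have cj : ∀ {a b a' b' : Y}, a * b = b * a → a' = x⁻¹ * a * x → b' = x⁻¹ * b * x → a' * b' = b' * a' :=
    fun {a b a' b'} h p q => by
      rw [p, q]
      calc _ = x⁻¹ * (a * b) * x := by group
        _ = _ := by rw [h]; group
  have k01 := comm_of_swap F ho h0 h1 [4, 2, 6, 2] (by decide +kernel) (by decide +kernel) (by decide +kernel)
  have k02 := comm_of_swap F ho h0 h2 [3, 4, 3, 4] (by decide +kernel) (by decide +kernel) (by decide +kernel)
  have k12 := cj k01 e1 e2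
  have k23 := cj k12 e2 e3
  have k34 := cj k23 e3 e4
  have k40 := cj k34 e4 e0
  have k13 := cj k02 e1 e3
  have k24 := cj k13 e2 e4
  have k30 := cj k24 e3 e0
  have k41 := cj k30 e4 e1
  have kk := comm_closure (S := {c0, c1, c2, c3, c4}) (by
    rintro a (rfl | rfl | rfl | rfl | rfl) b (rfl | rfl | rfl | rfl | rfl) <;>
      first | rfl | assumption | (symm; assumption))
  have km : ∀ a ∈ ({c0 * c1⁻¹, c1 * c2⁻¹, c2 * c3⁻¹, c3 * c4⁻¹} : Set Y),
      a ∈ Subgroup.closure ({c0, c1, c2, c3, c4} : Set Y) := by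
    rintro a (rfl | rfl | rfl | rfl) <;>
      exact mul_mem (Subgroup.subset_closure (by simp)) (inv_mem (Subgroup.subset_closure (by simp)))
  have cb : ∀ {a b : Y}, b = x⁻¹ * a * x → a ^ 3 = c0 ^ 3 → b ^ 3 = c0 ^ 3 := fun {a b} e h => by
    rw [e, show x⁻¹ * a * x = x⁻¹ * a * x⁻¹⁻¹ by rw [inv_inv], conj_pow, h, inv_inv,
      Dat.conj_c hx.mem ((h0.pow 3).cen F (by decide +kernel))]
  have q1 := cb e1 rfl
  have q2 := cb e2 q1
  have q3 := cb e3 q2
  have q4 := cb e4 q3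
  have cu : ∀ {a b : Y}, a * b = b * a → a ^ 3 = c0 ^ 3 → b ^ 3 = c0 ^ 3 → (a * b⁻¹) ^ 3 = 1 := fun {a b} h p q => by
    rw [(show Commute a b from h).inv_right.mul_pow, inv_pow, p, q, mul_inv_cancel]
  have r0 : Rep π (c0 * c1⁻¹) (bw.getD 0 []) :=
    (h0.mul (h1.inv (l' := pw 2 [9, 2, 4, 2, 9]) (by decide +kernel))).congr (by decide +kernel)
  have r1 : Rep π (c1 * c2⁻¹) (bw.getD 1 []) :=
    (h1.mul (h2.inv (l' := pw 2 [3, 3, 3, 5, 3, 3]) (by decide +kernel))).congr (by decide +kernel)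
  have r2 : Rep π (c2 * c3⁻¹) (bw.getD 2 []) :=
    (h2.mul (h3.inv (l' := pw 2 [3, 3, 5, 3, 3, 3]) (by decide +kernel))).congr (by decide +kernel)
  have r3 : Rep π (c3 * c4⁻¹) (bw.getD 3 []) :=
    (h3.mul (h4.inv (l' := pw 2 [3, 5, 3, 3, 3, 3]) (by decide +kernel))).congr (by decide +kernel)
  obtain ⟨z0, g0, y0⟩ := ((hy'.mul r0).mul hy).eq F r0 (by decide +kernel)
  obtain ⟨z1, g1, y1⟩ := ((hy'.mul r1).mul hy).eq F r1 (by decide +kernel)
  obtain ⟨z2, g2, y2⟩ := ((hy'.mul r2).mul hy).eq F (r2.mul r3) (by decide +kernel)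
  obtain ⟨z3, g3, y3⟩ := ((hy'.mul r3).mul hy).eq F ((r0.mul (r1.pow 2)).mul r3) (by decide +kernel)
  refine ⟨{ r0 := c0 * c1⁻¹, r1 := c1 * c2⁻¹, r2 := c2 * c3⁻¹, r3 := c3 * c4⁻¹, x := x, y := y, z0 := z0, z1 := z1
            z2 := z2, z3 := z3, cent := F.cent, odd := ho, rK := ?_, xK := hx.mem, yK := hy.mem, h0 := g0, h1 := g1
            h2 := g2, h3 := g3, comm := fun a ha b hb => kk a (km a ha) b (km b hb), cube := ?_, x0 := ?_, x1 := ?_
            x2 := ?_, x3 := ?_, y0 := y0, y1 := y1, y2 := y2, y3 := y3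
            hrel := (rep_wY hx hy (by decide)).cen F (by decide +kernel) },
    fun e => r0.not_cen F (by decide +kernel) ((show c0 * c1⁻¹ = 1 from e) ▸ one_mem _), fun g l hl hg => hg.eq' F (rep_wY hx hy hl) rfl,
    fun n => (((r0.pow _).mul (r1.pow _)).mul (r2.pow _)).mul (r3.pow _)⟩
  · rintro a (rfl | rfl | rfl | rfl)
    exacts [r0.mem, r1.mem, r2.mem, r3.mem]
  · rintro a (rfl | rfl | rfl | rfl)
    exacts [cu k01 rfl q1, cu k12 q1 q2, cu k23 q2 q3, cu k34 q3 q4]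
  · conv_rhs => rw [e2]; enter [1]; rw [e1]
    group
  · conv_rhs => rw [e3]; enter [1]; rw [e2]
    group
  · conv_rhs => rw [e4]; enter [1]; rw [e3]
    group
  · calc _ = (x⁻¹ * c3 * x) * (x⁻¹ * c4 * x)⁻¹ := by group
      _ = _ := by rw [← e4, ← e0]; group

end Cfsg.Agent.TwoF.XL.U43
end

-- part: TwoF/XL/U43/Small
section
/-!
# TwoF XL-U43: the six-dimensional module of `3 · U₄(3)` has a quadratic offender (helper87)
-/

set_option autoImplicit false
set_option maxRecDepth 100000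

namespace Cfsg.Agent.TwoF.XL.U43

open Module Gen Cfsg.Agent.SporadicStructure.PermChain

def k2 (j : ℕ) : List ℕ := bif Nat.beq j 0 then [10] else [11]
def k2' (j : ℕ) : List ℕ := bif Nat.beq j 0 then [10] else [11, 7]
def k3 (j : ℕ) : List ℕ := bif Nat.beq j 0 then [11] else [0]
def k3' (j : ℕ) : List ℕ := bif Nat.beq j 0 then [11, 7] else [1]
def gA (j : ℕ) : List ℕ := bif Nat.beq j 0 then [1, 1, 2, 2, 0, 1, 0, 0, 1, 2, 2, 1, 2, 1] else
  [1, 2, 1, 2, 1, 0, 2, 0, 1, 0, 2, 1, 0, 2, 1, 0]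
def gB (j : ℕ) : List ℕ := bif Nat.beq j 0 then [0, 1, 1, 0, 2, 0, 0, 2, 2, 1, 0, 2, 1, 0] else
  [1, 2, 0, 0, 2, 1, 0, 2, 2, 0, 2, 2, 1, 0, 2]
/-- the three conjugates -/
def gw (j s : ℕ) : List ℕ := bif Nat.beq s 0 then ew (gv j) else
  bif Nat.beq s 1 then k2 j ++ ew (gv j) ++ k2' j else k3 j ++ ew (gv j) ++ k3' j

theorem chkGen : ∀ j < 2, eqB (k2' j ++ k2 j) [] = true ∧ eqB (k3' j ++ k3 j) [] = true ∧
    eqB ((gA j).flatMap (gw j)) [0] = true ∧ eqB ((gB j).flatMap (gw j)) [2] = true ∧ eqB (ew (gv j)) [] = false := by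
  decide +kernel

/-- the generators of `2⁴` -/
def sw (j i : ℕ) : List ℕ := (bif Nat.beq j 0 then [[0, 12, 1], [12, 1, 1, 10, 7], [2, 5, 0, 2, 12, 0], [3, 11, 9, 4, 1, 12]]
  else [[1, 9, 0], [1, 12, 6, 0], [7, 5, 0, 11, 8, 7], [11, 7, 1, 7, 0, 11]]).getD i []
def mw (j v : ℕ) : List ℕ := (List.range 4).flatMap fun i => bif Nat.testBit v i then sw j i else []
def ru (j i : ℕ) : ℕ := (bif Nat.beq j 0 then [10, 7, 1, 3] else [15, 9, 4, 8]).getD i 0
def rq (j i : ℕ) : ℕ := (bif Nat.beq j 0 then [7, 13, 2, 1] else [13, 10, 8, 12]).getD i 0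

theorem chkE : ∀ j < 2, (∀ i < 4, eqB (sw j i ++ sw j i) [] = true ∧
    (∀ i' < 4, eqB (sw j i ++ sw j i') (sw j i' ++ sw j i) = true) ∧
    eqB (ew (uv j) ++ sw j i) (mw j (ru j i) ++ ew (uv j)) = true ∧
    eqB (wq j ++ sw j i) (mw j (rq j i) ++ wq j) = true) ∧
    (∀ a < 8, ∀ b < 8, eqB (mw j a) (mw j b) = true → a = b) ∧
    eqB (ew (uv j) ++ wq j) (wq j ++ ew (uv j)) = true ∧ ∀ s ∈ wq j, s = 3 ∨ s = 4 := by decide +kernel

/-- the group `2⁴` -/
def E (j : ℕ) : Subgroup M := Subgroup.closure ((fun i => Wm (sw j i)) '' {i | i < 4})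

theorem Wm_flatMap_mem {H : Subgroup M} {l : List ℕ} {w : ℕ → List ℕ} (h : ∀ s ∈ l, Wm (w s) ∈ H) :
    Wm (l.flatMap w) ∈ H := by
  induction l with
  | nil => exact one_mem _
  | cons s l ih =>
    rw [List.flatMap_cons, Wm_append]
    exact mul_mem (h s List.mem_cons_self) (ih fun t ht => h t (List.mem_cons_of_mem _ ht))

theorem mw_mem (j v : ℕ) : Wm (mw j v) ∈ E j := Wm_flatMap_mem fun i hi => by
  cases Nat.testBit v i
  · exact one_mem _
  · exact Subgroup.subset_closure ⟨i, List.mem_range.1 hi, rfl⟩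

theorem E_elem {j : ℕ} (hj : j < 2) : IsElementaryAbelian 2 (E j) := by
  have hc : ∀ a ∈ E j, ∀ b ∈ E j, a * b = b * a := comm_closure (by
    rintro _ ⟨i, hi, rfl⟩ _ ⟨i', hi', rfl⟩
    rw [← Wm_append, ← Wm_append]
    exact Wm_eq (((chkE j hj).1 i hi).2.1 i' hi'))
  refine elemAb_of hc fun a ha => ?_
  induction ha using Subgroup.closure_induction with
  | mem a ha =>
    obtain ⟨i, hi, rfl⟩ := ha
    rw [pow_two, ← Wm_append]
    exact Wm_eq ((chkE j hj).1 i hi).1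
  | one => exact one_pow _
  | mul a b ha hb h1 h2 => rw [(show Commute a b from hc a ha b hb).mul_pow, h1, h2, mul_one]
  | inv a _ h => rw [inv_pow, h, inv_one]

theorem E_card {j : ℕ} (hj : j < 2) : 8 ≤ Nat.card (E j) := by
  have := Nat.card_le_card_of_injective (fun a : Fin 8 => (⟨Wm (mw j a), mw_mem j a⟩ : E j)) fun a b e =>
    Fin.ext ((chkE j hj).2.1 a a.2 b b.2 (eqB_iff.2 (congrArg Subtype.val e)))
  rwa [Nat.card_eq_fintype_card, Fintype.card_fin] at this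

theorem E_norm {j : ℕ} {l : List ℕ} {r : ℕ → ℕ} (h : ∀ i < 4, eqB (l ++ sw j i) (mw j (r i) ++ l) = true) :
    ∀ s ∈ E j, MulAut.conj (Wm l) s ∈ E j := HN.PC.conj_closure (by
  rintro _ ⟨i, hi, rfl⟩
  have e := Wm_eq (h i hi)
  rw [Wm_append, Wm_append] at e
  rw [e, mul_inv_cancel_right]
  exact mw_mem _ _)

variable {Y : Type} [Group Y] [Finite Y] {K : Subgroup Y} {V : Type} [AddCommGroup V] [Module (ZMod 2) V] [Finite V]
  {ρ : Representation (ZMod 2) Y V} {π : K →* M} {φ : Y →* MulAut M}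

omit [Finite Y] in
theorem finrank_le (H : Sit 2 K ρ π φ) {j : ℕ} (hj : j < 2) {g : Y} (hg : Rep π g (ew (gv j)))
    (hc : cod ρ (Subgroup.zpowers g) ≤ 4) : finrank (ZMod 2) V ≤ 12 := by
  obtain ⟨c2, c3, cA, cB, c0⟩ := chkGen j hj
  obtain ⟨a, ha⟩ := Rep.exi H.toFrm (k2 j)
  obtain ⟨b, hb⟩ := Rep.exi H.toFrm (k3 j)
  set N := Subgroup.zpowers g ⊔ (Subgroup.zpowers (a * g * a⁻¹) ⊔ Subgroup.zpowers (b * g * b⁻¹)) with hN
  let f : ℕ → Y := fun s => bif Nat.beq s 0 then g else bif Nat.beq s 1 then a * g * a⁻¹ else b * g * b⁻¹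
  have h1 : ∀ s, Rep π (f s) (gw j s) ∧ f s ∈ N := fun s => by
    unfold f gw
    cases Nat.beq s 0
    · cases Nat.beq s 1
      · exact ⟨(hb.mul hg).mul (hb.inv c3), Subgroup.mem_sup_right (Subgroup.mem_sup_right (Subgroup.mem_zpowers _))⟩
      · exact ⟨(ha.mul hg).mul (ha.inv c2), Subgroup.mem_sup_right (Subgroup.mem_sup_left (Subgroup.mem_zpowers _))⟩
    · exact ⟨hg, Subgroup.mem_sup_left (Subgroup.mem_zpowers _)⟩
  have h2 : ∀ l l', eqB (List.flatMap (gw j) l) l' = true → Wm l' ∈ (N.subgroupOf K).map π := fun l l' e => by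
    have p := (Rep.prod (fun s => (h1 s).1) l).congr e
    exact ⟨⟨_, p.1⟩, Subgroup.list_prod_mem N fun u hu => by
      obtain ⟨s, _, rfl⟩ := List.mem_map.1 hu
      exact (h1 s).2, p.2⟩
  have h3 := eq_top_of_gens (h2 _ _ cA) (h2 _ _ cB)
  have hK : N ≤ K := sup_le (Subgroup.zpowers_le.2 (h1 0).1.mem)
    (sup_le (Subgroup.zpowers_le.2 (h1 1).1.mem) (Subgroup.zpowers_le.2 (h1 2).1.mem))
  have h4 : K ≤ Subgroup.normalizer (N : Set Y) := fun k hk => by
    obtain ⟨n, hn, e⟩ : π ⟨k, hk⟩ ∈ (N.subgroupOf K).map π := h3 ▸ Subgroup.mem_top _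
    have hc : (n : Y)⁻¹ * k ∈ Subgroup.centralizer (K : Set Y) :=
      H.π_eq_one_iff (x := n⁻¹ * ⟨k, hk⟩).1 (by rw [map_mul, map_inv, e, inv_mul_cancel])
    rw [← mul_inv_cancel_left (n : Y) k]
    exact mul_mem (Subgroup.le_normalizer hn)
      (Subgroup.centralizer_le_normalizer _ (Subgroup.centralizer_le hK hc))
  have h5 : K ≤ N := (H.normal_cases h4).resolve_right fun e => hg.not_cen H.toFrm c0 (e (h1 0).2)
  have h6 := cod_sup_le (ρ := ρ) (Subgroup.zpowers g)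
    (Subgroup.zpowers (a * g * a⁻¹) ⊔ Subgroup.zpowers (b * g * b⁻¹))
  have h7 := cod_sup_le (ρ := ρ) (Subgroup.zpowers (a * g * a⁻¹)) (Subgroup.zpowers (b * g * b⁻¹))
  rw [cod_zpowers_conj, cod_zpowers_conj] at h7
  rw [← hN, H.cod_of_le h5] at h6
  omega

/-- a Heisenberg group in the normaliser of a `2`-group -/
theorem six_le (hf : Function.Injective ρ) {B : Subgroup Y} (hB : IsPGroup 2 B) {u q z : Y}
    (hu : u ∈ Subgroup.normalizer (B : Set Y)) (hq : q ∈ Subgroup.normalizer (B : Set Y))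
    (hz : ∀ b ∈ B, b * z = z * b) (h1 : u * z = z * u) (h2 : q * z = z * q) (h3 : q * u * q⁻¹ = u * z)
    (h4 : u ^ 3 = 1) (h5 : z ^ 3 = 1) (h6 : z ≠ 1) : 6 ≤ finrank (ZMod 2) (fx ρ B) := by
  have hz' : z ∈ Subgroup.normalizer (B : Set Y) :=
    Subgroup.centralizer_le_normalizer _ (Subgroup.mem_centralizer_iff.2 hz)
  have hU : Inv ρ (Subgroup.normalizer (B : Set Y)) (fx ρ B) := inv_fx le_rfl
  have e := heis_cod_eq (ρ := resOn ρ hU) (y := ⟨u, hu⟩) (z := ⟨z, hz'⟩) (q := ⟨q, hq⟩) (Subtype.ext h1)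
    (Subtype.ext h2) (Subtype.ext h3) Nat.prime_three (by decide) (Subtype.ext h4) (Subtype.ext h5)
  obtain ⟨t, ht⟩ := even_cod (resOn ρ hU) (a := ⟨z, hz'⟩) (Subtype.ext h5)
  have h0 : cod (resOn ρ hU) (Subgroup.zpowers ⟨z, hz'⟩) ≠ 0 := fun e0 => by
    have e1 : resOn ρ hU ⟨z, hz'⟩ = 1 := cod_eq_zero_iff.1 e0 (Subgroup.mem_zpowers _)
    have hW : Inv ρ B (cm ρ ⊤ (Subgroup.zpowers z)) := inv_cm (fun b hb => Subgroup.centralizer_le_normalizer _
      (Subgroup.mem_centralizer_iff.2 fun a ha => by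
        obtain ⟨n, rfl⟩ := ha
        exact ((show Commute b z from hz b hb).zpow_right n).eq.symm)) (inv_top B)
    obtain ⟨w, hw, w0⟩ := (Submodule.ne_bot_iff _).1 (inf_fx_ne_bot hB hW fun e2 =>
      h6 (Subgroup.zpowers_eq_bot.1 (eq_bot_of_fx_eq_top hf (eq_top_iff.2 (cm_eq_bot_iff.1 e2)))))
    have e2 : ρ z w = w := congrArg Subtype.val (LinearMap.congr_fun e1 ⟨w, hw.2⟩)
    obtain ⟨v, rfl⟩ : w ∈ LinearMap.range (ρ z - 1) := cm_zpowers (ρ := ρ) z ▸ hw.1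
    exact w0 (sub_eq_zero.2 (eq_of_sub_one_sq (p := 2) h5 (by norm_num) e2))
  have : cod (resOn ρ hU) (Subgroup.zpowers ⟨z, hz'⟩) ≤ finrank (ZMod 2) (fx ρ B) := Nat.sub_le _ _
  omega

theorem off_of_small (H : Sit 2 K ρ π φ) {j : ℕ} (hj : j < 2) {g u : Y} (hg : Rep π g (ew (gv j)))
    (hc : cod ρ (Subgroup.zpowers g) ≤ 4) (hu : Rep π u (ew (uv j))) (h3 : u ^ 3 = 1)
    (hq : ∀ q, Rep π q (wq j) → q⁻¹ * u * q ≠ u) : ∃ B ≤ K, Off 2 ρ B ∧ Cub ρ B := by
  obtain ⟨B, hBK, hp, -, hcard, -, hn, he⟩ := H.exists_lift (elemAb_isPGroup (E_elem hj))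
  obtain ⟨q, hq'⟩ := Rep.exi H.toFrm (wq j)
  obtain ⟨z, hz, e⟩ := (hu.mul hq').eq H.toFrm (hq'.mul hu) (chkE j hj).2.2.1
  have e' : q⁻¹ * u * q = u * z := by rw [mul_assoc, e]; group
  have k := Subgroup.mem_centralizer_iff.1 hz
  have h6 := six_le H.faithful hp (u := u) (q := q⁻¹) (z := z)
    (hn u (by rw [hu.phi H.toFrm]; exact E_norm fun i hi => ((chkE j hj).1 i hi).2.2.1))
    (inv_mem (hn q (by rw [hq'.phi H.toFrm]; exact E_norm fun i hi => ((chkE j hj).1 i hi).2.2.2)))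
    (fun b hb => k b (hBK hb)) (k u hu.mem) (k _ (inv_mem hq'.mem)) (by rw [inv_inv, e']) h3
    (Dat.cube_z e' h3 h3 hu.mem hz) fun e1 => hq q hq' (by rw [e', e1, mul_one])
  have h12 := finrank_le H hj hg hc
  have h7 : cod ρ B ≤ 6 := by unfold cod; omega
  have h8 := E_card hj
  refine ⟨B, hBK, ⟨he (E_elem hj), fun e1 => ?_, ?_⟩, by_contra fun e1 => ?_⟩
  · rw [e1, Subgroup.card_bot] at hcard
    omega
  · exact (Nat.pow_le_pow_right (by norm_num) h7).trans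
      ((show 2 ^ 6 = 8 ^ 2 by norm_num).le.trans (Nat.pow_le_pow_left (hcard ▸ h8) 2))
  · have := seven_le_cod (he (E_elem hj)) e1
    omega

/-- the lower bounds -/
def Big (ρ : Representation (ZMod 2) Y V) (π : K →* M) : Prop :=
  (∀ t, Rep π t wb → 8 ≤ cod ρ (Subgroup.zpowers t)) ∧
    ∀ (a b : Y) (A : Subgroup Y), Rep π a wa → Rep π b wb ∨ Rep π b wc → a ∈ A → b ∈ A → 12 ≤ cod ρ A

theorem big_or_off (H : Sit 2 K ρ π φ) : Big ρ π ∨ ∃ B ≤ K, Off 2 ρ B ∧ Cub ρ B := by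
  obtain ⟨D, h0, h1, h2⟩ := exists_dat H.toFrm (H.card_centralizer ▸ H.cop)
  refine (D.dich ρ H.faithful h0).imp (fun h => ⟨fun t ht => h.1 t (h1 _ _ (by decide) ht),
    fun a b A ha hb => h.2 a b A (h1 _ _ (by decide) ha) (hb.imp (h1 _ _ (by decide)) (h1 _ _ (by decide)))⟩) ?_
  rintro ⟨j, hj, h3, h4⟩
  exact off_of_small H hj (h2 _) h3 (h2 _) (D.el_cube _) fun q hq => h4 q (h1 _ _ (chkE j hj).2.2.2 hq)

end Cfsg.Agent.TwoF.XL.U43
end

-- part: TwoF/XL/U43/Cert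
section
/-!
# TwoF XL-U43: certificates for the involutions and four-groups of the Sylow `2`-subgroup (helper87)
-/

set_option autoImplicit false
set_option maxRecDepth 100000

namespace Cfsg.Agent.TwoF.XL.U43

open Cfsg.Agent.SporadicStructure.PermChain

def sq (e : ℕ) : Bool := Nat.beq (cde (wd 10 e ++ wd 10 e)) (cde [])
def cmt (e f : ℕ) : Bool := Nat.beq (cde (wd 10 e ++ wd 10 f)) (cde (wd 10 f ++ wd 10 e))

theorem sq_of {e : ℕ} (h : el e * el e = 1) : sq e = true :=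
  Nat.beq_eq.mpr (cde_eq ((W_append _ _).trans h))

theorem cmt_of {e f : ℕ} (h : el e * el f = el f * el e) : cmt e f = true :=
  Nat.beq_eq.mpr (cde_eq ((W_append _ _).trans (h.trans (W_append _ _).symm)))

/-- the commutator of an involution with an inner word -/
def cv (e : ℕ) (k : List ℕ × List ℕ × ℕ) (p : ℕ) : ℕ := ev 16 (wd 10 e) (ev 13 k.1 (ev 16 (wd 10 e) (ev 13 k.2.1 p)))

/-- a cycle of length four -/
def c4 (e : ℕ) (k : List ℕ × List ℕ × ℕ) : Bool :=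
  force (cv e k k.2.2) fun p1 => force (cv e k p1) fun p2 => !(Nat.beq p2 k.2.2) &&
    force (cv e k p2) fun p3 => Nat.beq (cv e k p3) k.2.2

/-- a cycle of length two -/
def c2 (e : ℕ) (k : List ℕ × List ℕ × ℕ) : Bool :=
  force (cv e k k.2.2) fun p1 => !(Nat.beq p1 k.2.2) && Nat.beq (cv e k p1) k.2.2

def K4 : List (List ℕ × List ℕ × ℕ) := [([2, 0, 4], [4, 4, 1, 2], 79), ([5], [5, 5], 134), ([1, 4, 2], [2, 4, 4, 0], 50),
  ([0, 0, 2], [2, 1, 1], 275), ([0, 2, 0], [1, 2, 1], 99), ([2, 5], [5, 5, 2], 100), ([4, 2, 0], [1, 2, 4, 4], 0),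
  ([0, 0, 0], [1, 1, 1], 106), ([0, 4], [4, 4, 1], 83), ([1, 2, 5], [5, 5, 2, 0], 20)]
def K2 : List (List ℕ × List ℕ × ℕ) := [([2, 0, 4], [4, 4, 1, 2], 0), ([3, 3, 0], [1, 3, 3, 3], 0)]
/-- the reflections -/
def Bad : List ℕ := [270, 271, 356, 359, 360, 362, 392, 393, 449, 450, 456, 458]
/-- the inner involutions -/
def I0 : List ℕ := [1, 2, 3, 8, 9, 10, 11, 12, 13, 14, 15, 16, 17, 20, 21, 26, 27, 28, 29, 64, 65, 66, 67, 72, 73, 74,
  75, 100, 101, 102, 103, 104, 105, 106, 107]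

private noncomputable def stK (c s y : ℕ) : ℕ := @Bool.rec (fun _ => ℕ) y (look 9 (tabs.getD s 0) y) (Nat.blt s c)

private noncomputable def evK (c : ℕ) (l : List ℕ) (x : ℕ) : ℕ :=
  @List.rec ℕ (fun _ => ℕ) x (fun s _ ih => force ih (stK c s)) l

private theorem evK_eq : ev = evK := by
  funext c l x
  induction l with
  | nil => rfl
  | cons s l ih =>
    rw [ev, ih, force_eq]
    refine Eq.trans ?_ (force_eq (evK c l x) (stK c s)).symm
    unfold stK
    cases Nat.blt s c <;> rfl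

private theorem ev_ap (c : ℕ) (l l' : List ℕ) (x : ℕ) : ev c (l ++ l') x = ev c l (ev c l' x) := by
  induction l with
  | nil => rfl
  | cons s l ih => rw [List.cons_append, ev, ev, ih]

private noncomputable def ewK (c e k : ℕ) : ℕ → ℕ :=
  @Nat.rec (fun _ => ℕ → ℕ) (fun x => x) (fun k ih x => @Bool.rec (fun _ => ℕ) (ih x)
    (force (stK c (Nat.add 6 k) x) ih) (Nat.testBit e k)) k

private theorem ev_wd (c k e x : ℕ) : ev c (wd k e) x = force x (ewK c e k) := by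
  rw [force_eq]
  induction k generalizing x with
  | zero => rfl
  | succ k ih =>
    rw [wd, ev_ap, ih]
    show _ = @Bool.rec (fun _ => ℕ) (ewK c e k x) (force (stK c (Nat.add 6 k) x) (ewK c e k)) (Nat.testBit e k)
    cases Nat.testBit e k
    · rfl
    · rw [cond_true, evK_eq]
      exact (congrArg (ewK c e k) (force_eq x (stK c (6 + k)))).trans (force_eq _ _).symm

theorem chkK : ∀ k ∈ K4 ++ K2, eqB (k.2.1 ++ k.1) [] = true ∧ k.2.2 < 280 := by decide +kernel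

theorem chkInv : allBelow (fun e => !(sq e) || (Nat.beq e 0 || ((Nat.blt e 768 && (Nat.ble 128 e || I0.any (Nat.beq e))) &&
    (K4.any (c4 e) || (Bad.any (Nat.beq e) && K2.any (c2 e)))))) 1024 = true := by
  delta sq c4 c2 cv cde
  simp only [ev_ap, ev_wd]
  rewrite [evK_eq]
  decide +kernel

theorem inv_spec {e : ℕ} (he : e < 1024) (h : sq e = true) (h0 : e ≠ 0) : e < 768 ∧ (e < 128 → e ∈ I0) ∧
    ((∃ k ∈ K4, c4 e k = true) ∨ (e ∈ Bad ∧ ∃ k ∈ K2, c2 e k = true)) := by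
  have := allBelow_spec _ _ chkInv e he
  simp only [h, Bool.not_true, Bool.false_or, Bool.or_eq_true, Bool.and_eq_true, Nat.beq_eq, Nat.blt_eq, Nat.ble_eq,
    List.any_eq_true, h0, false_or, exists_eq_right'] at this
  exact ⟨this.1.1, fun h => this.1.2.resolve_left (by omega), this.2⟩

theorem chkBad : (Bad.all fun e => Bad.all fun f => force (cde (wd 10 e ++ wd 10 f)) fun c =>
    Bad.all fun g => !(Nat.beq c (cde (wd 10 g)))) = true := by decide +kernel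

theorem bad_mul {e f g : ℕ} (he : e ∈ Bad) (hf : f ∈ Bad) (hg : g ∈ Bad) : el e * el f ≠ el g := fun h => by
  have := List.all_eq_true.1 (List.all_eq_true.1 chkBad e he) f hf
  rw [force_eq] at this
  have := List.all_eq_true.1 this g hg
  rw [cde_eq ((W_append _ _).trans h), Nat.beq_refl] at this
  exact Bool.noConfusion this

/-- packed words -/
def unp : ℕ → ℕ → List ℕ
  | 0, _ => []
  | k + 1, n => bif Nat.beq n 0 then [] else (n % 16 - 1) :: unp k (n / 16)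

def LI : List ℕ := [
  0x18b480c0, 0x1d61380c1, 0x59aba80c2, 0x1e9380c3, 0x1baba80c8, 0x1aba80c9, 0x49aba80ca, 0x61aba80cb, 0x2bc0e4,
  0x2240e5, 0x6a240e6, 0x4a240e7, 0x5a240e8, 0x5abc0e9, 0x65a240ea, 0x5ca240eb, 0x2342d8108, 0x209c8482, 0x30b42810a,
  0x1da22810b, 0x2422c10c, 0x16b09c10d, 0x6a422c10e, 0x62422c10f, 0x4a4228140, 0x2160a082, 0x24228142, 0x16b098143,
  0x2ec3c164, 0xb4ac165, 0xe5c0c166, 0x16e48c167, 0x98e90188, 0x60cb68483, 0xcb68503, 0xa26c818b, 0x3119418c,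
  0x4b119418d, 0x6b119418e, 0x63119418f, 0xd30981c8, 0x311901c9, 0x4b11901ca, 0x6311901cb, 0x61a4241e8, 0x49a4241e9,
  0x1a4241ea, 0x69a4241eb, 0x1dc2040a, 0x59da040b, 0x35ca94a08, 0x15e88c415, 0x2e430c41c, 0xd388c41d, 0x32cba108,
  0x1151a188, 0x1ab20844a, 0xd388844b, 0x59dc2048a, 0x1da048b, 0x422c9ca09, 0x22c9ca89, 0x62e53449c, 0xc588c49d,
  0xcab2009, 0x16b8884c1, 0xba3284c8, 0x28e1584c9, 0x6ae534510, 0x21535488a, 0x2e53451a, 0x42e53451b, 0x1d213a00a,
  0x18a588541, 0x32e898854a, 0x126c8a58a, 0x11392c590, 0x2b50bc591, 0x35611459a, 0x29391c59b, 0x20ca285c2,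
  0x1335e85c3, 0x3561105c8, 0x3133685c9, 0x242460e, 0x5a42460f, 0x33a318610, 0x28de20611, 0x9d92861c, 0xa24a861d,
  0xc8c730c, 0x354b24667, 0x12b6750c, 0x28de2466b, 0x16430c68e, 0x4a42468f, 0x1e9a20690, 0x31e1d8691, 0x42695869c,
  0x2695869d, 0x6226c46e4, 0x1ea2728d, 0x330e8c6e8, 0x14194c6e9, 0x32d08a0e, 0x269548715, 0x28e1a071a, 0x2e9360d8e,
  0x61ea2720e, 0x226c4765, 0x2dc9f50e, 0x28e1a476b, 0x194a18794, 0xd9610795, 0xaa311079a, 0x30a290d8f, 0x1e24247e6,
  0x4a26c47e7, 0x9ed947e8, 0x320a5c7e9, 0x1520a481a, 0x1139481b, 0x49c9a081c, 0x1d1a0e90, 0x41139489a, 0x12d48c89b,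
  0x1c9a089c, 0x22126089d, 0x233b40a1a, 0x2da4c0a1b, 0x1cda94a1c, 0x611394a1d, 0x69d1a0a9a, 0x61c9a0a9b, 0x2e3624e15,
  0x1dd294a9d, 0x3351a041, 0x242042, 0x492d312049, 0xea0a04a, 0x62420c3, 0x60ea0a0c8, 0xe9338a0cb, 0x3539a143,
  0x20ca4c2, 0x12d31214a, 0xe28ba1c8, 0x620ca5c3, 0x1a54a4c8, 0x65a4244b, 0x5a42549, 0x28ca254b, 0x1abf2e4,
  0x60b4f266, 0x14340f269, 0x61ca2726a, 0xb4f2e7, 0x1ca272e8, 0x689d972eb, 0x69abf367, 0x69ca27369, 0x9d9736a,
  0x609d973e8, 0xa24f3eb, 0x59abf469, 0x58b4f46b, 0x6d8b4f4ea, 0x24ba9756b]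

def LII : List (ℕ × ℕ) := [
  (0x3321d8082, 0x676), (0x4a24181, 0x3b3), (0x59da0088, 0xc), (0x1da0089, 0xc9), (0x5e1da008a, 0xc),
  (0x59dba008b, 0xc), (0x242408c, 0xd), (0x4a42408d, 0xd), (0x6a42408e, 0xd), (0x224781, 0x3), (0x1520a4090, 0xd),
  (0x12d48c091, 0xd), (0x1cda94094, 0xd), (0x1dd294095, 0xd), (0x1ac26409a, 0xd), (0xea0a409b, 0xd),
  (0x26925c09c, 0xd), (0x22c9ac09d, 0xd), (0x2ec3c182, 0x3b3), (0x65a40148, 0x9), (0x5ca40149, 0x9),
  (0x5a4014a, 0x9), (0x5e24014b, 0x9), (0x58b4c168, 0x9), (0x6d8b4c169, 0x9), (0x31421c16a, 0x9), (0x5c8b4c16b, 0x9),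
  (0x2401c0, 0x9), (0x62401c1, 0x9), (0x4a401c2, 0x9), (0x64a401c3, 0x9), (0x60b4c1e4, 0x9), (0xb4c1e5, 0x9),
  (0x68b4c1e6, 0x9), (0x48b4c1e7, 0x9), (0x6b49a4488, 0x162), (0x492d310440, 0xb9), (0x60ea08441, 0xb9),
  (0x615208448, 0xb9), (0x592d310449, 0xb9), (0x12d3104c2, 0xb9), (0x65a0c84c3, 0xb9), (0x1da2509, 0x676),
  (0x620c84cb, 0xb9), (0x348cc50b, 0x4c32), (0x5a0c8542, 0xb), (0xe28b8543, 0xb), (0x348aa10548, 0xb),
  (0x20c8549, 0xb), (0xea085c0, 0xb), (0xe933885c1, 0xb), (0x152085ca, 0xb), (0x15133885cb, 0xb),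
  (0x242068c, 0x5474), (0x14340c664, 0xb), (0x1ca24665, 0xb), (0x1c9a24668, 0xb), (0x1aec3c669, 0xb),
  (0x9d946e6, 0xb), (0xa24c6e7, 0xb), (0x2542946ea, 0xb), (0x58a24c6eb, 0xb), (0x1adc9c78e, 0x3),
  (0x69ca24766, 0xb9), (0x609d94767, 0xb9), (0x59a24768, 0xb39), (0x4158769, 0x6861), (0x61ca247e4, 0xb9),
  (0x1a247e5, 0x3), (0x2dc9c7ea, 0x3), (0x24d9a47eb, 0xb9), (0xbb430890, 0x1b2), (0x69d1a4a15, 0x673),
  (0x365914d1b, 0x376), (0x1d1a4e1d, 0x686c), (0x3a461c0, 0x1a6), (0x242440, 0x676b), (0xea0e5c0, 0x353),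
  (0x4a460c2, 0x53b3), (0x62424c1, 0x676b), (0x60ea0a541, 0x676), (0x61520a148, 0x4242), (0x4a425c2, 0x676),
  (0x65a0ca4c3, 0x676b), (0x5a421ca, 0xb676), (0x55a4644a, 0x4c51), (0x20ca5c9, 0x676), (0x609d97267, 0x3),
  (0x3130e0f268, 0x3), (0x68a24b5e4, 0x636), (0x9d972e6, 0x3c3), (0x2bab4e5, 0x5454), (0x12b672ea, 0xb39),
  (0x58b4f368, 0x3b3), (0x5c8b4f36b, 0x3b3), (0xa24f4e7, 0x393), (0x2dc9f3ea, 0x3b9), (0x2dc9f46a, 0x3b9),
  (0x58a24f4eb, 0x393)]

def wk (n : ℕ) : List ℕ := bif Nat.testBit n 14 then wc else wb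

theorem wk_eq (n : ℕ) : wk n = wb ∨ wk n = wc := by
  unfold wk; cases Nat.testBit n 14
  exacts [Or.inl rfl, Or.inr rfl]

theorem chkLI : (LI.all fun n => eqB (unp 8 (n / 32768) ++ wd 7 (n % 16384 / 128)) (wa ++ unp 8 (n / 32768)) &&
    eqB (unp 8 (n / 32768) ++ wd 7 (n % 128)) (wk n ++ unp 8 (n / 32768))) = true := by
  delta eqB
  simp only [ev_ap, ev_wd]
  rewrite [evK_eq]
  decide +kernel

theorem chkLII : (LII.all fun n => eqB (unp 8 n.2 ++ wd 7 (n.1 % 16384 / 128)) (wd 7 (n.1 % 16384 / 128) ++ unp 8 n.2) &&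
    (eqB (unp 8 (n.1 / 32768) ++ wd 7 (n.1 % 128)) (wa ++ unp 8 (n.1 / 32768)) &&
      eqB (unp 8 (n.1 / 32768) ++ unp 8 n.2 ++ wd 7 (n.1 % 128)) (wk n.1 ++ (unp 8 (n.1 / 32768) ++ unp 8 n.2)))) =
    true := by
  delta eqB
  simp only [ev_ap, ev_wd]
  rewrite [evK_eq]
  decide +kernel

/-- the pair is conjugate to a standard pair -/
def TI (e f : ℕ) : Prop := ∃ k w, (w = wb ∨ w = wc) ∧ Wm (k ++ wd 7 e) = Wm (wa ++ k) ∧ Wm (k ++ wd 7 f) = Wm (w ++ k)

/-- the second element and a conjugate under the centraliser of the first one are a standard pair -/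
def TII (e f : ℕ) : Prop := ∃ k x w, (w = wb ∨ w = wc) ∧ Wm (x ++ wd 7 e) = Wm (wd 7 e ++ x) ∧
  Wm (k ++ wd 7 f) = Wm (wa ++ k) ∧ Wm (k ++ x ++ wd 7 f) = Wm (w ++ (k ++ x))

def isI (e f : ℕ) : Bool := LI.any fun n => force (n % 16384) fun c => Nat.beq c (128 * e + f) || Nat.beq c (128 * f + e)
def isII (e f : ℕ) : Bool :=
  LII.any fun n => force (n.1 % 16384) fun c => Nat.beq c (128 * e + f) || Nat.beq c (128 * f + e)

theorem isI_spec {e f : ℕ} (he : e < 128) (hf : f < 128) (h : isI e f = true) : TI e f ∨ TI f e := by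
  obtain ⟨n, hn, h⟩ := List.any_eq_true.1 h
  have c := List.all_eq_true.1 chkLI n hn
  rw [Bool.and_eq_true, eqB_iff, eqB_iff] at c
  rw [force_eq, Bool.or_eq_true, Nat.beq_eq, Nat.beq_eq] at h
  refine h.imp (fun h => ?_) fun h => ?_
  · rw [show n % 16384 / 128 = e by omega, show n % 128 = f by omega] at c
    exact ⟨_, _, wk_eq n, c⟩
  · rw [show n % 16384 / 128 = f by omega, show n % 128 = e by omega] at c
    exact ⟨_, _, wk_eq n, c⟩

theorem isII_spec {e f : ℕ} (he : e < 128) (hf : f < 128) (h : isII e f = true) : TII e f ∨ TII f e := by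
  obtain ⟨n, hn, h⟩ := List.any_eq_true.1 h
  have c := List.all_eq_true.1 chkLII n hn
  rw [Bool.and_eq_true, Bool.and_eq_true, eqB_iff, eqB_iff, eqB_iff] at c
  rw [force_eq, Bool.or_eq_true, Nat.beq_eq, Nat.beq_eq] at h
  refine h.imp (fun h => ?_) fun h => ?_
  · rw [show n.1 % 16384 / 128 = e by omega, show n.1 % 128 = f by omega] at c
    exact ⟨_, _, _, wk_eq n.1, c⟩
  · rw [show n.1 % 16384 / 128 = f by omega, show n.1 % 128 = e by omega] at c
    exact ⟨_, _, _, wk_eq n.1, c⟩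

private noncomputable def mkK {α : Type} (g : α → ℕ) (L : List α) : ℕ :=
  @List.rec α (fun _ => ℕ) 0 (fun n _ a => Nat.lor (Nat.pow 2 (g n)) a) L

private theorem mkK_any {α : Type} (g : α → ℕ) (a b : ℕ) (L : List α) :
    (L.any fun n => force (g n) fun c => Nat.beq c a || Nat.beq c b) = ((mkK g L).testBit a || (mkK g L).testBit b) := by
  induction L with
  | nil => rw [show mkK g [] = 0 from rfl, Nat.zero_testBit, Nat.zero_testBit]; rfl
  | cons n L ih =>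
    have e : ∀ x y, Nat.beq x y = decide (x = y) := fun x y => by
      rw [Bool.eq_iff_iff, Nat.beq_eq, decide_eq_true_iff]
    rw [List.any_cons, ih, force_eq, show mkK g (n :: L) = 2 ^ g n ||| mkK g L from rfl, Nat.testBit_or, Nat.testBit_or,
      Nat.testBit_two_pow, Nat.testBit_two_pow, e, e]
    ac_rfl

theorem chkP : (I0.all fun e => I0.all fun f => Nat.beq e f || (!(cmt e f) || (isI e f || (isII e f &&
    I0.all fun g => (Nat.beq g e || Nat.beq g f) || (!(cmt e g) || (!(cmt f g) || ((isI e g || isI f g) ||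
      Nat.beq (cde (wd 10 e ++ wd 10 f)) (cde (wd 10 g))))))))) = true := by (delta Cfsg.Agent.TwoF.XL.U43.isI Cfsg.Agent.TwoF.XL.U43.isII cmt Cfsg.Agent.TwoF.XL.U43.cde; simp only [ev_ap, ev_wd, mkK_any]; decide +kernel)

theorem pair_spec {e f : ℕ} (he : e ∈ I0) (hf : f ∈ I0) (h : e ≠ f) (hc : cmt e f = true) : isI e f = true ∨
    (isII e f = true ∧ ∀ g ∈ I0, g ≠ e → g ≠ f → cmt e g = true → cmt f g = true →
      isI e g = true ∨ isI f g = true ∨ cde (wd 10 e ++ wd 10 f) = cde (wd 10 g)) := by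
  have := List.all_eq_true.1 (List.all_eq_true.1 chkP e he) f hf
  simp only [hc, Bool.not_true, Bool.false_or, Bool.or_eq_true, Bool.and_eq_true, Nat.beq_eq, h, false_or,
    List.all_eq_true] at this
  refine this.imp_right fun p => ⟨p.1, fun g hg h1 h2 h3 h4 => ?_⟩
  have := p.2 g hg
  simp only [h1, h2, h3, h4, Bool.not_true, false_or, Bool.false_eq_true] at this
  exact or_assoc.1 this

end Cfsg.Agent.TwoF.XL.U43
end

-- part: TwoF/XL/U43/Row
section
/-!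
# TwoF XL-U43: the row of `U₄(3)` in characteristic two (helper87)
-/

set_option autoImplicit false
set_option maxRecDepth 100000

namespace Cfsg.Agent.TwoF.XL.U43

open Module Gen Cfsg.Agent.SporadicStructure PermChain FieldNine Cfsg.Agent.HN.PC

theorem one_class_M {s : M} (h2 : s * s = 1) (h1 : s ≠ 1) : ∃ g, g * s * g⁻¹ = Wm wb := by
  obtain ⟨e⟩ := iso K9.card_K9'
  have : CharP K9 3 := (CharP.charP_iff_prime_eq_zero Nat.prime_three).2 (by decide)
  have key : ∀ t : M, t * t = 1 → t ≠ 1 → ∃ g, g * _ * g⁻¹ = e.symm t := fun t p q =>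
    OddHalf.D6.QThree.U43Tw.one_class K9.card_K9 (e.symm t) (by rw [← map_mul, p, map_one])
      fun r => q (e.symm.injective (r.trans (map_one _).symm))
  obtain ⟨a, ha⟩ := key s h2 h1
  obtain ⟨b, hb⟩ := key (Wm wb) (by rw [← Wm_append]; exact Wm_eq (l' := []) (by decide +kernel))
    (Wm_ne (l' := []) (by decide +kernel))
  refine ⟨e (b * a⁻¹), e.symm.injective ?_⟩
  rw [map_mul, map_mul, map_inv, MulEquiv.symm_apply_apply, ← ha, ← hb]
  group

theorem rank_M {B : Subgroup (MulAut M)} (h : ∀ x ∈ B, x * x = 1) : Nat.card B ≤ 2 ^ 5 := by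
  obtain ⟨e⟩ := iso K9.card_K9'
  have := Omega.TwoF.RkPSU.rkAut (n := 4) K9.card_K9' (by decide) (by norm_num)
    (B.map (MulAut.congr e.symm).toMonoidHom) (by
      rintro _ ⟨x, hx, rfl⟩
      rw [← map_mul, h x hx, map_one])
  rwa [Subgroup.card_map_of_injective (MulAut.congr e.symm).injective] at this

theorem exists_notMem {Y : Type} [Group Y] {B : Subgroup Y} (s : Finset Y) (h : s.card < Nat.card B) :
    ∃ a ∈ B, a ∉ s := by
  by_contra e
  push Not at e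
  have := Set.ncard_le_ncard (s := (B : Set Y)) (t := s) e
  rw [Set.ncard_coe_finset, ← Nat.card_coe_set_eq] at this
  exact absurd this (not_le.2 h)

theorem Rp.inv {q : MulAut M} {g : Pm} (h : Rp q g) : Rp q⁻¹ g⁻¹ := fun s => by
  have := h (q⁻¹ s)
  rw [MulAut.apply_inv_self] at this
  rw [this]; group

variable {Y : Type} [Group Y] [Finite Y] {K : Subgroup Y} {V : Type} [AddCommGroup V] [Module (ZMod 2) V] [Finite V]
  {ρ : Representation (ZMod 2) Y V} {π : K →* M} {φ : Y →* MulAut M}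

omit [Finite Y] in
/-- an element of order four has larger codimension than its square -/
theorem cod_sq_lt (hf : Function.Injective ρ) {v : Y} (h4 : v ^ 2 ^ 2 = 1) (h1 : v ≠ 1) :
    cod ρ (Subgroup.zpowers (v ^ 2)) < cod ρ (Subgroup.zpowers v) := by
  by_contra e
  have h := fx_eq_of_cod_le (ρ := ρ) (Subgroup.zpowers_le.2 (pow_mem (Subgroup.mem_zpowers v) 2)) (not_lt.1 e)
  have k : ∀ u, (ρ v - 1) ((ρ v - 1) u) = 0 → (ρ v - 1) u = 0 := fun u hu => by
    rw [← mem_fx_zpowers', h, mem_fx_zpowers', pow_two, Gen.mul_sub_one, hu, add_zero, ← two_smul (ZMod 2),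
      show (2 : ZMod 2) = 0 from rfl, zero_smul]
  have p := sub_one_pow (ρ := ρ) (p := 2) h4
  refine h1 (hf (LinearMap.ext fun u => ?_))
  have := k u (k _ (k _ (LinearMap.congr_fun p u)))
  rw [map_one]
  exact sub_eq_zero.1 this

omit [Finite Y] [Finite V] in
theorem Rep.conj {g k : Y} {l lk l' : List ℕ} (hg : Rep π g l) (hk : Rep π k lk)
    (e : Wm (lk ++ l) = Wm (l' ++ lk)) : Rep π (k * g * k⁻¹) l' :=
  ⟨mul_mem (mul_mem hk.1 hg.1) (inv_mem hk.1), by
    rw [Wm_append, Wm_append, ← hg.2, ← hk.2] at e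
    refine Eq.trans ?_ (mul_inv_eq_iff_eq_mul.2 e)
    rw [← map_inv, ← map_mul, ← map_mul]; rfl⟩

section big

variable (H : Sit 2 K ρ π φ) (hB : Big ρ π)
include H hB

omit [Finite V] in
theorem eight_le {t : Y} (hK : t ∈ K) (h2 : t ^ 2 = 1) (h1 : t ≠ 1) : 8 ≤ cod ρ (Subgroup.zpowers t) := by
  obtain ⟨g, hg⟩ := one_class_M (s := π ⟨t, hK⟩) (by
    rw [← map_mul, ← map_one π]; exact congrArg π (Subtype.ext ((pow_two t).symm.trans h2))) fun e =>
      h1 (H.eq_one_of_mem_centralizer (n := 1) h2 (H.π_eq_one_iff.1 e))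
  obtain ⟨g, rfl⟩ := H.surj g
  rw [← cod_zpowers_conj (g : Y) t]
  refine hB.1 _ ⟨mul_mem (mul_mem g.2 hK) (inv_mem g.2), ?_⟩
  rw [← hg, ← map_inv, ← map_mul, ← map_mul]; rfl

theorem le_of_cycle {w : K} {p : Fin 280} :
    (((π w : Pm) ^ 2) p = p → (π w : Pm) p ≠ p → 8 ≤ cod ρ (Subgroup.zpowers (w : Y))) ∧
    (((π w : Pm) ^ 4) p = p → ((π w : Pm) ^ 2) p ≠ p → 9 ≤ cod ρ (Subgroup.zpowers (w : Y))) := by
  have h0 : orderOf (w : Y) ≠ 0 := (orderOf_pos _).ne'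
  have hp : MulAction.period (π w : Pm) p ∣ orderOf (w : Y) := MulAction.pow_smul_eq_iff_period_dvd.1 (by
    rw [← Subgroup.coe_pow, ← map_pow, Subgroup.orderOf_coe, pow_orderOf_eq_one, map_one]; rfl)
  refine ⟨fun h2 h1 => ?_, fun h4 h2 => ?_⟩
  · have a : MulAction.period (π w : Pm) p ∣ 2 := MulAction.pow_smul_eq_iff_period_dvd.1 h2
    have b : ¬ MulAction.period (π w : Pm) p ∣ 1 := fun e => h1 (by
      have := MulAction.pow_smul_eq_iff_period_dvd.2 e
      rwa [pow_one] at this)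
    rw [((Nat.dvd_prime Nat.prime_two).1 a).resolve_left fun e => b (e ▸ dvd_rfl)] at hp
    have o := orderOf_pow_orderOf_div h0 hp
    refine (eight_le H hB (pow_mem w.2 _) (o ▸ pow_orderOf_eq_one _) fun e => ?_).trans (cod_pow_le _ _)
    rw [e, orderOf_one] at o
    omega
  · have a : MulAction.period (π w : Pm) p ∣ 2 ^ 2 := MulAction.pow_smul_eq_iff_period_dvd.1 h4
    have b : ¬ MulAction.period (π w : Pm) p ∣ 2 := fun e => h2 (MulAction.pow_smul_eq_iff_period_dvd.2 e)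
    obtain ⟨i, hi, e⟩ := (Nat.dvd_prime_pow Nat.prime_two).1 a
    have : i = 2 := by
      by_contra q
      exact b (e ▸ (pow_dvd_pow 2 (by omega : i ≤ 1)))
    rw [e, this] at hp
    have o := orderOf_pow_orderOf_div h0 hp
    have h4 : ((w : Y) ^ (orderOf (w : Y) / 2 ^ 2)) ^ 2 ^ 2 = 1 :=
      orderOf_dvd_iff_pow_eq_one.1 o.dvd
    have h2 : ((w : Y) ^ (orderOf (w : Y) / 2 ^ 2)) ^ 2 ≠ 1 := fun e => by
      have := orderOf_dvd_of_pow_eq_one e
      rw [o] at this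
      omega
    have c1 := eight_le H hB (pow_mem (pow_mem w.2 _) 2) (by rw [← pow_mul]; exact h4) h2
    have c2 := cod_sq_lt H.faithful h4 fun e => h2 (by rw [e, one_pow])
    have c3 := cod_pow_le (ρ := ρ) (w : Y) (orderOf (w : Y) / 2 ^ 2)
    omega

omit hB [Finite Y] [Finite V] in
theorem exists_comm {a : Y} {e : ℕ} (h : Rp (φ a) (el e)) (h2 : el e * el e = 1) {k : List ℕ × List ℕ × ℕ}
    (hk : k ∈ K4 ++ K2) : ∃ (w : K) (x : Y), (w : Y) = a * x * a⁻¹ * x⁻¹ ∧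
      ∀ p : Fin 280, ((π w : Pm) p : ℕ) = cv e k p := by
  obtain ⟨x, hx⟩ := Rep.exi H.toFrm k.1
  have hx' := hx.inv (chkK k hk).1
  have hm := H.normal.conj_mem x hx.1 a
  refine ⟨⟨_, hm⟩ * ⟨_, hx'.1⟩, x, rfl, fun p => ?_⟩
  rw [map_mul, ← H.conj a ⟨x, hx.1⟩ ⟨_, hm⟩ rfl, Subgroup.coe_mul, h, hx.2, hx'.2, inv_eq_of_mul_eq_one_right h2]
  simp only [Equiv.Perm.mul_apply, el, W_spec, Wm_spec, cv]

theorem le_cod_inv {a : Y} {e : ℕ} (he : e < 1024) (h : Rp (φ a) (el e)) (h2 : el e * el e = 1) (h0 : e ≠ 0) :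
    4 ≤ cod ρ (Subgroup.zpowers a) ∧ (e ∈ Bad ∨ 5 ≤ cod ρ (Subgroup.zpowers a)) := by
  rcases (inv_spec he (sq_of h2) h0).2.2 with ⟨k, hk, c⟩ | ⟨hb, k, hk, c⟩
  · obtain ⟨w, x, e1, e2⟩ := exists_comm H h h2 (List.mem_append_left _ hk)
    have hp := (chkK k (List.mem_append_left _ hk)).2
    simp only [c4, force_eq, Bool.and_eq_true, Bool.not_eq_true', Nat.beq_eq] at c
    have := (le_of_cycle H hB (w := w) (p := ⟨_, hp⟩)).2 (Fin.ext (by
      simp only [pow_succ, pow_zero, one_mul, Equiv.Perm.mul_apply, e2]; exact c.2)) fun q => by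
        have q' := congrArg Fin.val q
        simp only [pow_succ, pow_zero, one_mul, Equiv.Perm.mul_apply, e2] at q'
        rw [q', Nat.beq_refl] at c
        exact Bool.noConfusion c.1
    have h3 := cod_zpowers_commutator_le (ρ := ρ) a x
    rw [← e1] at h3
    omega
  · obtain ⟨w, x, e1, e2⟩ := exists_comm H h h2 (List.mem_append_right _ hk)
    have hp := (chkK k (List.mem_append_right _ hk)).2
    simp only [c2, force_eq, Bool.and_eq_true, Bool.not_eq_true', Nat.beq_eq] at c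
    have := (le_of_cycle H hB (w := w) (p := ⟨_, hp⟩)).1 (Fin.ext (by
      simp only [pow_succ, pow_zero, one_mul, Equiv.Perm.mul_apply, e2]; exact c.2)) fun q => by
        have q' := congrArg Fin.val q
        simp only [e2] at q'
        rw [q', Nat.beq_refl] at c
        exact Bool.noConfusion c.1
    have h3 := cod_zpowers_commutator_le (ρ := ρ) a x
    rw [← e1] at h3
    exact ⟨by omega, Or.inl hb⟩

omit hB [Finite Y] [Finite V] in
theorem rep_low {a : Y} {e : ℕ} (he : e < 128) (h : Rp (φ a) (el e)) : Rep π a (wd 7 e) := by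
  rw [el_low he] at h
  have hK : a ∈ K := H.mem_inn_iff.1 ⟨_, (Rp.conj _).ext h⟩
  refine ⟨hK, Subtype.ext (Rp.unique ?_ h)⟩
  exact (H.φ_coe ⟨a, hK⟩ : φ a = _) ▸ Rp.conj _

omit H [Finite Y] [Finite V] in
theorem twelve_of_conj {a b k : Y} {A : Subgroup Y} {w : List ℕ} (hw : w = wb ∨ w = wc)
    (ha : Rep π (k * a * k⁻¹) wa) (hb : Rep π (k * b * k⁻¹) w) (h1 : a ∈ A) (h2 : b ∈ A) :
    12 ≤ cod ρ A := by
  rw [← cod_conj k A]
  exact hB.2 _ _ _ ha (hw.imp (fun e => e ▸ hb) fun e => e ▸ hb) ⟨a, h1, rfl⟩ ⟨b, h2, rfl⟩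

omit [Finite Y] [Finite V] in
theorem twelve_I {a b : Y} {e f : ℕ} {A : Subgroup Y} (ha : Rep π a (wd 7 e)) (hb : Rep π b (wd 7 f)) (h1 : a ∈ A)
    (h2 : b ∈ A) (h : TI e f) : 12 ≤ cod ρ A := by
  obtain ⟨k, w, hw, e1, e2⟩ := h
  obtain ⟨k', hk⟩ := Rep.exi H.toFrm k
  exact twelve_of_conj hB hw (ha.conj hk e1) (hb.conj hk e2) h1 h2

theorem nine_II {a b : Y} {e f : ℕ} {A : Subgroup Y} (ha : Rep π a (wd 7 e)) (hb : Rep π b (wd 7 f)) (h1 : a ∈ A)
    (h2 : b ∈ A) (a2 : a ^ 2 = 1) (a1 : a ≠ 1) (h : TII e f) : 9 ≤ cod ρ A := by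
  by_contra c
  obtain ⟨k, x, w, hw, e0, e1, e2⟩ := h
  obtain ⟨k', hk⟩ := Rep.exi H.toFrm k
  obtain ⟨x', hx⟩ := Rep.exi H.toFrm x
  have h8 := eight_le H hB ha.1 a2 a1
  have hc : a * x' = x' * a := congrArg Subtype.val (comm_of_coprime (π := π) H.ker_π.le (a := ⟨a, ha.1⟩)
    (b := ⟨x', hx.1⟩) (by rw [ha.2, hx.2, ← Wm_append, ← Wm_append, e0]) (n := 2)
    (by rw [← map_pow, ← map_one π]; exact congrArg π (Subtype.ext a2))
    (by rw [H.ker_π]; exact (Nat.Prime.coprime_iff_not_dvd Nat.prime_two).2 H.cop))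
  have h3 := conj_mem_cl_of_comm (ρ := ρ) h1 (by omega) hc.symm (le_cl A h2)
  have h4 := hb.conj (hk.mul hx) e2
  rw [show k' * x' * b * (k' * x')⁻¹ = k' * (x' * b * x'⁻¹) * k'⁻¹ by group] at h4
  have := twelve_of_conj hB hw (hb.conj hk e1) h4 (le_cl (ρ := ρ) A h2) h3
  rw [cod_cl] at this
  omega

theorem noOff {A : Subgroup Y} (hA : Off 2 ρ A) (hP : ∀ a ∈ A, ∃ e < 1024, Rp (φ a) (el e)) : False := by
  classical
  obtain ⟨r, r0, hr, hc⟩ := hA.exists_card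
  have hp := elemAb_isPGroup hA.1
  have a2 : ∀ a ∈ A, a * a = 1 := fun a ha => (pow_two a).symm.trans (hA.1.2 a ha)
  have r5 : r ≤ 5 := by
    have := rank_M (B := A.map φ) (by rintro _ ⟨a, ha, rfl⟩; rw [← map_mul, a2 a ha, map_one])
    rw [H.card_map H.toFrm hp, hr] at this
    exact (Nat.pow_le_pow_iff_right (by norm_num)).1 this
  choose! ε h1 h2 using hP
  have hm : ∀ a ∈ A, ∀ b ∈ A, el (ε a) * el (ε b) = el (ε (a * b)) := fun a ha b hb =>
    ((h2 a ha).mul (h2 b hb)).unique (map_mul φ a b ▸ h2 _ (mul_mem ha hb))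
  have hi : ∀ a ∈ A, ∀ b ∈ A, el (ε a) = el (ε b) → a = b := fun a ha b hb e => by
    have := H.eq_one_of_φ H.toFrm (n := 1) (hA.1.2 _ (mul_mem ha hb))
      (by rw [map_mul, (h2 a ha).ext (e ▸ h2 b hb), ← map_mul, a2 b hb, map_one])
    exact mul_right_cancel (this.trans (a2 b hb).symm)
  have h1' : el (ε 1) = 1 := (h2 1 (one_mem _)).unique (map_one φ ▸ Rp.one)
  have hs : ∀ a ∈ A, el (ε a) * el (ε a) = 1 := fun a ha => by rw [hm a ha a ha, a2 a ha, h1']
  have h0 : ∀ a ∈ A, a ≠ 1 → ε a ≠ 0 := fun a ha h e => h (hi a ha 1 (one_mem _) (by rw [e, h1', el_zero]))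
  have hl : ∀ a ∈ A, ε a / 128 < 6 := fun a ha => by
    by_cases e : ε a = 0
    · omega
    · have := (inv_spec (h1 a ha) (sq_of (hs a ha)) e).1
      omega
  let D : Subgroup Y :=
    { carrier := {a | ∃ g ∈ Pc sP 7, Rp (φ a) g}
      one_mem' := ⟨1, one_mem _, map_one φ ▸ Rp.one⟩
      mul_mem' := fun ⟨g, p, q⟩ ⟨g', p', q'⟩ => ⟨g * g', mul_mem p p', map_mul φ _ _ ▸ q.mul q'⟩
      inv_mem' := fun ⟨g, p, q⟩ => ⟨g⁻¹, inv_mem p, map_inv φ _ ▸ q.inv⟩ }
  have hD : ∀ a ∈ A ⊓ D, ε a < 128 := fun a ⟨ha, g, p, q⟩ => by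
    obtain ⟨e, he, rfl⟩ := exists_wd (by norm_num) p
    have he : e < 128 := he
    rwa [el_inj (h1 a ha) (by omega) (((h2 a ha).unique q).trans
      ((coe_Wm fun s hs => wd_lt hs).symm.trans (el_low he).symm))]
  have i6 := relIndex_le_card (A := A) (D := D) (fun a => (⟨ε a / 128, hl a a.2⟩ : Fin 6)) fun a b e => by
    have e' : ε a / 128 = ε b / 128 := congrArg Fin.val e
    refine ⟨W (wd 7 (ε b)) * (W (wd 7 (ε a)))⁻¹, mul_mem (wd_mem _ _) (inv_mem (wd_mem _ _)), ?_⟩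
    have := (h2 b b.2).mul (h2 a a.2).inv
    rw [el_eq, el_eq, e', mul_inv_rev, mul_assoc, mul_inv_cancel_left, coe_Wm fun s hs => wd_lt hs,
      coe_Wm fun s hs => wd_lt hs, ← map_inv, ← map_mul] at this
    rwa [elemAb_comm hA.1 (inv_mem a.2) b.2]
  rw [Nat.card_eq_fintype_card, Fintype.card_fin] at i6
  have hn : Nat.card ↥(A ⊓ D) * D.relIndex A = 2 ^ r := by
    rw [← hr, ← Nat.card_congr (Subgroup.subgroupOfEquivOfLe (inf_le_left : A ⊓ D ≤ A)).toEquiv,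
      Subgroup.inf_subgroupOf_left]
    exact Subgroup.card_mul_index _
  have i4 : 2 ^ r ≤ Nat.card ↥(A ⊓ D) * 4 := by
    obtain ⟨i, -, e⟩ := (Nat.dvd_prime_pow Nat.prime_two).1 (Dvd.intro_left _ hn)
    rw [← hn]
    refine Nat.mul_le_mul_left _ ?_
    rw [e] at i6 ⊢
    have : i ≤ 2 := by
      by_contra q
      have := Nat.pow_le_pow_right (show 0 < 2 by norm_num) (show 3 ≤ i by omega)
      omega
    exact Nat.pow_le_pow_right (show 0 < 2 by norm_num) this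
  have hb := fun a (ha : a ∈ A) (h : a ≠ 1) => le_cod_inv H hB (h1 a ha) (h2 a ha) (hs a ha) (h0 a ha h)
  have hcd := fun a (ha : a ∈ A) => cod_le_of_mem (ρ := ρ) ha
  by_cases r2 : r ≤ 2
  · obtain ⟨a, ha, p⟩ := exists_notMem (B := A) {1} (by
      rw [hr, Finset.card_singleton]; exact Nat.one_lt_two_pow (by omega))
    rw [Finset.mem_singleton] at p
    have q := (hb a ha p).1
    have q' := hcd a ha
    obtain rfl : r = 2 := by omega
    obtain ⟨b, hb', p'⟩ := exists_notMem (B := A) {1, a} (by rw [hr]; exact Finset.card_le_two.trans_lt (by norm_num))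
    simp only [Finset.mem_insert, Finset.mem_singleton, not_or] at p'
    have bad : ∀ c ∈ A, c ≠ 1 → ε c ∈ Bad := fun c hc' h => (hb c hc' h).2.resolve_right fun e => by
      have := hcd c hc'
      omega
    exact bad_mul (bad a ha p) (bad b hb' p'.1) (bad _ (mul_mem ha hb') fun e =>
      p'.2 (mul_left_cancel (e.trans (a2 a ha).symm))) (hm a ha b hb')
  have i8 : 2 ^ 3 ≤ 2 ^ r := Nat.pow_le_pow_right (by norm_num) (by omega)
  obtain ⟨a, ha, p⟩ := exists_notMem (B := A ⊓ D) {1} (by rw [Finset.card_singleton]; omega)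
  rw [Finset.mem_singleton] at p
  have rp := fun c (hc : c ∈ A ⊓ D) => rep_low H (hD c hc) (h2 c hc.1)
  have q := (eight_le H hB (rp a ha).1 (hA.1.2 a ha.1) p).trans (hcd a ha.1)
  have i16 : 2 ^ 4 ≤ 2 ^ r := Nat.pow_le_pow_right (by norm_num) (by omega)
  obtain ⟨b, hb', p'⟩ := exists_notMem (B := A ⊓ D) {1, a} (Finset.card_le_two.trans_lt (by omega))
  simp only [Finset.mem_insert, Finset.mem_singleton, not_or] at p'
  have mI : ∀ c ∈ A ⊓ D, c ≠ 1 → ε c ∈ I0 := fun c hc h =>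
    (inv_spec (h1 c hc.1) (sq_of (hs c hc.1)) (h0 c hc.1 h)).2.1 (hD c hc)
  have ne : ∀ c ∈ A, ∀ d ∈ A, c ≠ d → ε c ≠ ε d := fun c hc d hd h e => h (hi c hc d hd (by rw [e]))
  have cm : ∀ c ∈ A, ∀ d ∈ A, cmt (ε c) (ε d) = true := fun c hc d hd =>
    cmt_of (by rw [hm c hc d hd, hm d hd c hc, elemAb_comm hA.1 hc hd])
  have nI : ∀ c ∈ A ⊓ D, ∀ d ∈ A ⊓ D, isI (ε c) (ε d) ≠ true := fun c hc d hd e => by
    have := (isI_spec (hD c hc) (hD d hd) e).elim (twelve_I H hB (rp c hc) (rp d hd) hc.1 hd.1)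
      (twelve_I H hB (rp d hd) (rp c hc) hd.1 hc.1)
    omega
  obtain ⟨s1, s2⟩ := (pair_spec (mI a ha p) (mI b hb' p'.1) (ne a ha.1 b hb'.1 (Ne.symm p'.2))
    (cm a ha.1 b hb'.1)).resolve_left (nI a ha b hb')
  have q9 := (isII_spec (hD a ha) (hD b hb') s1).elim
    (nine_II H hB (rp a ha) (rp b hb') ha.1 hb'.1 (hA.1.2 a ha.1) p)
    (nine_II H hB (rp b hb') (rp a ha) hb'.1 ha.1 (hA.1.2 b hb'.1) p'.1)
  obtain rfl : r = 5 := by omega
  obtain ⟨c, hc', p''⟩ := exists_notMem (B := A ⊓ D) {1, a, b, a * b} (Finset.card_le_four.trans_lt (by omega))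
  simp only [Finset.mem_insert, Finset.mem_singleton, not_or] at p''
  rcases s2 _ (mI c hc' p''.1) (ne c hc'.1 a ha.1 p''.2.1) (ne c hc'.1 b hb'.1 p''.2.2.1) (cm a ha.1 c hc'.1)
    (cm b hb'.1 c hc'.1) with e | e | e
  · exact nI a ha c hc' e
  · exact nI b hb' c hc' e
  · exact p''.2.2.2 (hi c hc'.1 _ (mul_mem ha.1 hb'.1) ((el_mul_eq (h1 c hc'.1) e).symm.trans (hm a ha.1 b hb'.1)))

end big

omit [Finite Y] [Finite V] in
theorem sit_tr (H : Sit 2 K ρ π φ) (α : MulAut M) :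
    Sit 2 K ρ (α.toMonoidHom.comp π) ((MulAut.conj α).toMonoidHom.comp φ) :=
  { H.toStp with
    surj := α.surjective.comp H.surj
    ker_π := by rw [← MonoidHom.comap_ker, (MonoidHom.ker_eq_bot_iff _).2 α.injective]; exact H.ker_π
    conj := fun y x x' h => by
      show α (φ y (α⁻¹ (α (π x)))) = α (π x')
      rw [MulAut.inv_apply_self, H.conj y x x' h]
    ker_φ := by rw [← MonoidHom.comap_ker, (MonoidHom.ker_eq_bot_iff _).2 (MulAut.conj α).injective]; exact H.ker_φ }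

theorem main (H : Sit 2 K ρ π φ) {A : Subgroup Y} (hA : Off 2 ρ A) : ∃ B ≤ K, Off 2 ρ B ∧ Cub ρ B := by
  obtain ⟨α, hα⟩ := syl ((elemAb_isPGroup hA.1).map φ)
  exact (big_or_off (sit_tr H α)).resolve_left fun hB =>
    noOff (sit_tr H α) hB hA fun a ha => hα _ ⟨a, ha, rfl⟩

/-- **the row of `U₄(3)` in characteristic two** -/
theorem row_U43 {F : Type} [Field F] [Fintype F] (hF : Fintype.card F = 3 ^ 2) : Row 2 (PSU 4 F 3) := by
  obtain ⟨e⟩ := iso hF
  refine Row.of_equiv ⟨row88_of_sit fun Y _ _ V _ _ _ K ρ π φ H A hA => ?_,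
    row89_of_sit fun Y _ _ V _ _ _ K ρ π φ H A hA _ _ _ _ => ?_⟩ e
  · obtain ⟨B, -, h⟩ := main H hA
    exact ⟨B, h⟩
  · obtain ⟨B, h1, h2, -⟩ := main H hA
    exact ⟨B, h1, h2⟩

end Cfsg.Agent.TwoF.XL.U43
end

-- part: TwoF/XL/U43/UFour
section
/-!
# TwoF / XL: the row `U₄(3)`, `p = 2`, in the form of the interface (helper87)
-/

set_option autoImplicit false

namespace Cfsg.Agent.TwoF.XL

theorem ufour : UFour := fun _ _ _ hF => U43.row_U43 hF

end Cfsg.Agent.TwoF.XL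
end

private theorem dce_bcab3ed4c7e7 : _root_.True := by
  try have : _root_.True := by simp only [_root_.Cfsg.Agent.TwoF.XL.U43.c4.eq_1]
  try have : _root_.True := by simp only [_root_.Cfsg.Agent.TwoF.XL.U43.Dat.mm.eq_1]
  try have : _root_.True := by simp only [_root_.Cfsg.Agent.TwoF.XL.U43.gam.eq_1]
  try have : _root_.True := by simp only [_root_.Cfsg.Agent.TwoF.XL.U43.ng.eq_1]
  try have : _root_.True := by simp only [_root_.Cfsg.Agent.TwoF.XL.U43.act.eq_2]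
  try have : _root_.True := by simp only [_root_.Cfsg.Agent.TwoF.XL.U43.act.eq_def]
  try have : _root_.True := by simp only [_root_.Cfsg.Agent.TwoF.XL.U43.cv.eq_1]
  try have : _root_.True := by simp only [_root_.Cfsg.Agent.TwoF.XL.U43.act.eq_1]
  try have : _root_.True := by simp only [_root_.Cfsg.Agent.TwoF.XL.U43.Dat.el.eq_1]
  try have : _root_.True := by simp only [_root_.Cfsg.Agent.TwoF.XL.U43.lg.eq_1]
  try have : _root_.True := by simp only [_root_.Cfsg.Agent.TwoF.XL.ExL.eq_1]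
  try have : _root_.True := by simp only [_root_.Cfsg.Agent.TwoF.XL.Red.zU.eq_1]
  try have : _root_.True := by simp only [_root_.Cfsg.Agent.TwoF.XL.Red.dL.eq_1]
  try have : _root_.True := by simp only [_root_.Cfsg.Agent.TwoF.XL.U43.Dat.wY.eq_1]
  try have : _root_.True := by simp only [_root_.Cfsg.Agent.TwoF.XL.U43.xi.eq_1]
  try have : _root_.True := by simp only [_root_.Cfsg.Agent.TwoF.XL.U43.Dat.dd.eq_1]
  try have : _root_.True := by simp only [_root_.Cfsg.Agent.TwoF.XL.U43.c2.eq_1]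
  try have : _root_.True := by simp only [_root_.Cfsg.Agent.TwoF.XL.U43.be.eq_1]
  try have : _root_.True := by simp only [_root_.Cfsg.Agent.TwoF.XL.U43.Dat.n0.eq_1]
  try have : _root_.True := by simp only [_root_.Cfsg.Agent.TwoF.LB.congr_simp]
  try have : _root_.True := by simp only [_root_.Cfsg.Agent.TwoF.XL.ExU.eq_1]
  try have : _root_.True := by simp only [_root_.Cfsg.Agent.LieClassical.SUBasic.suDiag.congr_simp]
  try have : _root_.True := by simp only [_root_.Cfsg.Agent.TwoF.XL.U43.Dat.Sm.eq_1]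
  try have : _root_.True := by simp only [_root_.Cfsg.Agent.TwoF.XL.Red.zL.eq_1]
  try have : _root_.True := by simp only [_root_.Cfsg.Agent.TwoF.XL.Red.dU.eq_1]
  try have : _root_.True := by simp only [_root_.Cfsg.Agent.ClassicalGeometry.GUBasic.guDiag.congr_simp]
  try have : _root_.True := by simp only [_root_.Cfsg.Agent.TwoF.XL.U43.Dat.Ga.eq_1]
  exact _root_.True.intro
end

-- part: TwoF/XL/LP2/Main_mg
section
prune_inst 0x10010004b0000000000009441001c1280000000000888000080000404080c0805020020000021000020000000040020000000800040000004000000000001000000000000400000800010000000000000000000000000000000000000000000000000000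
set_option linter.all false
open scoped Cfsg.Agent.FastGrp

-- part: TwoF/XL/LP2/Tr
section
/-!
# TwoF / XL / LP2: transvections and involutions of `PGL_n(q)`, `q` odd, `p = 2` (helper85)
-/

set_option autoImplicit false

namespace Cfsg.Agent.TwoF.XL.LP

open Module Gen Subgroup XE XS Matrix
open Cfsg.Agent.ClassicalGeometry.AutPSL Root Auto Images

section gen

/-- an element that is conjugate to all elements of its coset modulo `Z` -/
theorem avg_heis {k : Type*} [Field k] {Y : Type*} [Group Y] [Finite Y] {V : Type*} [AddCommGroup V] [Module k V]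
    [FiniteDimensional k V] {ρ : Representation k Y V} {Z : Subgroup Y} {g : Y} {r : ℕ} (hr : r.Prime)
    (hk : (r : k) ≠ 0) (hc : ∀ a ∈ Z, ∀ b ∈ Z, a * b = b * a) (he : ∀ z ∈ Z, z ^ r = 1)
    (hg : ∀ z ∈ Z, Commute g z) (hgr : g ^ r = 1) (hn : g ∉ Z) (h : ∀ z ∈ Z, ∃ y, y * g * y⁻¹ = g * z) :
    (r - 1) * cod ρ Z ≤ r * cod ρ (zpowers g) := by
  let R : Subgroup Y :=
    { carrier := {x | ∃ (n : ℕ), ∃ z ∈ Z, x = g ^ n * z}
      mul_mem' := by
        rintro _ _ ⟨n, z, hz, rfl⟩ ⟨m, w, hw, rfl⟩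
        refine ⟨n + m, z * w, mul_mem hz hw, ?_⟩
        rw [pow_add, mul_assoc, ← mul_assoc z, ← ((hg z hz).pow_left m).eq]
        simp only [mul_assoc]
      one_mem' := ⟨0, 1, one_mem _, by simp⟩
      inv_mem' := by
        rintro _ ⟨n, z, hz, rfl⟩
        refine ⟨(r - 1) * n, z⁻¹, inv_mem hz, ?_⟩
        rw [((hg z hz).pow_left n).eq, _root_.mul_inv_rev, mul_left_inj, inv_eq_iff_mul_eq_one, ← pow_add,
          add_comm, ← Nat.succ_mul, Nat.succ_eq_add_one, Nat.sub_add_cancel hr.one_le, pow_mul, hgr, one_pow] }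
  refine avg_coset (R := R) hr hk (lt_of_le_of_ne (fun z hz => ⟨0, z, hz, by simp⟩) fun e => hn ?_) ?_ ?_ ?_
  · exact e ▸ ⟨1, 1, one_mem _, by simp⟩
  · rintro _ ⟨n, z, hz, rfl⟩ _ ⟨m, w, hw, rfl⟩
    exact (((Commute.refl g).pow_pow n m).mul_right ((hg w hw).pow_left n)).mul_left
      (((hg z hz).pow_left m).symm.mul_right (hc z hz w hw))
  · rintro _ ⟨n, z, hz, rfl⟩
    rw [((hg z hz).pow_left n).mul_pow, he z hz, ← pow_mul, mul_comm n, pow_mul, hgr, one_pow, one_mul]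
  · rintro _ ⟨n, z, hz, rfl⟩ h1
    have h2 : n.Coprime r := ((Nat.Prime.coprime_iff_not_dvd hr).2 fun ⟨m, e⟩ =>
      h1 (by rwa [e, pow_mul, hgr, one_pow, one_mul])).symm
    obtain ⟨m, -, hm⟩ := Nat.exists_mul_mod_eq_one_of_coprime h2 hr.one_lt
    obtain ⟨y, hy⟩ := h (z ^ m) (pow_mem hz m)
    have h3 : g ^ n * z = y * g ^ n * y⁻¹ := by
      rw [← conj_pow, hy, ((hg z hz).pow_right m).mul_pow, ← pow_mul, mul_comm m, ← Nat.mod_add_div (n * m) r, hm,
        pow_add, pow_one, pow_mul, he z hz, one_pow, mul_one]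
    rw [h3, cod_zpowers_conj]
    exact cod_pow_le _ _

/-- an involution that inverts the image of an elementary abelian group -/
theorem le_of_hom {S : Type} [Group S] [Finite S] (hz : Zc 2 S 1) {G : Type*} [Group G] [Finite G] (f : G →* S)
    {M : Type*} [AddCommGroup M] (θ : Multiplicative M →* G) (hθ : Function.Injective θ) {r : ℕ} (hr : r.Prime)
    (h2 : r ≠ 2) (hM : ∀ x, θ x ^ r = 1) {α : MulAut S} (hα : α ^ 2 = 1) (hi : ∀ x, α (f (θ x)) = (f (θ x))⁻¹) {c₀ : ℕ}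
    (h : ∀ (V : Type) [AddCommGroup V] [Module (ZMod 2) V] [Finite V] (σ : Representation (ZMod 2) S V),
      Function.Injective σ → ∀ x, x ≠ 1 → c₀ ≤ cod (σ.comp f : Representation (ZMod 2) G V) (zpowers (θ x)))
    {N c : ℕ} (hN : N + 1 ≤ Nat.card M) (hc : (r - 1) * (N + 1) * (2 * (c - 1)) < r * (N * c₀)) : Le 2 α c := by
  have hcomm : ∀ a ∈ θ.range, ∀ b ∈ θ.range, a * b = b * a := by
    rintro _ ⟨x, rfl⟩ _ ⟨y, rfl⟩
    rw [← map_mul, mul_comm, map_mul]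
  have he : ∀ a ∈ θ.range, a ^ r = 1 := by
    rintro _ ⟨x, rfl⟩
    exact hM x
  have hcard : Nat.card θ.range = Nat.card M := by
    rw [← Nat.card_congr (MonoidHom.ofInjective hθ).toEquiv, Nat.card_congr Multiplicative.toAdd]
  refine le_of_inverts hz (R := θ.range.map f) ?_ (hr.odd_of_ne_two h2) ?_ hα ?_ (n := 2 * (c - 1) + 1)
    (lo_of_rep hz _ fun V _ _ _ σ hσ => ?_) (Nat.lt_succ_self _)
  · rintro _ ⟨x, hx, rfl⟩ _ ⟨y, hy, rfl⟩
    rw [← map_mul, hcomm x hx y hy, map_mul]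
  · rintro _ ⟨x, hx, rfl⟩
    rw [← map_pow, he x hx, map_one]
  · rintro _ ⟨_, ⟨x, rfl⟩, rfl⟩
    exact hi x
  · have h4 := avg_ge (ρ := (σ.comp f : Representation (ZMod 2) G V)) (R := θ.range) hr (cast_ne_zero hr h2) hcomm he
      (c := c₀) (by
        rintro _ ⟨x, rfl⟩ hx
        exact h V σ hσ x fun e => hx (by rw [e, map_one]))
    rw [hcard] at h4
    obtain ⟨d, hd⟩ := Nat.exists_eq_add_of_le hN
    rw [hd, show N + 1 + d - 1 = N + d by omega] at h4
    by_contra h5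
    have h6 := Nat.mul_le_mul_left ((r - 1) * (N + 1 + d)) (Nat.le_of_lt_succ (not_le.1 h5))
    have h7 := Nat.mul_le_mul_left (N + 1) (h4.trans h6)
    have h8 := Nat.mul_lt_mul_of_pos_left hc (show 0 < N + 1 + d by omega)
    linarith only [h7, h8, Nat.zero_le (r * d * c₀)]

end gen

variable {F : Type} [Field F] {n : ℕ}

local notation "W" => (Fin n → F)
local notation "G" => Matrix.SpecialLinearGroup (Fin n) F

theorem tr_congr {a b φ ψ : W} {h : φ ⬝ᵥ a = 0} {h' : ψ ⬝ᵥ b = 0} (h1 : a = b) (h2 : φ = ψ) :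
    tr a φ h = tr b ψ h' := by
  subst h1 h2
  rfl

theorem tr_pow (r : ℕ) [CharP F r] {a φ : W} (h : φ ⬝ᵥ a = 0) : tr a φ h ^ r = 1 := by
  have : ∀ m : ℕ, tr a φ h ^ m = tr a ((m : F) • φ) (by rw [smul_dotProduct, h, smul_zero]) := fun m => by
    induction m with
    | zero => exact (tr_eq_one_of (Or.inr (by simp))).symm
    | succ m ih =>
      rw [pow_succ, ih, tr_mul_same_center]
      exact tr_congr rfl (by rw [Nat.cast_succ, add_smul, one_smul])
  rw [this]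
  exact tr_eq_one_of (Or.inr (by simp))

theorem eq_zero_of_tr {a φ : W} {h : φ ⬝ᵥ a = 0} (ha : a ≠ 0) (e : pr (tr a φ h) = 1) : φ = 0 := by
  have h1 : tr a φ h = tr a 0 (zero_dotProduct a) :=
    tr_eq_of_pr_eq (by rw [e, tr_eq_one_of (Or.inr rfl), map_one])
  rw [tr_eq_iff, vecMulVec_zero, vecMulVec_eq_zero] at h1
  exact h1.resolve_left ha

theorem conj_tr (M : G) {a φ : W} (h : φ ⬝ᵥ a = 0) {b ψ : W} (h' : ψ ⬝ᵥ b = 0)
    (h1 : (M : Matrix (Fin n) (Fin n) F) *ᵥ b = a) (h2 : φ ᵥ* (M : Matrix (Fin n) (Fin n) F) = ψ) : M⁻¹ * tr a φ h * M = tr b ψ h' := by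
  rw [mul_assoc, inv_mul_eq_iff_eq_mul]
  refine sl_ext fun x => ?_
  simp only [sl_mul_mulVec, tr_mulVec, mulVec_add, mulVec_smul, h1, dotProduct_mulVec, h2]

/-- the transvections with centre `e` and form in `U` -/
noncomputable def th (e : W) (U : Submodule F W) (hU : ∀ φ ∈ U, φ ⬝ᵥ e = 0) : Multiplicative U →* G :=
  MonoidHom.mk' (fun φ => (tr e φ.toAdd (hU _ φ.toAdd.2) :)) fun _ _ => (tr_mul_same_center ..).symm

theorem th_inj {e : W} (he : e ≠ 0) (U : Submodule F W) (hU : ∀ φ ∈ U, φ ⬝ᵥ e = 0) :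
    Function.Injective (th e U hU) := (injective_iff_map_eq_one _).2 fun x h =>
  Multiplicative.toAdd.injective (Subtype.ext (eq_zero_of_tr (h := hU _ x.toAdd.2) he (by rw [← map_one pr, ← h]; rfl)))

theorem th_comm (e : W) (U : Submodule F W) (hU : ∀ φ ∈ U, φ ⬝ᵥ e = 0) :
    ∀ a ∈ (th e U hU).range, ∀ b ∈ (th e U hU).range, a * b = b * a := by
  rintro _ ⟨x, rfl⟩ _ ⟨y, rfl⟩
  rw [← map_mul, mul_comm, map_mul]

theorem th_exp (r : ℕ) [CharP F r] (e : W) (U : Submodule F W) (hU : ∀ φ ∈ U, φ ⬝ᵥ e = 0) :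
    ∀ a ∈ (th e U hU).range, a ^ r = 1 := by
  rintro _ ⟨x, rfl⟩
  exact tr_pow r (hU _ x.toAdd.2)

/-- the forms (or vectors) killed by `e` -/
def Pp (e : W) : Submodule F W := LinearMap.ker (dotProductBilin F F e)

theorem mem_Pp {e φ : W} : φ ∈ Pp e ↔ φ ⬝ᵥ e = 0 := by
  rw [dotProduct_comm]
  rfl

theorem le_finrank_Pp (e : W) : n ≤ finrank F (Pp e) + 1 := by
  have h1 := LinearMap.finrank_range_add_finrank_ker (dotProductBilin F F e)
  have h2 := Submodule.finrank_le (LinearMap.range (dotProductBilin F F e))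
  rw [finrank_self] at h2
  rw [finrank_fin_fun] at h1
  unfold Pp
  omega

theorem exists_vec {φ ψ : W} (hψ : ψ ≠ 0) (h : ∀ c : F, φ ≠ c • ψ) (t : F) : ∃ u, ψ ⬝ᵥ u = 0 ∧ φ ⬝ᵥ u = t := by
  by_contra h1
  obtain ⟨c, hc⟩ := exists_smul_of_ker_le (φ := φ) hψ fun x hx => by
    by_contra h2
    exact h1 ⟨(t * (φ ⬝ᵥ x)⁻¹) • x, by rw [dotProduct_smul, hx, smul_zero], by
      rw [dotProduct_smul, smul_eq_mul, mul_assoc, inv_mul_cancel₀ h2, mul_one]⟩
  exact h c hc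

theorem two_ne_one {e φ w ψ : W} (he : e ≠ 0) (hψ : ψ ≠ 0) (h : ∀ c : F, φ ≠ c • ψ) {h1 : φ ⬝ᵥ e = 0} {h2 : ψ ⬝ᵥ w = 0}
    {c : F} {h3 : (c • ψ) ⬝ᵥ e = 0} : tr e φ h1 * tr w ψ h2 ≠ tr e (c • ψ) h3 := fun e' => by
  obtain ⟨u, hu, hu'⟩ := exists_vec hψ h 1
  have := congrArg (fun g : G => g.1 *ᵥ u) e'
  simp only [sl_mul_mulVec, tr_mulVec, hu, hu', smul_dotProduct, zero_smul, add_zero, one_smul, smul_zero,
    add_eq_left] at this
  exact he this

variable [Fintype F] {r : ℕ} [Fact r.Prime] [CharP F r] {V : Type} [AddCommGroup V] [Module (ZMod 2) V] [Finite V]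

theorem card_sub (U : Submodule F W) : Nat.card U = Fintype.card F ^ finrank F U := by
  rw [Module.natCard_eq_pow_finrank (K := F), Nat.card_eq_fintype_card]

/-- **rank two** -/
theorem cod_two (hr : r ≠ 2) {σ : Representation (ZMod 2) G V} {e φ w ψ : W} (he : e ≠ 0) (hψ : ψ ≠ 0)
    (h : ∀ c : F, φ ≠ c • ψ) (h1 : φ ⬝ᵥ e = 0) (h2 : ψ ⬝ᵥ w = 0) (h3 : ψ ⬝ᵥ e = 0) (h4 : φ ⬝ᵥ w = 0) :
    (r - 1) * cod σ (zpowers (tr e ψ h3)) ≤ r * cod σ (zpowers (tr e φ h1 * tr w ψ h2)) := by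
  have hU : ∀ χ ∈ Submodule.span F {ψ}, χ ⬝ᵥ e = 0 := fun χ hχ => by
    obtain ⟨c, rfl⟩ := Submodule.mem_span_singleton.1 hχ
    rw [smul_dotProduct, h3, smul_zero]
  have hm : ∀ z ∈ (th e _ hU).range, ∃ (c : F) (h : (c • ψ) ⬝ᵥ e = 0), z = tr e (c • ψ) h := by
    rintro _ ⟨x, rfl⟩
    obtain ⟨c, hc⟩ := Submodule.mem_span_singleton.1 x.toAdd.2
    exact ⟨c, by rw [smul_dotProduct, h3, smul_zero], tr_congr (h := hU _ x.toAdd.2) rfl hc.symm⟩
  refine (Nat.mul_le_mul_left _ (cod_le_of_mem (A := (th e _ hU).range)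
    ⟨.ofAdd ⟨ψ, Submodule.mem_span_singleton_self ψ⟩, rfl⟩)).trans (avg_heis Fact.out (cast_ne_zero Fact.out hr)
      (th_comm e _ hU) (th_exp r e _ hU) (fun z hz => ?_) ?_ (fun hz => ?_) fun z hz => ?_)
  · obtain ⟨c, hc, rfl⟩ := hm z hz
    exact Commute.mul_left (tr_commute h1 hc) (tr_commute h3 (by rw [smul_dotProduct, h2, smul_zero]))
  · rw [Commute.mul_pow (tr_commute h4 h3), tr_pow, tr_pow, one_mul]
  · obtain ⟨c, hc, e'⟩ := hm _ hz
    exact two_ne_one he hψ h e'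
  · obtain ⟨c, hc, rfl⟩ := hm z hz
    obtain ⟨u, hu, hu'⟩ := exists_vec hψ h (-c)
    refine ⟨tr u ψ hu, mul_inv_eq_iff_eq_mul.2 (sl_ext fun x => ?_)⟩
    simp only [sl_mul_mulVec, tr_mulVec, dotProduct_add, dotProduct_smul, smul_dotProduct, h1, h2, h3, h4, hu, hu',
      smul_eq_mul]
    module

/-- **transvections** -/
theorem cod_tr {k : ℕ} (hr : r ≠ 2) {σ : Representation (ZMod 2) (PL (k + 3) F) V} (hσ : Function.Injective σ)
    {a φ : Fin (k + 3) → F} (ha : a ≠ 0) (hφ : φ ≠ 0) (h : φ ⬝ᵥ a = 0) :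
    (r - 1) * Fintype.card F ^ (k + 2) ≤ r * cod (σ.comp pr : Representation (ZMod 2) (SLn (k + 3) F) V)
      (zpowers (tr a φ h)) := by
  have hU : ∀ ψ ∈ Pp a, ψ ⬝ᵥ a = 0 := fun ψ => mem_Pp.1
  have hk : (r : ZMod 2) ≠ 0 := cast_ne_zero Fact.out hr
  have h0 : ∀ {ψ} {h' : ψ ⬝ᵥ a = 0}, tr a ψ h' ≠ 1 → ψ ≠ 0 := fun h1 e => h1 (tr_eq_one_of (Or.inr e))
  have hN : ∀ M : SLn (k + 3) F, (M : Matrix (Fin (k + 3)) (Fin (k + 3)) F) *ᵥ a = a → ∀ z ∈ (th a _ hU).range, M⁻¹ * z * M ∈ (th a _ hU).range := by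
    rintro M hM _ ⟨x, rfl⟩
    have h1 : (x.toAdd.1 ᵥ* (M : Matrix (Fin (k + 3)) (Fin (k + 3)) F)) ⬝ᵥ a = 0 := by rw [← dotProduct_mulVec, hM, hU _ x.toAdd.2]
    exact ⟨.ofAdd ⟨_, mem_Pp.2 h1⟩, (conj_tr M (hU _ x.toAdd.2) h1 hM rfl).symm⟩
  have ht : Tr (th a _ hU).range := by
    rintro _ ⟨x, rfl⟩ hx _ ⟨y, rfl⟩ hy
    obtain ⟨P, hP, hP'⟩ := S2579.exists_sl ha (h0 (h' := hU _ x.toAdd.2) hx) (hU _ x.toAdd.2)
    obtain ⟨Q, hQ, hQ'⟩ := S2579.exists_sl ha (h0 (h' := hU _ y.toAdd.2) hy) (hU _ y.toAdd.2)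
    have h1 : ((P * Q⁻¹ : SLn (k + 3) F) : Matrix (Fin (k + 3)) (Fin (k + 3)) F) *ᵥ a = a := by
      conv_lhs => rw [← hQ, ← sl_mul_mulVec, inv_mul_cancel_right]
      exact hP
    refine ⟨P * Q⁻¹, inv_mem_iff.1 (mem_normalizer_fintype fun z hz => by rw [inv_inv]; exact hN _ h1 z hz),
      conj_tr _ (hU _ x.toAdd.2) (hU _ y.toAdd.2) h1 ?_⟩
    rw [Matrix.SpecialLinearGroup.coe_mul, ← vecMul_vecMul, hP', ← hQ', vecMul_vecMul,
      ← Matrix.SpecialLinearGroup.coe_mul, mul_inv_cancel, Matrix.SpecialLinearGroup.coe_one, vecMul_one]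
  have hz : tr a φ h ∈ (th a _ hU).range := ⟨.ofAdd ⟨φ, mem_Pp.2 h⟩, rfl⟩
  have h1 : pr (tr a φ h) ≠ 1 := fun e => hφ (eq_zero_of_tr ha e)
  have h2 := trans_lb (ρ := (σ.comp pr : Representation (ZMod 2) (SLn (k + 3) F) V)) Fact.out hk (th_comm a _ hU)
    (th_exp r a _ hU) ht ⟨_, hz, fun e => h1 (hσ (e.trans (map_one σ).symm))⟩
  have h3 := cod_elt_of_tr (m := 1) Fact.out hk (th_comm a _ hU) (th_exp r a _ hU) ht hz (fun e => h1 (by rw [e, map_one]))
    ((mul_one _).le.trans h2)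
  refine le_trans (Nat.mul_le_mul_left _ ?_) ((mul_one _).ge.trans h3)
  rw [← Nat.card_congr (MonoidHom.ofInjective (th_inj ha _ hU)).toEquiv, Nat.card_congr Multiplicative.toAdd, card_sub]
  exact Nat.pow_le_pow_right Fintype.card_pos (Nat.le_of_succ_le_succ (le_finrank_Pp a))

/-- the linear maps of the dual space -/
def dl (A : GL (Fin n) F) : W →ₗ[F] W := vecMulLinear (A : Matrix (Fin n) (Fin n) F)

omit [Fintype F] in
theorem exists_sq [Nontrivial (Fin n)] {A : GL (Fin n) F} (h : lift (cj A) ^ 2 = 1) :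
    ∃ c : F, c ≠ 0 ∧ (A : Matrix (Fin n) (Fin n) F) * A = c • 1 := by
  obtain ⟨⟨c, hc⟩, -⟩ := Main.injective_aux (C := A * A) (σ := 1) (τ := 1)
    (by rw [map_one, mul_one, map_one, map_mul, map_mul, ← pow_two, h])
  rw [scalar_apply, ← smul_one_eq_diagonal] at hc
  refine ⟨c, fun e => (A * A).ne_zero ?_, hc.symm⟩
  rw [← hc, e, zero_smul]

omit [Fintype F] in
theorem cj_eq_one {A : GL (Fin n) F} {c : F} (h : (A : Matrix (Fin n) (Fin n) F) = c • 1) : lift (cj A) = 1 := by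
  rw [Main.cj_eq_one_of_scalar (r := c) (by rw [scalar_apply, ← smul_one_eq_diagonal, h]), map_one]

omit [Fintype F] in
theorem exists_eigvec {A : GL (Fin n) F} (h1 : lift (cj A) ≠ 1) {s : F}
    (h : (A : Matrix (Fin n) (Fin n) F) * A = (s * s) • 1) : ∃ e : W, e ≠ 0 ∧ (A : Matrix (Fin n) (Fin n) F) *ᵥ e = s • e := by
  by_contra h2
  refine h1 (cj_eq_one (c := -s) (ext_of_mulVec_single fun i => ?_))
  by_contra h3
  refine h2 ⟨(A : Matrix (Fin n) (Fin n) F) *ᵥ Pi.single i 1 + s • Pi.single i 1, fun e => h3 ?_, ?_⟩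
  · rw [smul_mulVec, one_mulVec, neg_smul, eq_neg_of_add_eq_zero_left e]
  · rw [mulVec_add, mulVec_mulVec, h, smul_mulVec, one_mulVec, mulVec_smul, smul_add, smul_smul, add_comm]

/-- **split involutions** -/
theorem le_split {k : ℕ} (hr : r ≠ 2) (hz : Zc 2 (PL (k + 3) F) 1) {A : GL (Fin (k + 3)) F} (h1 : lift (cj A) ≠ 1) {s : F}
    (hs : s ≠ 0) (h : (A : Matrix (Fin (k + 3)) (Fin (k + 3)) F) * A = (s * s) • 1) {c₀ c : ℕ}
    (h0 : r * (c₀ - 1) < (r - 1) * Fintype.card F ^ (k + 2))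
    (hc : (r - 1) * Fintype.card F ^ 2 * (2 * (c - 1)) < r * ((Fintype.card F ^ 2 - 1) * c₀)) : Le 2 (lift (cj A)) c := by
  have h2 : (2 : F) ≠ 0 := XS.P2.two_ne hr
  have key : ∀ t : F, t ≠ 0 → t * t = s * s → 2 ≤ finrank F (Omega.TwoF.RkLin.eig dl A (-t) ⊤) →
      Le 2 (lift (cj A)) c := fun t ht hts hd => by
    obtain ⟨e, he, he'⟩ := exists_eigvec h1 (hts ▸ h)
    have hU : ∀ φ ∈ Omega.TwoF.RkLin.eig dl A (-t) ⊤, φ ⬝ᵥ e = 0 := fun φ hφ => by
      have h3 : φ ᵥ* (A : Matrix (Fin (k + 3)) (Fin (k + 3)) F) = -t • φ := hφ.2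
      have h4 := dotProduct_mulVec φ (A : Matrix (Fin (k + 3)) (Fin (k + 3)) F) e
      rw [he', h3, dotProduct_smul, smul_dotProduct, smul_eq_mul, smul_eq_mul] at h4
      exact (mul_eq_zero.1 (show (2 * t) * (φ ⬝ᵥ e) = 0 by linear_combination h4)).resolve_left (mul_ne_zero h2 ht)
    have := finL (k + 3) F
    refine le_of_hom hz pr (th e _ hU) (th_inj he _ hU) Fact.out hr (fun x => tr_pow r (hU _ x.toAdd.2)) ?_ (fun x => ?_)
      (c₀ := c₀) (fun V _ _ _ σ hσ x hx => ?_) (N := Fintype.card F ^ 2 - 1) ?_ ?_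
    · rw [pow_two, ← map_mul, ← map_mul, cj_eq_one (c := s * s) h]
    · have h3 : x.toAdd.1 ᵥ* (A : Matrix (Fin (k + 3)) (Fin (k + 3)) F) = -t • x.toAdd.1 := x.toAdd.2.2
      rw [lift_pr, ← map_inv, ← map_inv]
      congr 1
      refine Subtype.ext ((Units.mul_inv_eq_iff_eq_mul A).2 (ext_of_mulVec_single fun i => ?_))
      show (_ * (tr e _ (hU _ x.toAdd.2)).1) *ᵥ _ = ((tr e (-x.toAdd.1) (hU _ x⁻¹.toAdd.2)).1 * _) *ᵥ _
      simp only [← mulVec_mulVec, tr_mulVec, mulVec_add, mulVec_smul, he', dotProduct_mulVec, neg_vecMul, h3,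
        neg_dotProduct, smul_dotProduct, smul_eq_mul]
      module
    · have := cod_tr hr hσ he (fun e' => hx (Multiplicative.toAdd.injective (Subtype.ext e'))) (hU _ x.toAdd.2)
      by_contra h3
      exact absurd (h0.trans_le this) (not_lt.2 (Nat.mul_le_mul_left _ (Nat.le_sub_one_of_lt (not_le.1 h3))))
    · rw [Nat.sub_add_cancel (pow_pos Fintype.card_pos 2), card_sub]
      exact Nat.pow_le_pow_right Fintype.card_pos hd
    · rwa [Nat.sub_add_cancel (pow_pos Fintype.card_pos 2)]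
  have h3 : finrank F (Omega.TwoF.RkLin.eig dl A s ⊤) + finrank F (Omega.TwoF.RkLin.eig dl A (-s) ⊤) = _ :=
    Omega.TwoF.RkLin.finrank_eig h2 hs (fun v => by
      show (v ᵥ* A.1) ᵥ* A.1 = _
      rw [vecMul_vecMul, h, vecMul_smul, vecMul_one]) fun _ _ => trivial
  rw [finrank_top, finrank_fin_fun] at h3
  by_cases h4 : 2 ≤ finrank F (Omega.TwoF.RkLin.eig dl A (-s) ⊤)
  · exact key s hs rfl h4
  · exact key (-s) (neg_ne_zero.2 hs) (neg_mul_neg s s) (by rw [neg_neg]; omega)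

omit [Fintype F] in
theorem pp₁ {φ ψ : W} (w : ↥(Pp φ ⊓ Pp ψ)) : φ ⬝ᵥ w.1 = 0 := w.2.1

omit [Fintype F] in
theorem pp₂ {φ ψ : W} (w : ↥(Pp φ ⊓ Pp ψ)) : ψ ⬝ᵥ w.1 = 0 := w.2.2

omit [Fintype F] in
theorem pp₃ {A : Matrix (Fin n) (Fin n) F} (h : A * A = -1) {φ ψ : W} (w : ↥(Pp φ ⊓ Pp ψ)) :
    (φ ᵥ* A) ⬝ᵥ A *ᵥ w.1 = 0 := by
  rw [← dotProduct_mulVec, mulVec_mulVec, h, neg_mulVec, one_mulVec, dotProduct_neg, pp₁, neg_zero]

/-- the unipotent elements that are inverted by `A`, `A * A = -1` -/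
noncomputable def nu {A : Matrix (Fin n) (Fin n) F} (h : A * A = -1) (φ : W) :
    Multiplicative ↥(Pp φ ⊓ Pp (φ ᵥ* A)) →* G :=
  MonoidHom.mk' (fun w => tr w.toAdd.1 φ (pp₁ _) * tr (A *ᵥ w.toAdd.1) (φ ᵥ* A) (pp₃ h _)) fun v w => sl_ext fun x => by
    have h3 : φ ⬝ᵥ A *ᵥ v.toAdd.1 = 0 := (dotProduct_mulVec ..).trans v.toAdd.2.2
    have h4 : φ ⬝ᵥ A *ᵥ w.toAdd.1 = 0 := (dotProduct_mulVec ..).trans w.toAdd.2.2
    have h5 : ∀ x, A *ᵥ A *ᵥ x = -x := fun x => by rw [mulVec_mulVec, h, neg_mulVec, one_mulVec]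
    simp only [sl_mul_mulVec, tr_mulVec, toAdd_mul, Submodule.coe_add, ← dotProduct_mulVec, mulVec_add, mulVec_smul, h5,
      dotProduct_neg, pp₁, h3, h4]
    module

/-- **involutions without eigenvectors** -/
theorem le_nonsplit {k : ℕ} (hr : r ≠ 2) (hz : Zc 2 (PL (k + 4) F) 1) {A : GL (Fin (k + 4)) F} (hs : ¬ IsSquare (-1 : F))
    (h : (A : Matrix (Fin (k + 4)) (Fin (k + 4)) F) * A = -1) {c₀ c₁ c : ℕ}
    (h0 : r * (c₀ - 1) < (r - 1) * Fintype.card F ^ (k + 3)) (h1 : r * (c₁ - 1) < (r - 1) * c₀)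
    (hc : (r - 1) * Fintype.card F ^ 2 * (2 * (c - 1)) < r * ((Fintype.card F ^ 2 - 1) * c₁)) : Le 2 (lift (cj A)) c := by
  obtain ⟨φ, hφ⟩ := exists_ne (0 : Fin (k + 4) → F)
  have h2 : φ ᵥ* A.1 ᵥ* A.1 = -φ := by rw [vecMul_vecMul, h, vecMul_neg, vecMul_one]
  have h3 : φ ᵥ* A.1 ≠ 0 := fun e => hφ (by rw [← neg_eq_zero, ← h2, e, zero_vecMul])
  have h4 : ∀ c : F, φ ≠ c • φ ᵥ* A.1 := fun c e => by
    have h5 : φ ᵥ* A.1 = -c • φ := by
      conv_lhs => rw [e]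
      rw [smul_vecMul, h2, smul_neg, neg_smul]
    rw [h5, smul_smul] at e
    have h6 : (1 - c * -c) • φ = 0 := by rw [sub_smul, ← e, one_smul, sub_self]
    exact hs ⟨c, by linear_combination -(smul_eq_zero.1 h6).resolve_right hφ⟩
  have h5 : ∀ w : Multiplicative ↥(Pp φ ⊓ Pp (φ ᵥ* A.1)), w ≠ 1 → w.toAdd.1 ≠ 0 := fun w hw e =>
    hw (Multiplicative.toAdd.injective (Subtype.ext e))
  have := finL (k + 4) F
  refine le_of_hom hz pr (nu h φ) ((injective_iff_map_eq_one _).2 fun w hw => ?_) Fact.out hr (fun w => ?_) ?_ (fun w => ?_)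
    (c₀ := c₁) (fun V _ _ _ σ hσ w hw => ?_) (N := Fintype.card F ^ 2 - 1) ?_ ?_
  · by_contra h6
    exact two_ne_one (c := 0) (h3 := by simp) (h5 w h6) h3 h4 (hw.trans (tr_eq_one_of (Or.inr (by simp))).symm)
  · rw [← map_pow, ← ofAdd_toAdd (w ^ r), toAdd_pow, ← Nat.cast_smul_eq_nsmul F, CharP.cast_eq_zero, zero_smul]
    exact map_one _
  · rw [pow_two, ← map_mul, ← map_mul, cj_eq_one (c := -1) (h.trans (neg_one_smul F _).symm)]
  · have h7 : φ ⬝ᵥ A.1 *ᵥ w.toAdd.1 = 0 := (dotProduct_mulVec ..).trans w.toAdd.2.2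
    rw [lift_pr, ← map_inv, ← map_inv]
    congr 1
    refine Subtype.ext ((Units.mul_inv_eq_iff_eq_mul A).2 (ext_of_mulVec_single fun i => ?_))
    have h8 : ∀ x, A.1 *ᵥ A.1 *ᵥ x = -x := fun x => by rw [mulVec_mulVec, h, neg_mulVec, one_mulVec]
    rw [← mulVec_mulVec, ← mulVec_mulVec]
    simp only [nu, MonoidHom.mk'_apply, sl_mul_mulVec, tr_mulVec, toAdd_inv, Submodule.coe_neg, ← dotProduct_mulVec,
      mulVec_add, mulVec_smul, mulVec_neg, h8, dotProduct_neg, h7]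
    module
  · have h6 := cod_tr (k := k + 1) hr hσ (h5 w hw) h3 (pp₂ _)
    have h7 := cod_two (σ := (σ.comp pr : Representation (ZMod 2) (SLn (k + 4) F) V)) (w := A.1 *ᵥ w.toAdd.1) hr (h5 w hw)
      h3 h4 (pp₁ _) (pp₃ h _) (pp₂ _) ((dotProduct_mulVec ..).trans (pp₂ _))
    have h8 := Nat.lt_of_mul_lt_mul_left (h0.trans_le h6)
    have h9 := Nat.lt_of_mul_lt_mul_left ((h1.trans_le (Nat.mul_le_mul_left _ (Nat.le_of_pred_lt h8))).trans_le h7)
    exact Nat.le_of_pred_lt h9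
  · rw [Nat.sub_add_cancel (pow_pos Fintype.card_pos 2), card_sub]
    have h6 := Submodule.finrank_sup_add_finrank_inf_eq (Pp φ) (Pp (φ ᵥ* A.1))
    have h7 := Submodule.finrank_le (Pp φ ⊔ Pp (φ ᵥ* A.1))
    have h8 := le_finrank_Pp φ
    have h9 := le_finrank_Pp (φ ᵥ* A.1)
    rw [finrank_fin_fun] at h7
    exact Nat.pow_le_pow_right Fintype.card_pos (by omega)
  · rwa [Nat.sub_add_cancel (pow_pos Fintype.card_pos 2)]

end Cfsg.Agent.TwoF.XL.LP
end

-- part: TwoF/XL/LP2/Main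
section
/-!
# TwoF / XL / LP2: `L₃(3)`, `L₃(5)`, `L₄(3)`, `p = 2` (helper85)
-/

set_option autoImplicit false

namespace Cfsg.Agent.TwoF.XL.LP

open Module Gen Subgroup XE XS Matrix
open Cfsg.Agent.ClassicalGeometry.AutPSL Root Auto Images
open Cfsg.Agent.Omega.TwoF
open Cfsg.Agent.H422.AutBase (conj_pr it coe_it itr_cj)

section gen

variable {p : ℕ} [Fact p.Prime] {S : Type} [Group S]

/-- **the closure trick** inside `Aut S` -/
theorem lo_of_cl (hz : Zc p S 1) {E : Subgroup (MulAut S)} {n : ℕ}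
    (h : ∀ H : Subgroup (MulAut S), E ≤ H → (∀ t ∈ H, Le p t n → ∀ x : S, t x = x → ∀ s : S, MulAut.conj s ∈ H →
      MulAut.conj (x * s * x⁻¹) ∈ H) → Lo p H (n + 1)) : Lo p E (n + 1) := by
  intro Y _ _ V _ _ _ K ρ π φ H A hA
  obtain ⟨ι, h1, -, h3, h4⟩ := exists_iota hz H
  by_contra h5
  refine h5 (cod_cl (ρ := ρ) A ▸ h ((cl ρ A).map φ) (hA.trans (map_mono (le_cl A))) ?_ Y V K ρ π φ H _ le_rfl)
  rintro _ ⟨y, hy, rfl⟩ ht x hx s ⟨b, hb, hb'⟩
  have h6 : cod ρ (cl ρ A) ≤ cod ρ (zpowers y) := by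
    have := ht.elt H rfl
    rw [cod_cl]
    omega
  have h7 := conj_mem_cl_of_comm (x := ι x) (a := b) hy h6 (by rw [mul_inv_eq_iff_eq_mul.1 (h4 y x), hx]) (le_cl _ hb)
  rw [← cl_eq_of_cod_le (le_cl A) (cod_cl A).le] at h7
  exact ⟨_, h7, by rw [map_mul, map_mul, map_inv, h3, hb', map_mul, map_mul, map_inv]⟩

theorem le_of_reach {k d c : ℕ} {α : MulAut S} (h : H915.Gs.Reach α k ⊤) (hd : LB p S d) (hc : k * (c - 1) < d) :
    Le p α c := le_of_elt fun Y _ _ V _ _ _ K ρ π φ H y hy => by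
  have h1 := (hd.le H).trans (finrank_le_of_reach H (hy ▸ h))
  exact Nat.le_of_pred_lt (Nat.lt_of_mul_lt_mul_left (hc.trans_le h1))

end gen

variable {F : Type} [Field F] [Fintype F] {n : ℕ}

theorem zc (hn : 3 ≤ n) (he : ¬ ExL n (Fintype.card F)) (h : Nat.gcd n (Fintype.card F - 1) ∣ 2) : Zc 2 (PL n F) 1 :=
  fun K _ _ π h1 h2 => by
    have h3 := card_ker_dvd' (S2086.result rfl n (by omega) (by omega) he) K π h1
    rcases (Nat.dvd_prime Nat.prime_two).1 (h3.trans h) with h4 | h4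
    · rw [h4]
    · exact (h2 (by rw [h4])).elim

variable {r : ℕ} {E : Subgroup (MulAut (PL n F))}

theorem fld_eq (hr : r.Prime) (h : Fintype.card F = r) (σ : F ≃+* F) : σ = 1 := RingEquiv.ext (P2.aut_eq hr h σ)

theorem le_rank (hr : r.Prime) (h : Fintype.card F = r) (h2 : (2 : F) ≠ 0) (hn : 3 ≤ n) (hE : IsElementaryAbelian 2 E)
    {j : ℕ} (hj : Nat.card E = 2 ^ j) : j ≤ RkLin.rk n + 1 :=
  (Nat.pow_le_pow_iff_right one_lt_two).1 (hj ▸ RkPSL.rkAut_odd h2 hn (fun σ _ => fld_eq hr h σ) E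
    fun x hx => (pow_two x).symm.trans (hE.2 x hx))

theorem card_le_lin (hr : r.Prime) (h : Fintype.card F = r) (hn : 3 ≤ n) {k : ℕ}
    (hk : ∀ B ≤ E, (∀ x ∈ B, ∃ A : GL (Fin n) F, x = lift (cj A)) → Nat.card B ≤ k) : Nat.card E ≤ 2 * k :=
  RkPSL.card_graph hn E fun B hB h1 => hk B hB fun x hx => by
    obtain ⟨A, σ, e⟩ := h1 x hx
    exact ⟨A, by rwa [fld_eq hr h σ, map_one, mul_one] at e⟩

theorem exists_lin (hr : r.Prime) (h : Fintype.card F = r) (hn : 3 ≤ n) (hc : 2 < Nat.card E) :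
    ∃ A : GL (Fin n) F, lift (cj A) ∈ E ∧ lift (cj A) ≠ 1 := by
  by_contra h1
  refine absurd (card_le_lin hr h hn (k := 1) fun B hB h2 => (card_le_one_iff_eq_bot B).2 (eq_bot_iff.2 fun x hx => ?_))
    (not_le.2 hc)
  obtain ⟨A, rfl⟩ := h2 x hx
  by_contra h3
  exact h1 ⟨A, hB hx, h3⟩

theorem le_any (h : Fintype.card F = r) (hr : ¬ 2 ∣ r) (hn : 3 ≤ n) (h10 : n ≤ 10) (he : ¬ ExL n r)
    (hc : 22 < r ^ (n - 1) - 1) (hE : IsElementaryAbelian 2 E) (hj : Nat.card E = 2 ^ 1) : Lo 2 E 3 := by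
  obtain ⟨α, hα, h1⟩ := exists_ne_one one_pos hj
  exact (le_of_reach (reach_L hn h10 (by rw [orderOf_eq_prime (hE.2 α hα) h1]; exact Nat.prime_two))
    (lbL h hr hn he) hc).lo hα

omit [Fintype F] in
theorem sq_three {A : GL (Fin 3) F} (h : lift (cj A) ^ 2 = 1) :
    ∃ s : F, s ≠ 0 ∧ (A : Matrix (Fin 3) (Fin 3) F) * A = (s * s) • 1 := by
  obtain ⟨c, hc, h1⟩ := exists_sq h
  have h2 := congrArg det h1
  rw [det_mul, det_smul, det_one, Fintype.card_fin] at h2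
  refine ⟨A.1.det / c, div_ne_zero A.det_ne_zero hc, h1.trans ?_⟩
  congr 1
  field_simp
  linear_combination -h2

/-- **`L₃(5)`** -/
theorem noOff_five (h : Fintype.card F = 5) : NoOff 2 (PL 3 F) := by
  have : Fact (Nat.Prime 5) := ⟨by norm_num⟩
  have : CharP F 5 := charP_of_card_eq_prime h
  refine noOff_of_lo fun E hE j h0 hj => ?_
  have h1 : j ≤ 3 := le_rank Fact.out h (P2.two_ne (r := 5) (by norm_num)) le_rfl hE hj
  rcases (show j = 1 ∨ 2 ≤ j by omega) with rfl | h2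
  · exact le_any h (by norm_num) le_rfl (by norm_num) (by simp only [ExL, _root_.Set.mem_insert_iff, _root_.Prod.mk.injEq, _root_.Nat.succ_ne_self, _root_.and_self, _root_.Nat.reduceEqDiff, _root_.and_false, _root_.Set.mem_singleton_iff, _root_.or_self, _root_.not_false_eq_true]) (by norm_num) hE hj
  · obtain ⟨A, hA, h3⟩ := exists_lin Fact.out h le_rfl (hj ▸ (Nat.pow_le_pow_right two_pos h2).trans_lt' (by norm_num))
    obtain ⟨s, hs, h4⟩ := sq_three (hE.2 _ hA)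
    exact ((le_split (k := 0) (r := 5) (c₀ := 20) (c := 7) (by norm_num)
      (zc le_rfl (by simp only [ExL, h, _root_.zero_add, _root_.Set.mem_insert_iff, _root_.Prod.mk.injEq, _root_.Nat.succ_ne_self, _root_.and_self, _root_.Nat.reduceEqDiff, _root_.and_false, _root_.Set.mem_singleton_iff, _root_.or_self, _root_.not_false_eq_true]) (by rw [h]; decide)) h3 hs h4 (by rw [h]; norm_num)
      (by rw [h]; norm_num)).lo hA).le (by omega)

omit [Fintype F] in
theorem anti {A B : Matrix (Fin n) (Fin n) F} (hA : A * A = -1) (hB : B * B = -1) (h : A * B * (A * B) = -1) :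
    B * A = -(A * B) := by
  calc B * A = A * A * (B * A) * (B * B) := by rw [hA, hB]; simp
    _ = A * (A * B * (A * B)) * B := by simp only [mul_assoc]
    _ = -(A * B) := by rw [h]; simp

/-- **`L₄(3)`** -/
theorem noOff_four (h : Fintype.card F = 3) : NoOff 2 (PL 4 F) := by
  have : CharP F 3 := charP_of_card_eq_prime h
  have h2 : (2 : F) ≠ 0 := P2.two_ne (r := 3) (by norm_num)
  have hz : Zc 2 (PL 4 F) 1 := zc (by norm_num) (by simp [ExL, h]) (by rw [h]; decide)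
  refine noOff_of_lo fun E hE j h0 hj => ?_
  have h1 : j ≤ 5 := le_rank Nat.prime_three h h2 (by norm_num) hE hj
  by_cases h3 : ∃ A : GL (Fin 4) F, lift (cj A) ∈ E ∧ lift (cj A) ≠ 1 ∧ (A : Matrix (Fin 4) (Fin 4) F) * A = 1
  · obtain ⟨A, hA, h4, h5⟩ := h3
    exact ((le_split (k := 1) (r := 3) (c₀ := 18) (c := 12) (s := 1) (by norm_num) hz h4 one_ne_zero
      (by rw [h5, one_mul, one_smul]) (by rw [h]; norm_num) (by rw [h]; norm_num)).lo hA).le (by omega)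
  have h4 : ∀ A : GL (Fin 4) F, lift (cj A) ∈ E → lift (cj A) ≠ 1 → (A : Matrix (Fin 4) (Fin 4) F) * A = -1 :=
    fun A hA h5 => by
      obtain ⟨c, hc, h6⟩ := exists_sq (hE.2 _ hA)
      have h7 := FiniteField.pow_card_sub_one_eq_one c hc
      rw [h, pow_two] at h7
      rcases mul_self_eq_one_iff.1 h7 with rfl | rfl
      · exact (h3 ⟨A, hA, h5, by rwa [one_smul] at h6⟩).elim
      · rwa [neg_one_smul] at h6
  rcases (show j = 1 ∨ 2 ≤ j by omega) with rfl | h5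
  · exact le_any h (by norm_num) (by norm_num) (by norm_num) (by simp [ExL]) (by norm_num) hE hj
  have h6 : Nat.card E ≤ 2 * 4 := card_le_lin Nat.prime_three h (by norm_num) fun B hB h6 => by
    classical
    by_contra h7
    have hc : ∀ s : Finset (MulAut (PL 4 F)), s.card ≤ 4 → ∃ A : GL (Fin 4) F, lift (cj A) ∈ E ∧ lift (cj A) ∉ s :=
      fun s hs => by
        obtain ⟨a, ha, h8⟩ := P2.exists_notMem (E := B) s (by omega)
        obtain ⟨A, rfl⟩ := h6 a ha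
        exact ⟨A, hB ha, h8⟩
    have hm : ∀ {A B : GL (Fin 4) F}, lift (cj A) ∈ E → lift (cj B) ∈ E →
        lift (cj (A * B)) ∈ E ∧ (lift (cj B) ≠ lift (cj A) → lift (cj (A * B)) ≠ 1) := fun {A B} hA hB => by
      rw [map_mul, map_mul]
      exact ⟨mul_mem hA hB, fun h8 e => h8 (mul_left_cancel (e.trans ((pow_two _).symm.trans (hE.2 _ hA)).symm))⟩
    obtain ⟨A, hA, a1⟩ := hc {1} (by simp)
    obtain ⟨B, hB, b1⟩ := hc {1, lift (cj A)} (Finset.card_le_two.trans (by norm_num))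
    obtain ⟨C, hC, c1⟩ := hc {1, lift (cj A), lift (cj B), lift (cj (A * B))} Finset.card_le_four
    simp only [Finset.mem_insert, Finset.mem_singleton, not_or] at a1 b1 c1
    have eA := h4 A hA a1
    have eB := h4 B hB b1.1
    have eC := h4 C hC c1.1
    have eAB := h4 _ (hm hA hB).1 ((hm hA hB).2 b1.2)
    have e1 := anti eA eC ((h4 _ (hm hA hC).1 ((hm hA hC).2 c1.2.1) :))
    have e2 := anti eB eC ((h4 _ (hm hB hC).1 ((hm hB hC).2 c1.2.2.1) :))
    have e3 := anti eAB eC ((h4 _ (hm (hm hA hB).1 hC).1 ((hm (hm hA hB).1 hC).2 c1.2.2.2) :))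
    rw [Units.val_mul, ← mul_assoc, e1, neg_mul, mul_assoc, e2, mul_neg, neg_neg, ← mul_assoc, eq_neg_iff_add_eq_zero,
      ← two_smul F, smul_eq_zero] at e3
    exact e3.elim h2 (A * B * C).ne_zero
  obtain ⟨A, hA, h7⟩ := exists_lin Nat.prime_three h (by norm_num)
    (hj ▸ (Nat.pow_le_pow_right two_pos h5).trans_lt' (by norm_num))
  have h8 : j ≤ 3 := (Nat.pow_le_pow_iff_right one_lt_two).1 (hj ▸ h6)
  exact ((le_nonsplit (k := 0) (r := 3) (c₀ := 18) (c₁ := 12) (c := 8) (by norm_num) hz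
    (by rw [FiniteField.isSquare_neg_one_iff, h]; norm_num) (h4 A hA h7) (by rw [h]; norm_num) (by norm_num)
    (by rw [h]; norm_num)).lo hA).le (by omega)

omit [Fintype F] in
/-- the normal form of a graph involution -/
theorem exists_itr [Finite F] (h2 : (2 : F) ≠ 0) (h3 : ∀ d : F, d * d * d = d) {A : GL (Fin 3) F}
    (h : lift (cj A * itr) ^ 2 = 1) : ∃ β, β * lift (cj A * itr) * β⁻¹ = lift itr := by
  obtain ⟨⟨c, hc⟩, -⟩ := Main.injective_aux (C := A * it A) (σ := 1) (τ := 1) (by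
    rw [map_one, mul_one, map_one, ← h, pow_two, ← map_mul, mul_assoc, ← mul_assoc itr, itr_cj, mul_assoc, itr_mul_itr,
      mul_one, map_mul cj])
  have h4 : (A : Matrix (Fin 3) (Fin 3) F) = c • (A : Matrix (Fin 3) (Fin 3) F)ᵀ := by
    rw [← smul_one_mul, smul_one_eq_diagonal, ← scalar_apply, hc, Units.val_mul, coe_it, mul_assoc, ← transpose_mul,
      Units.mul_inv, transpose_one, mul_one]
  have h5 := congrArg det h4
  rw [det_smul, det_transpose, Fintype.card_fin, pow_three', h3] at h5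
  rw [(mul_eq_right₀ A.det_ne_zero).1 h5.symm, one_smul] at h4
  obtain ⟨P, -, hP⟩ := H956.OrthSim.exists_diag h2 _ h4.symm A.det_ne_zero (fun _ => A.1.det)
    (by rw [Fin.prod_univ_three, h3])
  refine ⟨lift (cj (it P)⁻¹), ?_⟩
  have h6 : itr * cj (it P) = cj P * itr := by
    rw [itr_cj, show it (it P) = P from Units.ext (transpose_transpose _)]
  rw [← map_inv, ← map_inv, inv_inv, ← map_mul, ← map_mul, mul_assoc, mul_assoc, h6, ← mul_assoc, ← mul_assoc, ← map_mul,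
    ← map_mul, map_mul lift, cj_eq_one (c := A.1.det) (hP.trans (smul_one_eq_diagonal _).symm), one_mul]

section three

local notation "G" => SLn 3 (ZMod 3)
local notation "M" => Matrix (Fin 3) (Fin 3) (ZMod 3)

/-- explicit matrices -/
def mk (a b c d e f g h i : ZMod 3)
    (hd : a * e * i - a * f * h - b * d * i + b * f * g + c * d * h - c * e * g = 1 := by decide) : G :=
  ⟨!![a, b, c; d, e, f; g, h, i], (det_fin_three _).trans hd⟩

theorem pow13 {z a b c : G} (h1 : (z : M) * z = a) (h2 : (a : M) * a = b) (h3 : (b : M) * b = c)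
    (h4 : (c : M) * b * z = 1) : z ^ 13 = 1 := by
  obtain rfl : z * z = a := Subtype.ext h1
  obtain rfl : z * z * (z * z) = b := Subtype.ext h2
  obtain rfl : z * z * (z * z) * (z * z * (z * z)) = c := Subtype.ext h3
  refine Eq.trans ?_ (Subtype.ext h4 : _ * _ * z = 1)
  simp only [pow_succ, pow_zero, one_mul, mul_assoc]

theorem cenG : center (PL 3 (ZMod 3)) = ⊥ := centerL (by norm_num) (by norm_num)

theorem pr_inj : Function.Injective (pr : G → _) := fun x y h => by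
  obtain ⟨c, hc⟩ := exists_smul_of_pr_eq h
  have h1 := congrArg det hc
  rw [det_smul, x.2, y.2, Fintype.card_fin, mul_one, ZMod.pow_card] at h1
  rw [← h1, one_smul] at hc
  exact Subtype.ext hc.symm

theorem li13 {z : G} (h1 : (z : M) ≠ 1) (h : z ^ 13 = 1) : Li 2 (pr z) 12 :=
  Li.of_prime cenG (s := 13) (by norm_num) (by norm_num) (fun e => h1 (by rw [pr_inj (e.trans (map_one pr).symm)]; rfl))
    (by rw [← map_pow, h, map_one]) fun d h0 h => by interval_cases d <;> decide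

theorem itr_eq {g h : G} (e : (h : M)ᵀ * g = 1) : itr g = h := by
  have : g⁻¹ = h.transpose := inv_eq_of_mul_eq_one_left (Subtype.ext e)
  refine Subtype.ext ?_
  rw [coe_itr, this]
  rfl

theorem conj_eq {x s u : G} (e : (x : M) * s = u * x) : pr x * pr s * (pr x)⁻¹ = pr u := by
  rw [mul_inv_eq_iff_eq_mul, ← map_mul, ← map_mul]
  exact congrArg pr (Subtype.ext e)

theorem zc3 : Zc 2 (PL 3 (ZMod 3)) 1 := zc le_rfl (by simp [ExL]) (by simp)

theorem itr_sq : (lift itr : MulAut (PL 3 (ZMod 3))) ^ 2 = 1 := by rw [pow_two, ← map_mul, itr_mul_itr, map_one]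

theorem le_itr : Le 2 (lift itr : MulAut (PL 3 (ZMod 3))) 6 := by
  have h1 : mk 0 0 1 0 2 1 1 1 0 ^ 13 = 1 := pow13 (a := mk 1 1 0 1 2 2 0 2 2) (b := mk 2 0 2 0 0 2 2 2 2)
    (c := mk 2 1 2 1 1 1 2 1 0) (by decide +kernel) (by decide +kernel) (by decide +kernel) (by decide +kernel)
  have h2 : itr (mk 0 0 1 0 2 1 1 1 0) = (mk 0 0 1 0 2 1 1 1 0)⁻¹ :=
    (itr_eq (h := mk 2 1 1 1 2 0 1 0 0) (by decide +kernel)).trans
      (eq_inv_of_mul_eq_one_left (Subtype.ext (show (mk 2 1 1 1 2 0 1 0 0 : M) * _ = 1 by decide +kernel)))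
  have h3 := li13 (by decide +kernel) h1
  refine Le.of_frob (t := 2) (j := 1) (s := 13) zc3 (by norm_num) (by norm_num) (by norm_num) itr_sq
    (by rw [← map_pow, h1, map_one]) (by rw [lift_pr, h2, map_inv]; exact inv_mem (mem_zpowers _)) (fun e => ?_) h3
    (by norm_num)
  rw [lift_pr] at e
  have h4 : ((mk 0 0 1 0 2 1 1 1 0 * mk 0 0 1 0 2 1 1 1 0 : G) : M) = 1 := by
    rw [inv_eq_iff_mul_eq_one.1 ((by exact h2.symm.trans (pr_inj e)))]
    rfl
  revert h4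
  decide +kernel

theorem le_graph {A : GL (Fin 3) (ZMod 3)} (h : lift (cj A * itr) ^ 2 = 1) : Le 2 (lift (cj A * itr)) 6 := by
  obtain ⟨β, hβ⟩ := exists_itr (by decide) (by decide) h
  exact (Le.of_conj β (hβ ▸ le_itr) :)

/-- a diagonal involution -/
def t₁ : G := mk 1 0 0 0 2 0 0 0 2

/-- pairs of orthogonal matrices -/
def prs : List (G × G) :=
  [(mk 0 0 1 0 1 0 2 0 0, mk 0 0 1 1 0 0 0 1 0), (mk 0 1 0 0 0 1 1 0 0, mk 0 1 0 1 0 0 0 0 2), (mk 1 0 0 0 0 1 0 2 0, 1)]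

theorem cases_inv : ∀ a b c d e f : ZMod 3, ∀ t : M, t = !![a, b, c; b, d, e; c, e, f] → t * t = 1 → t = 1 ∨ t = -1 ∨
    ∃ x ∈ prs, (x.1 : M)ᵀ * x.1 = 1 ∧ (x.2 : M)ᵀ * x.2 = 1 ∧ x.1 * t * (x.1 : M)ᵀ * (x.2 * t * (x.2 : M)ᵀ) = t₁ := by
  rintro a b c d e f _ rfl
  revert a b c d e f
  decide +kernel

theorem lo_seven {E : Subgroup (MulAut (PL 3 (ZMod 3)))} (h1 : lift itr ∈ E) {t : G} (ht : MulAut.conj (pr t) ∈ E)
    (h2 : t ≠ 1) (h3 : t * t = 1) (h4 : itr t = t) : Lo 2 E 7 := by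
  refine lo_of_cl zc3 fun H hE hH => ?_
  have N0 : ∀ {x s u : G}, (x : M)ᵀ * x = 1 → (x : M) * s = u * x → MulAut.conj (pr s) ∈ H → MulAut.conj (pr u) ∈ H :=
    fun {x s u} e1 e2 h => conj_eq e2 ▸ hH _ (hE h1) le_itr _ (by rw [lift_pr, itr_eq e1]) _ h
  have h5 : MulAut.conj (pr t₁) ∈ H := by
    have h6 : (t : M)ᵀ = t := by
      conv_lhs => rw [← h4, coe_itr, transpose_transpose, inv_eq_of_mul_eq_one_left h3]
    have h7 : (t : M) = !![t 0 0, t 0 1, t 0 2; t 0 1, t 1 1, t 1 2; t 0 2, t 1 2, t 2 2] := by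
      conv_lhs => rw [eta_fin_three (t : M), ← congrFun₂ h6 1 0, ← congrFun₂ h6 2 0, ← congrFun₂ h6 2 1]
      rfl
    rcases cases_inv _ _ _ _ _ _ _ h7 (congrArg Subtype.val h3) with h8 | h8 | ⟨x, -, e1, e2, e3⟩
    · exact (h2 (Subtype.ext h8)).elim
    · have := t.2
      rw [h8, det_neg, det_one] at this
      exact absurd this (by decide)
    · have h9 : ∀ {y : G}, (y : M)ᵀ * y = 1 → MulAut.conj (pr (y * t * y.transpose)) ∈ H := fun {y} e =>
        N0 e (show _ = (y : M) * t * (y : M)ᵀ * y by rw [mul_assoc _ (y : M)ᵀ, e, mul_one]) (hE ht)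
      have := mul_mem (h9 e1) (h9 e2)
      rwa [← map_mul, ← map_mul, show x.1 * t * x.1.transpose * (x.2 * t * x.2.transpose) = t₁ from Subtype.ext e3] at this
  have h6 : itr t₁ = t₁ := itr_eq (by decide +kernel)
  have h7 : t₁ * t₁ = 1 := Subtype.ext (show (t₁ : M) * t₁ = 1 by decide +kernel)
  have h8 : Le 2 (MulAut.conj (pr t₁) * lift itr) 6 := by
    rw [conj_pr, ← map_mul]
    refine le_graph ?_
    rw [map_mul, ← conj_pr, pow_two, mul_assoc, ← mul_assoc (lift itr), H422.AutBase.mul_conj, lift_pr, h6, mul_assoc,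
      ← pow_two, itr_sq, mul_one, ← map_mul, ← map_mul, h7, map_one, map_one]
  have N1 : ∀ {s u : G}, (mk 0 1 1 1 1 2 2 1 2 : M) * s = u * mk 0 1 1 1 1 2 2 1 2 → MulAut.conj (pr s) ∈ H →
      MulAut.conj (pr u) ∈ H := fun {s u} e h => conj_eq e ▸ hH _ (mul_mem h5 (hE h1)) h8 _ (by
        rw [MulAut.mul_apply, lift_pr, itr_eq (h := mk 0 2 2 2 1 2 1 1 2) (by decide +kernel)]
        exact conj_eq (by decide +kernel)) _ h
  have a1 := N0 (x := mk 0 0 1 0 1 0 2 0 0) (u := mk 2 0 0 0 2 0 0 0 1) (by decide +kernel) (by decide +kernel) h5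
  have a2 := N1 (u := mk 0 1 1 2 1 2 2 2 1) (by decide +kernel) a1
  have a3 := N1 (u := mk 2 0 0 0 0 2 0 2 0) (by decide +kernel) h5
  have a4 := N0 (x := mk 0 0 1 0 1 0 2 0 0) (u := mk 0 2 0 2 0 0 0 0 2) (by decide +kernel) (by decide +kernel) a3
  have a5 := mul_mem (mul_mem h5 a2) a4
  rw [← map_mul, ← map_mul, ← map_mul, ← map_mul, show t₁ * _ * _ = mk 2 0 2 1 2 2 2 2 1 from
    Subtype.ext (show (t₁ : M) * _ * _ = _ by decide +kernel)] at a5
  exact ((li13 (by decide +kernel) (pow13 (a := mk 2 1 0 2 2 2 2 0 0) (b := mk 0 1 2 0 0 1 1 2 0) (c := mk 2 1 1 1 2 0 0 1 1)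
    (by decide +kernel) (by decide +kernel) (by decide +kernel) (by decide +kernel))).lo a5).le (by norm_num)

theorem lin_inn (A : GL (Fin 3) (ZMod 3)) : ∃ t : G, lift (cj A) = MulAut.conj (pr t) := by
  obtain ⟨s, hs⟩ := H422.AutBase.mem_inn (A := A) A.det_ne_zero (by rw [Fintype.card_fin, ZMod.pow_card])
  obtain ⟨t, rfl⟩ := pr_surjective s
  exact ⟨t, hs.symm⟩

/-- **`L₃(3)`** -/
theorem row_three : Row 2 (PL 3 (ZMod 3)) := by
  have h : Fintype.card (ZMod 3) = 3 := ZMod.card 3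
  refine ⟨row88_of_lo fun E hE j h3 hj => ?_, row89_of_lo fun E hE hn j _ hj => ?_⟩
  · exact absurd (le_rank Nat.prime_three h (by decide) le_rfl hE hj) (not_le.2 h3)
  have h1 : j ≤ 3 := le_rank Nat.prime_three h (by decide) le_rfl hE hj
  obtain ⟨α, hα, h2⟩ := SetLike.not_le_iff_exists.1 hn
  obtain ⟨A, σ, rfl⟩ | ⟨A, σ, rfl⟩ := Main.surj_three 3 le_rfl α <;> rw [fld_eq Nat.prime_three h σ, map_one, mul_one] at *
  · obtain ⟨t, ht⟩ := lin_inn A
    exact (h2 ⟨_, ht.symm⟩).elim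
  rcases (show j = 1 ∨ 2 ≤ j by omega) with rfl | h5
  · exact ((le_graph (hE.2 _ hα)).lo hα).le (by norm_num)
  obtain ⟨β, hβ⟩ := exists_itr (by decide) (by decide) (hE.2 _ hα)
  have h6 : lift itr ∈ E.map (MulAut.conj β).toMonoidHom := ⟨_, hα, hβ⟩
  have h7 : ∀ a ∈ E.map (MulAut.conj β).toMonoidHom, a * a = 1 := by
    rintro _ ⟨a, ha, rfl⟩
    rw [← map_mul, ← pow_two, hE.2 a ha, map_one]
  obtain ⟨B, hB, h8⟩ := exists_lin (E := E.map (MulAut.conj β).toMonoidHom) Nat.prime_three h le_rfl (by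
    rw [card_map_of_injective (MulAut.conj β).injective, hj]
    exact (Nat.pow_le_pow_right two_pos h5).trans_lt' (by norm_num))
  obtain ⟨t, ht⟩ := lin_inn B
  rw [ht] at hB h8
  have hc := H422.AutBase.conj_injective cenG
  have h9 : t * t = 1 := pr_inj (hc (by rw [map_mul, map_mul, h7 _ hB, map_one, map_one]))
  refine Lo.of_conj β ((lo_seven h6 hB (fun e => h8 (by rw [e, map_one, map_one])) h9 ?_).le (by omega))
  have h10 := h7 _ (mul_mem h6 hB)
  rw [← mul_assoc, H422.AutBase.mul_conj (lift itr), mul_assoc _ (lift itr) (lift itr), h7 _ h6, mul_one, lift_pr, ← map_mul, ← map_mul, ← map_one MulAut.conj, ← map_one pr, ← h9] at h10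
  exact mul_right_cancel (pr_inj (hc h10))

end three

end Cfsg.Agent.TwoF.XL.LP

namespace Cfsg.Agent.TwoF.XL

/-- **`L₃(3)`, `L₃(5)`, `L₄(3)`, `p = 2`** -/
theorem lp2 : LP2 := by
  rintro F _ _ n (⟨rfl, h | h⟩ | ⟨rfl, h⟩)
  · exact LP.row_three.of_equiv (H363.PslCard.pslEquiv (ZMod.ringEquivOfPrime F Nat.prime_three h).symm)
  · exact (LP.noOff_five h).row
  · exact (LP.noOff_four h).row

end Cfsg.Agent.TwoF.XL
end

-- part: TwoF/XL/Un2/Mat
section
/-!
# TwoF XL-Un2: unitary matrices over the field with four elements (helper35)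
-/

set_option autoImplicit false
set_option linter.unusedSectionVars false

namespace Cfsg.Agent.TwoF.XL.Un2

open Module Matrix Cfsg.Agent.LieClassical.HermBasic Cfsg.Agent.LieClassical.HermSiegel
  Cfsg.Agent.ClassicalGeometry

variable {F : Type} [Field F] [Fintype F] {n : ℕ}

/-- `F` has four elements, `ω` is a primitive third root of unity -/
structure F4 (ω : F) : Prop where
  card : Fintype.card F = 2 ^ 2
  om : ω ^ 2 + ω + 1 = 0

theorem pow_three (hF : Fintype.card F = 2 ^ 2) {x : F} (hx : x ≠ 0) : x ^ 3 = 1 := by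
  have := FiniteField.pow_card_sub_one_eq_one x hx
  rwa [hF] at this

theorem two_eq (hF : Fintype.card F = 2 ^ 2) : (2 : F) = 0 := by
  have h := FiniteField.cast_card_eq_zero F
  rw [hF, Nat.cast_pow] at h
  exact_mod_cast pow_eq_zero_iff (two_ne_zero) |>.1 h

theorem card_units (hF : Fintype.card F = 2 ^ 2) : Nat.card Fˣ = 3 := card_units_eq hF

theorem exists_F4 (hF : Fintype.card F = 2 ^ 2) : ∃ ω : F, F4 ω := by
  obtain ⟨c, hc, h1⟩ := GUBasic.exists_norm_one hF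
  refine ⟨c, hF, ?_⟩
  have h : (c - 1) * (c ^ 2 + c + 1) = 0 := by linear_combination hc
  exact (mul_eq_zero.1 h).resolve_left (sub_ne_zero.2 h1)

namespace F4

variable {ω : F} (h : F4 ω)
include h

theorem two : (2 : F) = 0 := two_eq h.card

theorem ne_zero : ω ≠ 0 := by
  rintro rfl
  have := h.om
  simp at this

theorem three : ω ^ 3 = 1 := pow_three h.card h.ne_zero

theorem ne_one : ω ≠ 1 := by
  intro e
  have h1 := h.om
  rw [e] at h1
  exact one_ne_zero (by linear_combination h1 - h.two : (1 : F) = 0)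

theorem sq_ne_one : ω ^ 2 ≠ 1 := fun e => h.ne_zero (by linear_combination h.om - e - h.two)

theorem cases {x : F} (hx : x ≠ 0) : x = 1 ∨ x = ω ∨ x = ω ^ 2 := by
  have h1 : (x - 1) * ((x - ω) * (x - ω ^ 2)) = 0 := by
    linear_combination pow_three h.card hx + (x - x ^ 2) * h.om + (x - 1) * h.three
  rcases mul_eq_zero.1 h1 with e | e
  · exact Or.inl (sub_eq_zero.1 e)
  · exact Or.inr ((mul_eq_zero.1 e).imp sub_eq_zero.1 sub_eq_zero.1)

end F4

theorem F4.of_ne (hF : Fintype.card F = 2 ^ 2) {x : F} (h0 : x ≠ 0) (h1 : x ≠ 1) : F4 x := by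
  refine ⟨hF, ?_⟩
  have h : (x - 1) * (x ^ 2 + x + 1) = 0 := by linear_combination pow_three hF h0
  exact (mul_eq_zero.1 h).resolve_left (sub_ne_zero.2 h1)

/-- square matrices -/
abbrev Mt (n : ℕ) (F : Type) : Type := Matrix (Fin n) (Fin n) F

/-- unitary -/
def IsU (M : Mt n F) : Prop := ∀ u v, hermForm n F 2 (M *ᵥ u) (M *ᵥ v) = hermForm n F 2 u v

/-- scalar -/
def Sc (M : Mt n F) : Prop := ∃ c : F, M = c • (1 : Mt n F)

theorem ext_mv {A B : Mt n F} (h : ∀ v, A *ᵥ v = B *ᵥ v) : A = B := Matrix.toLin'.injective (LinearMap.ext h)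

theorem IsU.mul {A B : Mt n F} (hA : IsU A) (hB : IsU B) : IsU (A * B) := fun u v => by
  rw [← mulVec_mulVec, ← mulVec_mulVec, hA, hB]

theorem IsU.det (hF : Fintype.card F = 2 ^ 2) {A : Mt n F} (hA : IsU A) : A.det ^ 3 = 1 := GUBasic.det_pow hF hA

theorem IsU.det_ne (hF : Fintype.card F = 2 ^ 2) {A : Mt n F} (hA : IsU A) : A.det ≠ 0 := fun e => by
  have := hA.det hF
  rw [e] at this
  simp at this

theorem isU_diag (hF : Fintype.card F = 2 ^ 2) {d : Fin n → F} (hd : ∀ i, d i ≠ 0) : IsU (diagonal d) :=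
  (GUBasic.guDiag 2 d fun i => pow_three hF (hd i)).2

theorem IsU.diag_ne (hF : Fintype.card F = 2 ^ 2) {d : Fin n → F} (hd : IsU (diagonal d)) (i : Fin n) : d i ≠ 0 := by
  have := hd.det_ne hF
  rw [det_diagonal, Finset.prod_ne_zero_iff] at this
  exact this i (Finset.mem_univ i)

theorem diag_pow_three (hF : Fintype.card F = 2 ^ 2) {d : Fin n → F} (hd : ∀ i, d i ≠ 0) :
    (diagonal d : Mt n F) ^ 3 = 1 := by
  rw [diagonal_pow, ← diagonal_one]
  exact congrArg diagonal (funext fun i => pow_three hF (hd i))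

/-- permutation matrices -/
def pm (F : Type) [Field F] (σ : Equiv.Perm (Fin n)) : Mt n F := σ⁻¹.permMatrix F

theorem pm_mulVec (σ : Equiv.Perm (Fin n)) (v : Fin n → F) : pm F σ *ᵥ v = fun i => v (σ⁻¹ i) := permMatrix_mulVec _

theorem pm_mul (σ τ : Equiv.Perm (Fin n)) : pm F (σ * τ) = pm F σ * pm F τ := by
  rw [pm, _root_.mul_inv_rev, permMatrix_mul]; rfl

theorem pm_one : pm F (1 : Equiv.Perm (Fin n)) = 1 := by rw [pm, inv_one, permMatrix_one]

theorem pm_pow (σ : Equiv.Perm (Fin n)) (j : ℕ) : pm F (σ ^ j) = pm F σ ^ j := by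
  induction j with
  | zero => rw [pow_zero, pow_zero, pm_one]
  | succ j ih => rw [pow_succ, pow_succ, pm_mul, ih]

theorem isU_pm (σ : Equiv.Perm (Fin n)) : IsU (pm F σ) := (GUBasic.guPerm 2 σ⁻¹).2

theorem det_pm (hF : Fintype.card F = 2 ^ 2) (σ : Equiv.Perm (Fin n)) : (pm F σ).det = 1 := by
  rw [pm, det_permutation]
  rcases Int.units_eq_one_or (Equiv.Perm.sign σ⁻¹) with h1 | h1 <;> rw [h1]
  · simp
  · simp only [Units.val_neg, Units.val_one, Int.cast_neg, Int.cast_one]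
    linear_combination -two_eq hF

theorem pm_single (σ : Equiv.Perm (Fin n)) (i : Fin n) (c : F) :
    pm F σ *ᵥ Pi.single i c = Pi.single (σ i) c := by
  rw [pm_mulVec]
  ext j
  by_cases e : j = σ i
  · subst e; simp
  · rw [Pi.single_eq_of_ne e, Pi.single_eq_of_ne]
    rintro rfl
    simp at e

theorem pm_diag (σ : Equiv.Perm (Fin n)) (d : Fin n → F) :
    pm F σ * diagonal d = diagonal (fun i => d (σ⁻¹ i)) * pm F σ := ext_mv fun v => by
  rw [← mulVec_mulVec, ← mulVec_mulVec, pm_mulVec, pm_mulVec]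
  ext i
  rw [mulVec_diagonal, mulVec_diagonal]

/-! ### Siegel matrices -/

theorem sm_mul (hF : Fintype.card F = 2 ^ 2) {u w w' : Fin n → F} {a a' : F} (h : IsSiegel 2 u w a)
    (h' : IsSiegel 2 u w' a') : siegelMat 2 u w a * siegelMat 2 u w' a' =
      siegelMat 2 u (w + w') (a + a' - hermForm n F 2 w' w) :=
  ((mat_mul _ _).symm.trans (congrArg mat (siegel_mul hF h h')) :)

theorem sm_zero (u : Fin n → F) : siegelMat 2 u 0 0 = 1 := by
  ext i j
  simp [siegelMat, vecMulVec_apply]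

theorem sm_conj {M : Mt n F} (hM : IsU M) (u w : Fin n → F) (a : F) :
    M * siegelMat 2 u w a = siegelMat 2 (M *ᵥ u) (M *ᵥ w) a * M := ext_mv fun v => by
  rw [← mulVec_mulVec, ← mulVec_mulVec, siegelMat_mulVec, siegelMat_mulVec, hM, hM, mulVec_add, mulVec_add,
    mulVec_smul, mulVec_smul]

theorem sm_smul (hF : Fintype.card F = 2 ^ 2) {c : F} (hc : c ≠ 0) (u w : Fin n → F) (a : F) :
    siegelMat 2 (c • u) w a = siegelMat 2 u (c ^ 2 • w) a := ext_mv fun v => by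
  rw [siegelMat_mulVec, siegelMat_mulVec, herm_smul_right, herm_smul_right, smul_smul, smul_smul]
  have h3 := pow_three hF hc
  congr 2
  · rw [mul_comm]
  · linear_combination (a * hermForm n F 2 v u + c * hermForm n F 2 v w) * h3

theorem sm_conj' (hF : Fintype.card F = 2 ^ 2) {M : Mt n F} (hM : IsU M) {u : Fin n → F} {c : F} (hc : c ≠ 0)
    (hu : M *ᵥ u = c • u) (w : Fin n → F) (a : F) :
    M * siegelMat 2 u w a = siegelMat 2 u (c ^ 2 • M *ᵥ w) a * M := by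
  rw [sm_conj hM, hu, sm_smul hF hc]

theorem isS_tv (hF : Fintype.card F = 2 ^ 2) {u : Fin n → F} (hu : hermForm n F 2 u u = 0) : IsSiegel 2 u 0 (1 : F) :=
  ⟨hu, herm_zero_left _, by rw [herm_zero_left]; linear_combination two_eq hF⟩

theorem tv_sq (hF : Fintype.card F = 2 ^ 2) {u : Fin n → F} (hu : hermForm n F 2 u u = 0) :
    siegelMat 2 u 0 1 * siegelMat 2 u 0 1 = 1 := by
  rw [sm_mul hF (isS_tv hF hu) (isS_tv hF hu), add_zero, herm_zero_left, sub_zero, one_add_one_eq_two, two_eq hF,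
    sm_zero]

theorem tv_mulVec (hF : Fintype.card F = 2 ^ 2) (u v : Fin n → F) :
    siegelMat 2 u 0 1 *ᵥ v = v + hermForm n F 2 v u • u := by
  rw [siegelMat_mulVec, smul_zero, add_zero, one_mul, herm_zero_right hF, sub_zero]

/-- two transvections that generate `SU 2` -/
theorem braid (hF : Fintype.card F = 2 ^ 2) {u v : Fin n → F} (hu : hermForm n F 2 u u = 0)
    (hv : hermForm n F 2 v v = 0) (h : hermForm n F 2 v u ≠ 0) :
    (siegelMat 2 v 0 1 * siegelMat 2 u 0 1) ^ 3 = 1 ∧ ¬ Sc (siegelMat 2 v 0 1 * siegelMat 2 u 0 1) := by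
  have hs := herm_swap hF v u
  have h3 := pow_three hF h
  have h' : hermForm n F 2 u v ≠ 0 := by rw [hs]; exact pow_ne_zero _ h
  constructor
  · set s := siegelMat 2 u 0 (1 : F) with hs'
    set t := siegelMat 2 v 0 (1 : F) with ht'
    have hss : s * s = 1 := tv_sq hF hu
    have htt : t * t = 1 := tv_sq hF hv
    have e1 : s * t = siegelMat 2 (s *ᵥ v) 0 1 * s := by
      have := sm_conj (M := s) (siegelMat_herm hF (isS_tv hF hu)) v 0 1
      rwa [mulVec_zero] at this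
    have e2 : t * s = siegelMat 2 (s *ᵥ v) 0 1 * t := by
      have := sm_conj (M := t) (siegelMat_herm hF (isS_tv hF hv)) u 0 1
      rw [mulVec_zero] at this
      have e : t *ᵥ u = hermForm n F 2 u v • (s *ᵥ v) := by
        rw [ht', hs', tv_mulVec hF, tv_mulVec hF, smul_add, smul_smul, add_comm,
          show hermForm n F 2 u v * hermForm n F 2 v u = 1 by rw [hs]; linear_combination h3, one_smul]
      rwa [e, sm_smul hF h', smul_zero] at this
    set r := siegelMat 2 (s *ᵥ v) 0 (1 : F)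
    have e3 : s * t * s = r := by rw [e1, Matrix.mul_assoc, hss, Matrix.mul_one]
    have e4 : t * s * t = r := by rw [e2, Matrix.mul_assoc, htt, Matrix.mul_one]
    calc (t * s) ^ 3 = (t * s * t) * (s * t * s) := by simp only [pow_succ, pow_zero, one_mul, Matrix.mul_assoc]
      _ = (s * t * s) * (s * t * s) := by rw [e3, e4]
      _ = s * (t * (s * s) * t) * s := by simp only [Matrix.mul_assoc]
      _ = 1 := by rw [hss, Matrix.mul_one, htt, Matrix.mul_one, hss]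
  · rintro ⟨c, hc⟩
    have e := congrArg (fun M : Mt n F => hermForm n F 2 (M *ᵥ u) u) hc
    simp only [← mulVec_mulVec, tv_mulVec hF, hu, zero_smul, add_zero, smul_mulVec, one_mulVec, herm_add_left,
      herm_smul_left, mul_zero, zero_add] at e
    exact mul_ne_zero h' h e

theorem herm_pair (hF : Fintype.card F = 2 ^ 2) (x : Fin n → F) (i j : Fin n) (c : F) :
    hermForm n F 2 x (Pi.single i 1 + Pi.single j c) = x i + x j * c ^ 2 := by
  rw [herm_add_right hF, herm_single_right hF, herm_single_right hF, one_pow, mul_one]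

theorem iso_pair (hF : Fintype.card F = 2 ^ 2) {i j : Fin n} (hij : i ≠ j) {c : F} (hc : c ≠ 0) :
    hermForm n F 2 (Pi.single i 1 + Pi.single j c) (Pi.single i 1 + Pi.single j c) = 0 := by
  rw [herm_pair hF]
  simp only [Pi.add_apply, Pi.single_eq_same, Pi.single_eq_of_ne hij, Pi.single_eq_of_ne hij.symm]
  linear_combination pow_three hF hc + two_eq hF

/-- a matrix that is not scalar moves an isotropic vector out of its orthogonal complement -/
theorem exists_iso (hF : Fintype.card F = 2 ^ 2) (i0 : Fin n) {M : Mt n F} (hM : ¬ Sc M) :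
    ∃ u, hermForm n F 2 u u = 0 ∧ hermForm n F 2 (M *ᵥ u) u ≠ 0 := by
  by_contra! H
  obtain ⟨ω, h⟩ := exists_F4 hF
  have key : ∀ i j, i ≠ j → M i j = 0 ∧ M i i = M j j := by
    intro i j hij
    have e : ∀ c : F, c ≠ 0 → M i i + M i j * c + (M j i + M j j * c) * c ^ 2 = 0 := fun c hc => by
      have := H _ (iso_pair hF hij hc)
      rw [herm_pair hF] at this
      simpa only [mulVec_add, mulVec_single, Pi.add_apply, MulOpposite.op_one, one_smul, Pi.smul_apply,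
        MulOpposite.smul_eq_mul_unop, MulOpposite.unop_op, col_apply] using this
    have e1 := e 1 one_ne_zero
    have e2 := e ω h.ne_zero
    have e3 := e (ω ^ 2) (pow_ne_zero _ h.ne_zero)
    have h2 := h.two
    have h3 := h.three
    have ho := h.om
    have e4 : M i i + M j j = 0 := by
      linear_combination e1 + e2 + e3 - (M i j + M j i) * ho - (M j i * ω + M j j * (ω ^ 3 + 2)) * h3 -
        (M i i + M j j) * h2
    have e5 : M i j + M j i = 0 := by linear_combination e1 - e4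
    constructor
    · linear_combination e2 - e4 - ω ^ 2 * e5 - M j j * h3 + M i j * ho - ω * M i j * h2
    · linear_combination e4 - M j j * h2
  refine hM ⟨M i0 i0, ?_⟩
  ext i j
  by_cases e : i = j
  · subst e
    rw [Matrix.smul_apply, one_apply_eq, smul_eq_mul, mul_one]
    by_cases e' : i = i0
    · rw [e']
    · exact (key i i0 e').2
  · rw [Matrix.smul_apply, one_apply_ne e, smul_zero, (key i j e).1]

/-! ### simultaneous diagonalisation -/

section Diag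

open HermOrtho

variable (hF : Fintype.card F = 2 ^ 2) {S : Set (Mt n F)} (hU : ∀ M ∈ S, IsU M)
  (hc : ∀ M ∈ S, ∀ N ∈ S, M * N = N * M) (h3 : ∀ M ∈ S, M ^ 3 = 1)
include hF hU hc h3

theorem exists_eig (d : ℕ) : ∀ W : Submodule F (Fin n → F), finrank F W ≤ d → W ≠ ⊥ →
    (∀ u ∈ W, (∀ v ∈ W, hermForm n F 2 u v = 0) → u = 0) → (∀ M ∈ S, ∀ v ∈ W, M *ᵥ v ∈ W) →
    ∃ v ∈ W, hermForm n F 2 v v = 1 ∧ ∀ M ∈ S, ∃ c : F, M *ᵥ v = c • v := by
  induction d with
  | zero => exact fun W h h0 => (h0 (Submodule.finrank_eq_zero.1 (Nat.le_zero.1 h))).elim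
  | succ d ih =>
    intro W hd h0 hW hi
    by_cases H : ∀ M ∈ S, ∃ c : F, ∀ v ∈ W, M *ᵥ v = c • v
    · obtain ⟨v, hv, hvv⟩ := exists_norm_one_vector hF W hW h0
      exact ⟨v, hv, hvv, fun M hM => (H M hM).imp fun c hc => hc v hv⟩
    push Not at H
    obtain ⟨M, hM, H⟩ := H
    obtain ⟨ω, h⟩ := exists_F4 hF
    have hMMM : ∀ w, M *ᵥ (M *ᵥ (M *ᵥ w)) = w := fun w => by
      rw [mulVec_mulVec, mulVec_mulVec, ← pow_three', h3 M hM, one_mulVec]
    have hp : ∀ l : F, l ≠ 0 → ∀ w, M *ᵥ (w + l ^ 2 • M *ᵥ w + l • M *ᵥ (M *ᵥ w)) =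
        l • (w + l ^ 2 • M *ᵥ w + l • M *ᵥ (M *ᵥ w)) := fun l hl w => by
      rw [mulVec_add, mulVec_add, mulVec_smul, mulVec_smul, hMMM, smul_add, smul_add, smul_smul, smul_smul,
        ← pow_succ', pow_three hF hl, one_smul, ← pow_two]
      abel
    have hpW : ∀ l : F, ∀ w ∈ W, w + l ^ 2 • M *ᵥ w + l • M *ᵥ (M *ᵥ w) ∈ W := fun l w hw =>
      W.add_mem (W.add_mem hw (W.smul_mem _ (hi M hM w hw))) (W.smul_mem _ (hi M hM _ (hi M hM w hw)))
    obtain ⟨l, hl, x, hx, hx0, hxl⟩ : ∃ l : F, l ≠ 0 ∧ ∃ x ∈ W, x ≠ 0 ∧ M *ᵥ x = l • x := by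
      by_contra! H'
      obtain ⟨w, hw, hw0⟩ := (Submodule.ne_bot_iff W).1 h0
      have e : ∀ l : F, l ≠ 0 → w + l ^ 2 • M *ᵥ w + l • M *ᵥ (M *ᵥ w) = 0 := fun l hl => by
        by_contra e
        exact H' l hl _ (hpW l w hw) e (hp l hl w)
      have e1 := e 1 one_ne_zero
      have e2 := e ω h.ne_zero
      have e3 := e (ω ^ 2) (pow_ne_zero _ h.ne_zero)
      refine hw0 (funext fun i => ?_)
      have e1 := congrFun e1 i
      have e2 := congrFun e2 i
      have e3 := congrFun e3 i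
      simp only [Pi.add_apply, Pi.smul_apply, smul_eq_mul, Pi.zero_apply] at e1 e2 e3 ⊢
      linear_combination e1 + e2 + e3 - ((M *ᵥ w) i + (M *ᵥ (M *ᵥ w)) i) * h.om - ω * (M *ᵥ w) i * h.three -
        w i * h.two
    set E : Submodule F (Fin n → F) := W ⊓ Module.End.eigenspace (Matrix.toLin' M) l with hE
    have hmem : ∀ w, w ∈ E ↔ w ∈ W ∧ M *ᵥ w = l • w := fun w => by
      rw [hE, Submodule.mem_inf, Module.End.mem_eigenspace_iff, toLin'_apply]
    have hlt : E < W := lt_of_le_of_ne inf_le_left fun e => by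
      obtain ⟨v, hv, hv'⟩ := H l
      exact hv' ((hmem v).1 (e ▸ hv)).2
    obtain ⟨v, hv, hvv⟩ := ih E (Nat.lt_succ_iff.1 ((Submodule.finrank_lt_finrank_of_lt hlt).trans_le hd))
      (fun e => hx0 ((Submodule.eq_bot_iff _).1 e _ ((hmem _).2 ⟨hx, hxl⟩))) (fun u hu H' => by
        obtain ⟨huW, hul⟩ := (hmem u).1 hu
        refine hW u huW fun w hw => ?_
        have e := H' _ ((hmem _).2 ⟨hpW l w hw, hp l hl w⟩)
        have e1 := hU M hM u w
        have e2 := hU M hM u (M *ᵥ w)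
        rw [hul, herm_smul_left] at e1 e2
        rw [herm_add_right hF, herm_add_right hF, herm_smul_right, herm_smul_right] at e
        have l3 := pow_three hF hl
        linear_combination e - l ^ 3 * e1 - l * e2 - e1 - hermForm n F 2 u w * l3 - hermForm n F 2 u w * two_eq hF)
      (fun N hN w hw => (hmem _).2 ⟨hi N hN w ((hmem _).1 hw).1, by
        rw [mulVec_mulVec, hc M hM N hN, ← mulVec_mulVec, ((hmem _).1 hw).2, mulVec_smul]⟩)
    exact ⟨v, hlt.le hv, hvv⟩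

theorem exists_basis (k : ℕ) : ∀ W : Submodule F (Fin n → F),
    (∀ u ∈ W, (∀ v ∈ W, hermForm n F 2 u v = 0) → u = 0) → (∀ M ∈ S, ∀ v ∈ W, M *ᵥ v ∈ W) → finrank F W = k →
    ∃ b : Fin k → (Fin n → F), (∀ i, b i ∈ W) ∧ (∀ i, ∀ M ∈ S, ∃ c : F, M *ᵥ b i = c • b i) ∧
      ∀ i j, hermForm n F 2 (b i) (b j) = if i = j then 1 else 0 := by
  induction k with
  | zero =>
    intro W _ _ _
    exact ⟨fun i => i.elim0, fun i => i.elim0, fun i => i.elim0, fun i => i.elim0⟩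
  | succ k ih =>
    intro W hW hi hk
    have hW0 : W ≠ ⊥ := by
      rintro rfl
      rw [finrank_bot] at hk
      omega
    obtain ⟨v, hv, hvv, hve⟩ := exists_eig hF hU hc h3 _ W le_rfl hW0 hW hi
    set W' : Submodule F (Fin n → F) := W ⊓ hermPerp 2 {v} with hW'
    have hmem : ∀ w, w ∈ W' ↔ w ∈ W ∧ hermForm n F 2 w v = 0 := by
      intro w
      rw [hW', Submodule.mem_inf, mem_hermPerp]
      simp
    have hdec : ∀ w ∈ W, w - hermForm n F 2 w v • v ∈ W' := by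
      intro w hw
      rw [hmem]
      refine ⟨W.sub_mem hw (W.smul_mem _ hv), ?_⟩
      rw [herm_sub_left, herm_smul_left, hvv, mul_one, sub_self]
    have hnd : ∀ u ∈ W', (∀ w ∈ W', hermForm n F 2 u w = 0) → u = 0 := by
      intro u hu h
      refine hW u ((hmem u).1 hu).1 fun w hw => ?_
      have h1 := h _ (hdec w hw)
      rw [herm_sub_right hF, herm_smul_right, ((hmem u).1 hu).2, mul_zero, sub_zero] at h1
      exact h1
    have hinv : ∀ M ∈ S, ∀ w ∈ W', M *ᵥ w ∈ W' := by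
      intro M hM w hw
      refine (hmem _).2 ⟨hi M hM w ((hmem w).1 hw).1, ?_⟩
      obtain ⟨c, hcv⟩ := hve M hM
      have e1 := hU M hM v v
      have e2 := hU M hM w v
      rw [hcv, herm_smul_left, herm_smul_right, hvv] at e1
      rw [hcv, herm_smul_right, ((hmem w).1 hw).2] at e2
      linear_combination c * e2 - hermForm n F 2 (M *ᵥ w) v * e1
    have hrank : finrank F W' = k := by
      have h1 := LinearMap.finrank_range_add_finrank_ker ((hermLeft 2 v).comp W.subtype)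
      have h2 : LinearMap.range ((hermLeft 2 v).comp W.subtype) = ⊤ := by
        rw [LinearMap.range_eq_top]
        intro c
        refine ⟨c • ⟨v, hv⟩, ?_⟩
        simp [hvv]
      have h3 : finrank F (LinearMap.ker ((hermLeft 2 v).comp W.subtype)) = finrank F W' := by
        have h4 : W' = (LinearMap.ker ((hermLeft 2 v).comp W.subtype)).map W.subtype := by
          ext w
          rw [hmem, Submodule.mem_map]
          constructor
          · rintro ⟨hw, hw'⟩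
            exact ⟨⟨w, hw⟩, by simpa using hw', rfl⟩
          · rintro ⟨w', hw', rfl⟩
            exact ⟨w'.2, by simpa using hw'⟩
        rw [h4]
        exact (LinearEquiv.finrank_eq
          (Submodule.equivMapOfInjective W.subtype W.injective_subtype _))
      rw [h2, finrank_top, finrank_self, h3, hk] at h1
      omega
    obtain ⟨b, hb, hbe, hbb⟩ := ih W' hnd hinv hrank
    refine ⟨Fin.cons v b, ?_, ?_, ?_⟩
    · intro i
      refine Fin.cases ?_ (fun i => ?_) i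
      · exact hv
      · exact ((hmem _).1 (hb i)).1
    · intro i
      refine Fin.cases ?_ (fun i => ?_) i
      · exact hve
      · exact hbe i
    · intro i j
      refine Fin.cases ?_ (fun i => ?_) i <;> refine Fin.cases ?_ (fun j => ?_) j
      · simpa using hvv
      · rw [Fin.cons_zero, Fin.cons_succ, if_neg (Fin.succ_ne_zero j).symm]
        exact herm_eq_zero_swap hF ((hmem _).1 (hb j)).2
      · rw [Fin.cons_zero, Fin.cons_succ, if_neg (Fin.succ_ne_zero i)]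
        exact ((hmem _).1 (hb i)).2
      · rw [Fin.cons_succ, Fin.cons_succ, hbb]
        simp [Fin.succ_inj]

/-- commuting unitary matrices of order three are diagonal in an orthonormal basis -/
theorem exists_diag : ∃ P Q : Mt n F, IsU P ∧ IsU Q ∧ P * Q = 1 ∧ Q * P = 1 ∧
    ∀ M ∈ S, ∃ d, Q * M * P = diagonal d := by
  obtain ⟨b, -, hbe, hbb⟩ := exists_basis hF hU hc h3 n ⊤ (fun u _ h => herm_nondeg hF fun v => h v trivial)
    (fun _ _ _ _ => trivial) (by rw [finrank_top, finrank_fin_fun])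
  obtain ⟨g, hg, hgx⟩ := exists_GU_of_orthonormal hF hbb
  refine ⟨g, (g⁻¹ : GL (Fin n) F), hg, (GU n F 2).inv_mem hg, g.mul_inv, g.inv_mul, fun M hM => ?_⟩
  choose c hc using fun i => hbe i M hM
  refine ⟨c, ?_⟩
  have e : M * (g : Mt n F) = (g : Mt n F) * diagonal c := ext_mv fun v => by
    rw [← mulVec_mulVec, ← mulVec_mulVec, hgx, hgx, mulVec_sum]
    refine Finset.sum_congr rfl fun i _ => ?_
    rw [mulVec_smul, hc, mulVec_diagonal, smul_smul, mul_comm]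
  rw [Matrix.mul_assoc, e, ← Matrix.mul_assoc, g.inv_mul, Matrix.one_mul]

end Diag

end Cfsg.Agent.TwoF.XL.Un2
end

-- part: TwoF/XL/Un2/Cov
section
/-!
# TwoF XL-Un2: groups above `SU n 2` and the lift of the unipotent radical (helper35)

`Cov μ`: `μ : W → GU n 2` covers `SU n 2`, its kernel has order prime to three and centralises the preimage of `SU`.
-/

set_option autoImplicit false
set_option linter.unusedSectionVars false

namespace Cfsg.Agent.TwoF.XL.Un2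

open Module Matrix Cfsg.Agent.LieClassical.HermBasic Cfsg.Agent.LieClassical.HermSiegel
open scoped commutatorElement

variable {F : Type} [Field F] [Fintype F] {n : ℕ} {W : Type} [Group W] {μ : W →* Mt n F}

/-- the standing hypotheses on `μ` -/
structure Cov (μ : W →* Mt n F) : Prop where
  card : Fintype.card F = 2 ^ 2
  uni : ∀ w, IsU (μ w)
  lift : ∀ M, IsU M → M.det = 1 → ∃ w, μ w = M
  cent : ∀ z w, μ z = 1 → (μ w).det = 1 → z * w = w * z
  cop : ∀ z, μ z = 1 → z ^ 3 = 1 → z = 1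

theorem mu_div {a b : W} {N : Mt n F} (h : μ a = N * μ b) : μ (a * b⁻¹) = N := by
  rw [map_mul, h, mul_assoc, ← map_mul, mul_inv_cancel, map_one, mul_one]

theorem mu_conj {a b : W} {N : Mt n F} (h : μ a * μ b = N * μ a) : μ (a * b * a⁻¹) = N :=
  mu_div (by rw [map_mul, h])

theorem det_mu_mul (a b : W) : (μ (a * b)).det = (μ a).det * (μ b).det := by rw [map_mul, det_mul]

theorem det_mu_inv {a : W} (h : (μ a).det = 1) : (μ a⁻¹).det = 1 := by
  have := det_mu_mul (μ := μ) a a⁻¹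
  rwa [mul_inv_cancel, map_one, det_one, h, one_mul, eq_comm] at this

theorem det_mu_conj (a b : W) : (μ (a * b * a⁻¹)).det = (μ b).det := by
  rw [det_mu_mul, mul_comm, ← det_mu_mul, ← mul_assoc, inv_mul_cancel, one_mul]

theorem det_mu_comm (a b : W) : (μ ⁅a, b⁆).det = 1 := by
  rw [commutatorElement_def, det_mu_mul, det_mu_conj, ← det_mu_mul, mul_inv_cancel, map_one, det_one]

namespace Cov

variable (C : Cov μ)
include C

theorem eq_one_of_pow {z : W} (hz : μ z = 1) {e : ℕ} (h : z ^ 3 ^ e = 1) : z = 1 := by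
  induction e with
  | zero => simpa using h
  | succ e ih => exact ih (C.cop _ (by rw [map_pow, hz, one_pow]) (by rw [← pow_mul, ← pow_succ, h]))

theorem eq_one_of_mem {P : Subgroup W} (hP : IsPGroup 3 P) {a : W} (ha : a ∈ P) (h : μ a = 1) : a = 1 := by
  obtain ⟨e, he⟩ := hP ⟨a, ha⟩
  exact C.eq_one_of_pow h (congrArg Subtype.val he)

theorem inj {P : Subgroup W} (hP : IsPGroup 3 P) {a b : W} (ha : a ∈ P) (hb : b ∈ P) (h : μ a = μ b) : a = b :=
  mul_inv_eq_one.1 (C.eq_one_of_mem hP (mul_mem ha (inv_mem hb)) (mu_div (by rw [h, one_mul])))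

theorem conj_congr {a a' b : W} (h : μ a = μ a') (hb : (μ b).det = 1) : a * b * a⁻¹ = a' * b * a'⁻¹ := by
  have h1 := C.cent (a' * a⁻¹) (a * b * a⁻¹) (mu_div (by rw [h, one_mul])) (by rw [det_mu_conj, hb])
  calc a * b * a⁻¹ = (a * b * a⁻¹ * (a' * a⁻¹)) * (a' * a⁻¹)⁻¹ := by group
    _ = a' * b * a'⁻¹ := by rw [← h1]; group

theorem comm_congr {a a' b b' : W} (h : μ a = μ a') (h' : μ b = μ b') (ha : (μ a).det = 1) (hb : (μ b).det = 1) :
    ⁅a, b⁆ = ⁅a', b'⁆ := by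
  have h1 := C.conj_congr h hb
  have h2 := C.conj_congr h' (det_mu_inv (h ▸ ha : (μ a').det = 1))
  calc ⁅a, b⁆ = a' * (b * a'⁻¹ * b⁻¹) := by rw [commutatorElement_def, h1]; group
    _ = ⁅a', b'⁆ := by rw [h2, commutatorElement_def]; group

theorem comm_of_eq {a a' b : W} (h : μ a = μ a') (hb : (μ b).det = 1) (hc : a * b = b * a) : a' * b = b * a' := by
  rw [← mul_inv_eq_iff_eq_mul, ← C.conj_congr h hb, hc, mul_inv_cancel_right]

theorem comm_of_three {a b : W} (h : μ a * μ b = μ b * μ a) (h3 : μ a ^ 3 = 1) (ha : (μ a).det = 1)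
    (hb : (μ b).det = 1) : a * b = b * a := by
  have h1 : μ (a * b * a⁻¹ * b⁻¹) = 1 := mu_div (by rw [mu_conj h, one_mul])
  set c := a * b * a⁻¹ * b⁻¹ with hc
  have h2 : a * b = c * b * a := by rw [hc]; group
  have h4 : a * c = c * a := (C.cent c a h1 ha).symm
  have h5 := C.cent (a ^ 3) b (by rw [map_pow, h3]) hb
  have h6 : a ^ 3 * b = c ^ 3 * (b * a ^ 3) := by
    have e1 : ∀ x, a * (b * x) = c * (b * (a * x)) := fun x => by rw [← mul_assoc, h2]; simp only [mul_assoc]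
    have e2 : ∀ x, a * (c * x) = c * (a * x) := fun x => by rw [← mul_assoc, h4, mul_assoc]
    calc a ^ 3 * b = a * (a * (a * (b * 1))) := by simp only [pow_succ, pow_zero, one_mul, mul_assoc, mul_one]
      _ = c * (c * (c * (b * (a * (a * (a * 1)))))) := by rw [e1, e2, e2, e1, e2, e1]
      _ = c ^ 3 * (b * a ^ 3) := by simp only [pow_succ, pow_zero, one_mul, mul_assoc, mul_one]
  rw [h5] at h6
  rw [h2, C.cop c h1 (by simpa using h6.symm), one_mul]

variable [Finite W]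

theorem not_dvd : ¬ 3 ∣ Nat.card μ.ker := fun h => by
  haveI : Fact (Nat.Prime 3) := ⟨Nat.prime_three⟩
  obtain ⟨z, hz⟩ := exists_prime_orderOf_dvd_card' 3 h
  have h1 : z = 1 := Subtype.ext (C.cop z z.2 (by rw [← Subgroup.coe_pow, ← hz, pow_orderOf_eq_one]; rfl))
  rw [h1, orderOf_one] at hz
  omega

/-- a lift that commutes with a `3`-group -/
theorem exists_fixed {P : Subgroup W} (hP : IsPGroup 3 P) {M : Mt n F} (hM : IsU M) (hd : M.det = 1)
    (h : ∀ b ∈ P, μ b * M = M * μ b) : ∃ y, μ y = M ∧ ∀ b ∈ P, b * y = y * b := by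
  haveI : Fact (Nat.Prime 3) := ⟨Nat.prime_three⟩
  obtain ⟨y0, rfl⟩ := C.lift M hM hd
  letI : MulAction P {y // μ y = μ y0} :=
    { smul := fun b y => ⟨b * y * (b : W)⁻¹, mu_conj (by rw [y.2, h b b.2])⟩
      one_smul := fun y => Subtype.ext (show ((1 : P) : W) * y * ((1 : P) : W)⁻¹ = y by simp only [_root_.OneMemClass.coe_one, _root_.one_mul, _root_.inv_one, _root_.mul_one])
      mul_smul := fun a b y => Subtype.ext (show ((a * b : P) : W) * y * ((a * b : P) : W)⁻¹ =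
        a * (b * y * (b : W)⁻¹) * (a : W)⁻¹ by rw [Subgroup.coe_mul]; group) }
  have e : {y // μ y = μ y0} ≃ μ.ker :=
    { toFun := fun y => ⟨y * y0⁻¹, mu_div (by rw [y.2, one_mul])⟩
      invFun := fun z => ⟨z * y0, by rw [map_mul, MonoidHom.mem_ker.1 z.2, one_mul]⟩
      left_inv := fun y => Subtype.ext (inv_mul_cancel_right _ _)
      right_inv := fun z => Subtype.ext (mul_inv_cancel_right _ _) }
  obtain ⟨y, hy⟩ := hP.nonempty_fixed_point_of_prime_not_dvd_card {y // μ y = μ y0}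
    (by rw [Nat.card_congr e]; exact C.not_dvd)
  exact ⟨y, y.2, fun b hb => mul_inv_eq_iff_eq_mul.1 (congrArg Subtype.val (hy ⟨b, hb⟩))⟩

/-- the power of order three of an element whose image has order three -/
theorem exists_three (y : W) (hy : μ y ^ 3 = 1) : ∃ j : ℕ, μ (y ^ j) = μ y ∧ (y ^ j) ^ 3 = 1 := by
  obtain ⟨j, e, h1, h2⟩ := exists_part μ Nat.prime_three y hy
  refine ⟨j, h1, C.eq_one_of_pow (e := e) (by rw [map_pow, h1, hy]) ?_⟩
  rw [← pow_mul, mul_comm, pow_mul, h2, one_pow]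

omit [Finite W] in
/-- change of the frame -/
theorem exists_frame (S : Set W) (hc : ∀ a ∈ S, ∀ b ∈ S, μ a * μ b = μ b * μ a) (h3 : ∀ a ∈ S, μ a ^ 3 = 1) :
    ∃ μ' : W →* Mt n F, Cov μ' ∧ (∀ w (c : F), μ' w = c • (1 : Mt n F) ↔ μ w = c • (1 : Mt n F)) ∧
      (∀ w, (μ' w).det = (μ w).det) ∧ ∀ a ∈ S, ∃ d, μ' a = diagonal d := by
  obtain ⟨P, Q, hP, hQ, hPQ, hQP, H⟩ := exists_diag C.card (S := μ '' S)
    (by rintro _ ⟨a, -, rfl⟩; exact C.uni a) (by rintro _ ⟨a, ha, rfl⟩ _ ⟨b, hb, rfl⟩; exact hc a ha b hb)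
    (by rintro _ ⟨a, ha, rfl⟩; exact h3 a ha)
  have hdet : ∀ M : Mt n F, (Q * M * P).det = M.det := fun M => by
    rw [det_mul_comm, ← Matrix.mul_assoc, hPQ, Matrix.one_mul]
  have hback : ∀ M : Mt n F, P * (Q * M * P) * Q = M := fun M => by
    rw [← Matrix.mul_assoc, ← Matrix.mul_assoc, hPQ, Matrix.one_mul, Matrix.mul_assoc, hPQ, Matrix.mul_one]
  have hsc : ∀ (M : Mt n F) (c : F), Q * M * P = c • (1 : Mt n F) ↔ M = c • (1 : Mt n F) := fun M c =>
    ⟨fun e => by rw [← hback M, e, Matrix.mul_smul, Matrix.mul_one, Matrix.smul_mul, hPQ],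
      fun e => by rw [e, Matrix.mul_smul, Matrix.mul_one, Matrix.smul_mul, hQP]⟩
  let μ' : W →* Mt n F :=
    { toFun := fun w => Q * μ w * P
      map_one' := by rw [map_one, Matrix.mul_one, hQP]
      map_mul' := fun a b => by
        rw [map_mul]
        calc Q * (μ a * μ b) * P = Q * μ a * (P * Q) * μ b * P := by rw [hPQ]; simp only [Matrix.mul_assoc, Matrix.one_mul]
          _ = _ := by simp only [Matrix.mul_assoc] }
  have h1 : ∀ z, μ' z = 1 → μ z = 1 := fun z hz => by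
    simpa only [one_smul] using (hsc (μ z) 1).1 (by rw [one_smul]; exact hz)
  refine ⟨μ', ⟨C.card, fun w => (hQ.mul (C.uni w)).mul hP, fun M hM hd => ?_,
    fun z w hz hw => C.cent z w (h1 z hz) ((hdet _).symm.trans hw), fun z hz => C.cop z (h1 z hz)⟩,
    fun w c => hsc _ c, fun w => hdet _, fun a ha => H _ ⟨a, ha, rfl⟩⟩
  obtain ⟨w, hw⟩ := C.lift (P * M * Q) ((hP.mul hM).mul hQ)
    (by rw [det_mul_comm, ← Matrix.mul_assoc, hQP, Matrix.one_mul, hd])
  refine ⟨w, ?_⟩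
  show Q * μ w * P = M
  rw [hw, ← Matrix.mul_assoc, ← Matrix.mul_assoc, hQP, Matrix.one_mul, Matrix.mul_assoc, hQP, Matrix.mul_one]

/-- a `3`-group of diagonal matrices -/
theorem card_le {T : Subgroup W} (hT : IsPGroup 3 T) (hd : ∀ a ∈ T, ∃ d, μ a = diagonal d) : Nat.card T ≤ 3 ^ n := by
  choose d hd using hd
  have h0 : ∀ a ha i, d a ha i ≠ 0 := fun a ha => IsU.diag_ne C.card (hd a ha ▸ C.uni a)
  have := Nat.card_le_card_of_injective (fun (a : T) (i : Fin n) => Units.mk0 _ (h0 a a.2 i)) fun a b e =>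
    Subtype.ext (C.inj hT a.2 b.2 (by
      rw [hd a a.2, hd b b.2]
      exact congrArg diagonal (funext fun i => congrArg Units.val (congrFun e i))))
  rwa [Nat.card_fun, card_units C.card, Nat.card_fin] at this

/-- a `3`-group of scalar matrices -/
theorem exists_not_sc (i0 : Fin n) {T : Subgroup W} (hT : IsPGroup 3 T) (h : 3 < Nat.card T) : ∃ a ∈ T, ¬ Sc (μ a) := by
  by_contra! H
  choose c hc using H
  have h0 : ∀ a ha, c a ha ≠ 0 := fun a ha e => (C.uni a).det_ne C.card (by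
    haveI : Nonempty (Fin n) := ⟨i0⟩
    rw [hc a ha, e, zero_smul, det_zero])
  have := Nat.card_le_card_of_injective (fun a : T => Units.mk0 _ (h0 a a.2)) fun a b e =>
    Subtype.ext (C.inj hT a.2 b.2 (by rw [hc a a.2, hc b b.2, show c a a.2 = c b b.2 from congrArg Units.val e]))
  rw [card_units C.card] at this
  omega

end Cov

end Cfsg.Agent.TwoF.XL.Un2
end

-- part: TwoF/XL/Un2/Heis
section
/-!
# TwoF XL-Un2: the lift of the extraspecial group `2^(1 + 2(n-2))` (helper35)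

`u = e i0 + e i1`; `xx i c` are Siegel matrices attached to `u` and `c • e i`, `zz` is the transvection with centre `u`.
-/

set_option autoImplicit false
set_option linter.unusedSectionVars false

namespace Cfsg.Agent.TwoF.XL.Un2

open Module Matrix Cfsg.Agent.LieClassical.HermBasic Cfsg.Agent.LieClassical.HermSiegel Gen
open scoped commutatorElement

variable {F : Type} [Field F] [Fintype F] {n : ℕ}

/-- the isotropic vector -/
def uu (F : Type) [Field F] (i0 i1 : Fin n) : Fin n → F := Pi.single i0 1 + Pi.single i1 1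

/-- generators of the quaternion groups -/
def xx (ω : F) (i0 i1 i : Fin n) (c : F) : Mt n F := siegelMat 2 (uu F i0 i1) (Pi.single i c) ω

/-- the transvection -/
def zz (F : Type) [Field F] (i0 i1 : Fin n) : Mt n F := siegelMat 2 (uu F i0 i1) 0 1

/-- `c` at `i`, `c ^ 2` at `l` -/
def dd (i l : Fin n) (c : F) : Fin n → F := Pi.mulSingle i c * Pi.mulSingle l (c ^ 2)

theorem dd_left {i l : Fin n} (h : i ≠ l) (c : F) : dd i l c i = c := by simp [dd, Pi.mulSingle_eq_of_ne h]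

theorem dd_right {i l : Fin n} (h : i ≠ l) (c : F) : dd i l c l = c ^ 2 := by
  simp [dd, Pi.mulSingle_eq_of_ne h.symm]

theorem dd_of_ne {i l j : Fin n} (h : j ≠ i) (h' : j ≠ l) (c : F) : dd i l c j = 1 := by
  simp [dd, Pi.mulSingle_eq_of_ne h, Pi.mulSingle_eq_of_ne h']

theorem det_dd (hF : Fintype.card F = 2 ^ 2) (i l : Fin n) {c : F} (hc : c ≠ 0) :
    (diagonal (dd i l c) : Mt n F).det = 1 := by
  rw [det_diagonal]
  simp only [dd, Pi.mul_apply, Finset.prod_mul_distrib, Finset.prod_pi_mulSingle', Finset.mem_univ, if_true]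
  rw [← pow_succ', pow_three hF hc]

theorem dd_ne (hF : Fintype.card F = 2 ^ 2) (i l : Fin n) {c : F} (hc : c ≠ 0) (j : Fin n) : dd i l c j ≠ 0 := by
  have := det_dd hF i l hc
  rw [det_diagonal] at this
  exact Finset.prod_ne_zero_iff.1 (this ▸ one_ne_zero) j (Finset.mem_univ j)

theorem dd_perm (σ : Equiv.Perm (Fin n)) (i l : Fin n) (c : F) :
    (fun j => dd i l c (σ⁻¹ j)) = dd (σ i) (σ l) c := by
  ext j
  simp only [dd, Pi.mul_apply, Pi.mulSingle_apply, Equiv.Perm.inv_eq_iff_eq]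

theorem exists_idx (hn : 5 ≤ n) (a b c d : Fin n) : ∃ l, l ≠ a ∧ l ≠ b ∧ l ≠ c ∧ l ≠ d := by
  obtain ⟨l, -, hl⟩ := Finset.exists_mem_notMem_of_card_lt_card (s := {a, b, c, d}) (t := Finset.univ)
    (Finset.card_le_four.trans_lt (by rw [Finset.card_univ, Fintype.card_fin]; omega))
  exact ⟨l, by simpa only [Finset.mem_insert, Finset.mem_singleton, not_or] using hl⟩

theorem diag_single (d : Fin n → F) (i : Fin n) (c : F) : diagonal d *ᵥ Pi.single i c = Pi.single i (d i * c) :=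
  diagonal_mulVec_single d i c

section Std

variable {ω : F} (h : F4 ω) {i0 i1 : Fin n} (h01 : i0 ≠ i1)
include h h01

theorem iso_uu : hermForm n F 2 (uu F i0 i1) (uu F i0 i1) = 0 := iso_pair h.card h01 one_ne_zero

theorem isS_x {i : Fin n} (hi : i ≠ i0 ∧ i ≠ i1) {c : F} (hc : c ≠ 0) :
    IsSiegel 2 (uu F i0 i1) (Pi.single i c) ω := by
  refine ⟨iso_uu h h01, ?_, ?_⟩
  · rw [uu, herm_pair h.card, Pi.single_eq_of_ne hi.1.symm, Pi.single_eq_of_ne hi.2.symm, zero_mul, add_zero]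
  · rw [herm_single_left, Pi.single_eq_same]
    linear_combination h.om + pow_three h.card hc

theorem isU_x {i : Fin n} (hi : i ≠ i0 ∧ i ≠ i1) {c : F} (hc : c ≠ 0) : IsU (xx ω i0 i1 i c) :=
  siegelMat_herm h.card (isS_x h h01 hi hc)

theorem det_x {i : Fin n} (hi : i ≠ i0 ∧ i ≠ i1) {c : F} (hc : c ≠ 0) : (xx ω i0 i1 i c).det = 1 :=
  siegelMat_det h.card (isS_x h h01 hi hc)

theorem det_z : (zz F i0 i1).det = 1 := siegelMat_det h.card (isS_tv h.card (iso_uu h h01))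

theorem x_mul {i : Fin n} (hi : i ≠ i0 ∧ i ≠ i1) : xx ω i0 i1 i 1 * xx ω i0 i1 i ω = xx ω i0 i1 i (ω ^ 2) := by
  rw [xx, xx, xx, sm_mul h.card (isS_x h h01 hi one_ne_zero) (isS_x h h01 hi h.ne_zero), ← Pi.single_add,
    herm_single_left, Pi.single_eq_same]
  congr 2
  · linear_combination h.om - ω ^ 2 * h.two
  · ring

theorem z_mul {i : Fin n} (hi : i ≠ i0 ∧ i ≠ i1) :
    xx ω i0 i1 i 1 * xx ω i0 i1 i ω = zz F i0 i1 * (xx ω i0 i1 i ω * xx ω i0 i1 i 1) := by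
  rw [zz, xx, xx, sm_mul h.card (isS_x h h01 hi one_ne_zero) (isS_x h h01 hi h.ne_zero),
    sm_mul h.card (isS_x h h01 hi h.ne_zero) (isS_x h h01 hi one_ne_zero),
    sm_mul h.card (isS_tv h.card (iso_uu h h01)) ((isS_x h h01 hi h.ne_zero).mul h.card (isS_x h h01 hi one_ne_zero)),
    zero_add, herm_zero_right h.card, herm_single_left, herm_single_left, Pi.single_eq_same, Pi.single_eq_same,
    add_comm (Pi.single i ω : Fin n → F)]
  congr 1
  linear_combination h.om - (1 + ω) * h.two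

theorem z_comm {i : Fin n} (hi : i ≠ i0 ∧ i ≠ i1) {c : F} (hc : c ≠ 0) :
    zz F i0 i1 * xx ω i0 i1 i c = xx ω i0 i1 i c * zz F i0 i1 := by
  rw [zz, xx, sm_mul h.card (isS_tv h.card (iso_uu h h01)) (isS_x h h01 hi hc),
    sm_mul h.card (isS_x h h01 hi hc) (isS_tv h.card (iso_uu h h01)), zero_add, add_zero, herm_zero_right h.card,
    herm_zero_left, add_comm]

theorem x_comm {i j : Fin n} (hi : i ≠ i0 ∧ i ≠ i1) (hj : j ≠ i0 ∧ j ≠ i1) (hij : i ≠ j) {c c' : F} (hc : c ≠ 0)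
    (hc' : c' ≠ 0) : xx ω i0 i1 i c * xx ω i0 i1 j c' = xx ω i0 i1 j c' * xx ω i0 i1 i c := by
  rw [xx, xx, sm_mul h.card (isS_x h h01 hi hc) (isS_x h h01 hj hc'),
    sm_mul h.card (isS_x h h01 hj hc') (isS_x h h01 hi hc), herm_single_left, herm_single_left,
    Pi.single_eq_of_ne hij, Pi.single_eq_of_ne hij.symm, add_comm (Pi.single i c : Fin n → F)]
  simp

theorem not_sc_z : ¬ Sc (zz F i0 i1) := by
  rintro ⟨c, hc⟩
  have e := congrArg (fun M : Mt n F => (M *ᵥ Pi.single i0 1) i1) hc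
  simp only [zz, tv_mulVec h.card, uu, herm_pair h.card, smul_mulVec, one_mulVec, Pi.add_apply, Pi.smul_apply,
    Pi.single_eq_same, Pi.single_eq_of_ne h01.symm] at e
  simp at e

omit h01 in
theorem diag_uu {d : Fin n → F} (hd : d i1 = d i0) : diagonal d *ᵥ uu F i0 i1 = d i0 • uu F i0 i1 := by
  rw [uu, mulVec_add, diag_single, diag_single, hd, smul_add, ← Pi.single_smul, ← Pi.single_smul, smul_eq_mul]

omit h01 in
theorem diag_x {d : Fin n → F} (h0 : ∀ j, d j ≠ 0) (hd : d i1 = d i0) (i : Fin n) {c c' : F}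
    (hc : d i0 ^ 2 * (d i * c) = c') : diagonal d * xx ω i0 i1 i c = xx ω i0 i1 i c' * diagonal d := by
  rw [xx, sm_conj' h.card (isU_diag h.card h0) (h0 i0) (diag_uu h hd), diag_single, ← Pi.single_smul, smul_eq_mul, hc,
    xx]

omit h01 in
theorem diag_z {d : Fin n → F} (h0 : ∀ j, d j ≠ 0) (hd : d i1 = d i0) :
    diagonal d * zz F i0 i1 = zz F i0 i1 * diagonal d := by
  rw [zz, sm_conj' h.card (isU_diag h.card h0) (h0 i0) (diag_uu h hd), mulVec_zero, smul_zero]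

omit h h01 in
theorem pm_uu {σ : Equiv.Perm (Fin n)} (h0 : σ i0 = i0) (h1 : σ i1 = i1) : pm F σ *ᵥ uu F i0 i1 = uu F i0 i1 := by
  rw [uu, mulVec_add, pm_single, pm_single, h0, h1]

omit h h01 in
theorem pm_x {σ : Equiv.Perm (Fin n)} (h0 : σ i0 = i0) (h1 : σ i1 = i1) (i : Fin n) (c : F) :
    pm F σ * xx ω i0 i1 i c = xx ω i0 i1 (σ i) c * pm F σ := by
  rw [xx, sm_conj (isU_pm σ), pm_uu h0 h1, pm_single, xx]

omit h h01 in
theorem pm_z {σ : Equiv.Perm (Fin n)} (h0 : σ i0 = i0) (h1 : σ i1 = i1) : pm F σ * zz F i0 i1 = zz F i0 i1 * pm F σ := by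
  rw [zz, sm_conj (isU_pm σ), pm_uu h0 h1, mulVec_zero]

end Std

variable {W : Type} [Group W] {μ : W →* Mt n F}

theorem mu_comm_inv {a : W} {M : Mt n F} (h : μ a * M = M * μ a) : μ a⁻¹ * M = M * μ a⁻¹ := by
  calc μ a⁻¹ * M = μ a⁻¹ * (M * μ a) * μ a⁻¹ := by
        rw [mul_assoc, mul_assoc, ← map_mul, mul_inv_cancel, map_one, mul_one]
    _ = M * μ a⁻¹ := by rw [← h, ← mul_assoc, ← map_mul, inv_mul_cancel, map_one, one_mul]

/-- the canonical lift of the transvection -/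
structure Hz (μ : W →* Mt n F) (ω : F) (i0 i1 : Fin n) (z : W) : Prop where
  mu : μ z = zz F i0 i1
  sq : z * z = 1
  comm : ∀ i, i ≠ i0 ∧ i ≠ i1 → ∀ x y, μ x = xx ω i0 i1 i 1 → μ y = xx ω i0 i1 i ω → ⁅x, y⁆ = z

namespace Cov

variable (C : Cov μ) {ω : F} (h : F4 ω) {i0 i1 : Fin n} (h01 : i0 ≠ i1)
include C h h01

theorem comm_Q {i l : Fin n} (hi : i ≠ i0 ∧ i ≠ i1) (hl : l ≠ i0 ∧ l ≠ i1) (hil : i ≠ l) {b : W} (hb : (μ b).det = 1)
    (h1 : diagonal (dd i l ω) * μ b = μ b * diagonal (dd i l ω)) (h2 : xx ω i0 i1 i ω * μ b = μ b * xx ω i0 i1 i ω)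
    {x y : W} (hx : μ x = xx ω i0 i1 i 1) (hy : μ y = xx ω i0 i1 i ω) : x * b = b * x ∧ y * b = b * y := by
  have hd := dd_ne h.card i l h.ne_zero
  obtain ⟨t, ht⟩ := C.lift _ (isU_diag h.card hd) (det_dd h.card i l h.ne_zero)
  have ht3 : μ t ^ 3 = 1 := ht ▸ diag_pow_three h.card hd
  have htd : (μ t).det = 1 := ht ▸ det_dd h.card i l h.ne_zero
  have e0 : dd i l ω i0 = 1 := dd_of_ne hi.1.symm hl.1.symm _
  have e1 : dd i l ω i1 = dd i l ω i0 := (dd_of_ne hi.2.symm hl.2.symm _).trans e0.symm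
  have c1 : Commute t b := C.comm_of_three (by rw [ht, h1]) ht3 htd hb
  have c2 : Commute (y * t * y⁻¹) b := C.comm_of_three (by
      have : μ (y⁻¹) * μ b = μ b * μ (y⁻¹) := mu_comm_inv (hy ▸ h2)
      rw [map_mul, map_mul, mul_assoc, this, ← mul_assoc, mul_assoc (μ y), ht, h1, ← mul_assoc, hy, h2]
      simp only [mul_assoc])
    (by rw [← map_pow, conj_pow]; exact mu_conj (by rw [map_pow, ht3, mul_one, one_mul]))
    (by rw [det_mu_conj, htd]) hb
  have c3 : Commute x b := C.comm_of_eq (a := t * (y * t * y⁻¹)⁻¹) (by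
    rw [show t * (y * t * y⁻¹)⁻¹ = t * y * t⁻¹ * y⁻¹ by group, hx]
    exact mu_div (by
      rw [hy, x_mul h h01 hi]
      exact mu_conj (by rw [ht, hy]; exact diag_x h hd e1 i (by rw [e0, dd_left hil]; ring)))) hb
    (c1.mul_left c2.inv_left)
  exact ⟨c3, C.comm_of_eq (a := t * x * t⁻¹) (by
    rw [hy]
    exact mu_conj (by rw [ht, hx]; exact diag_x h hd e1 i (by rw [e0, dd_left hil]; ring))) hb
    ((c1.mul_left c3).mul_left c1.inv_left)⟩

theorem exists_hz (hn : 5 ≤ n) : ∃ z, Hz μ ω i0 i1 z := by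
  obtain ⟨i, hi0, hi1, -, -⟩ := exists_idx hn i0 i1 i0 i1
  have hi : i ≠ i0 ∧ i ≠ i1 := ⟨hi0, hi1⟩
  obtain ⟨x, hx⟩ := C.lift _ (isU_x h h01 hi one_ne_zero) (det_x h h01 hi one_ne_zero)
  obtain ⟨y, hy⟩ := C.lift _ (isU_x h h01 hi h.ne_zero) (det_x h h01 hi h.ne_zero)
  have hxd : (μ x).det = 1 := hx ▸ det_x h h01 hi one_ne_zero
  have hyd : (μ y).det = 1 := hy ▸ det_x h h01 hi h.ne_zero
  have hz : μ ⁅x, y⁆ = zz F i0 i1 := by
    rw [show ⁅x, y⁆ = x * y * (y * x)⁻¹ by rw [commutatorElement_def]; group]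
    exact mu_div (by rw [map_mul, map_mul, hx, hy, z_mul h h01 hi])
  refine ⟨⁅x, y⁆, hz, ?_, fun j hj x' y' hx' hy' => ?_⟩
  · obtain ⟨l, hl0, hl1, hli, -⟩ := exists_idx hn i0 i1 i i
    have hd := dd_ne h.card i l h.ne_zero
    obtain ⟨t, ht⟩ := C.lift _ (isU_diag h.card hd) (det_dd h.card i l h.ne_zero)
    have e0 : dd i l ω i0 = 1 := dd_of_ne hi.1.symm hl0.symm _
    have e1 : dd i l ω i1 = dd i l ω i0 := (dd_of_ne hi.2.symm hl1.symm _).trans e0.symm
    have c1 : t * ⁅x, y⁆ = ⁅x, y⁆ * t := C.comm_of_three (by rw [ht, hz, diag_z h hd e1])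
      (ht ▸ diag_pow_three h.card hd) (ht ▸ det_dd h.card i l h.ne_zero) (det_mu_comm _ _)
    have c2 : ⁅t * x * t⁻¹, t * y * t⁻¹⁆ = ⁅y, x * y⁆ := C.comm_congr
      (by rw [hy]; exact mu_conj (by rw [ht, hx]; exact diag_x h hd e1 i (by rw [e0, dd_left hli.symm]; ring)))
      (by
        rw [map_mul μ x y, hx, hy, x_mul h h01 hi]
        exact mu_conj (by rw [ht, hy]; exact diag_x h hd e1 i (by rw [e0, dd_left hli.symm]; ring)))
      (by rw [det_mu_conj, hxd]) (by rw [det_mu_conj, hyd])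
    rw [← conjugate_commutatorElement, c1, mul_inv_cancel_right] at c2
    nth_rewrite 1 [c2]
    simp only [commutatorElement_def]
    group
  · by_cases hij : i = j
    · subst hij
      exact C.comm_congr (hx'.trans hx.symm) (hy'.trans hy.symm) (hx' ▸ det_x h h01 hi one_ne_zero)
        (hy' ▸ det_x h h01 hi h.ne_zero)
    obtain ⟨l, hl0, hl1, hli, hlj⟩ := exists_idx hn i0 i1 i j
    set σ := Equiv.swap i l * Equiv.swap i j with hσ
    have s3 : σ ^ 3 = 1 := by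
      rw [← (Equiv.Perm.isThreeCycle_swap_mul_swap_same hli.symm hij hlj).orderOf]
      exact pow_orderOf_eq_one _
    have s0 : σ i0 = i0 := by
      rw [hσ, Equiv.Perm.mul_apply, Equiv.swap_apply_of_ne_of_ne hi0.symm hj.1.symm,
        Equiv.swap_apply_of_ne_of_ne hi0.symm hl0.symm]
    have s1 : σ i1 = i1 := by
      rw [hσ, Equiv.Perm.mul_apply, Equiv.swap_apply_of_ne_of_ne hi1.symm hj.2.symm,
        Equiv.swap_apply_of_ne_of_ne hi1.symm hl1.symm]
    have si : σ i = j := by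
      rw [hσ, Equiv.Perm.mul_apply, Equiv.swap_apply_left, Equiv.swap_apply_of_ne_of_ne (Ne.symm hij) hlj.symm]
    obtain ⟨p, hp⟩ := C.lift _ (isU_pm σ) (det_pm h.card σ)
    have c1 : p * ⁅x, y⁆ = ⁅x, y⁆ * p := C.comm_of_three (by rw [hp, hz, pm_z s0 s1])
      (by rw [hp, ← pm_pow, s3, pm_one]) (hp ▸ det_pm h.card σ) (det_mu_comm _ _)
    have c2 : ⁅p * x * p⁻¹, p * y * p⁻¹⁆ = ⁅x', y'⁆ := C.comm_congr
      (by rw [hx']; exact mu_conj (by rw [hp, hx, pm_x s0 s1, si]))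
      (by rw [hy']; exact mu_conj (by rw [hp, hy, pm_x s0 s1, si]))
      (by rw [det_mu_conj, hxd]) (by rw [det_mu_conj, hyd])
    rw [← c2, ← conjugate_commutatorElement, c1, mul_inv_cancel_right]

theorem comm_z (hn : 5 ≤ n) {z : W} (H : Hz μ ω i0 i1 z) {i : Fin n} (hi : i ≠ i0 ∧ i ≠ i1) {x y : W}
    (hx : μ x = xx ω i0 i1 i 1) (hy : μ y = xx ω i0 i1 i ω) : x * z = z * x ∧ y * z = z * y := by
  obtain ⟨l, hl0, hl1, hli, -⟩ := exists_idx hn i0 i1 i i
  refine C.comm_Q h h01 hi ⟨hl0, hl1⟩ hli.symm (H.mu ▸ det_z h h01) ?_ ?_ hx hy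
  · rw [H.mu, diag_z h (dd_ne h.card i l h.ne_zero)
      ((dd_of_ne hi.2.symm hl1.symm _).trans (dd_of_ne hi.1.symm hl0.symm _).symm)]
  · rw [H.mu, z_comm h h01 hi h.ne_zero]

theorem comm_ij (hn : 5 ≤ n) {i j : Fin n} (hi : i ≠ i0 ∧ i ≠ i1) (hj : j ≠ i0 ∧ j ≠ i1) (hij : i ≠ j) {x y b : W}
    (hx : μ x = xx ω i0 i1 i 1) (hy : μ y = xx ω i0 i1 i ω) {c : F} (hc : c ≠ 0) (hb : μ b = xx ω i0 i1 j c) :
    x * b = b * x := by
  obtain ⟨l, hl0, hl1, hli, hlj⟩ := exists_idx hn i0 i1 i j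
  have e0 : dd i l ω i0 = 1 := dd_of_ne hi.1.symm hl0.symm _
  refine (C.comm_Q h h01 hi ⟨hl0, hl1⟩ hli.symm (hb ▸ det_x h h01 hj hc) ?_ ?_ hx hy).1
  · rw [hb]
    exact diag_x h (dd_ne h.card i l h.ne_zero) ((dd_of_ne hi.2.symm hl1.symm _).trans e0.symm) j
      (by rw [e0, dd_of_ne hij.symm hlj.symm]; ring)
  · rw [hb, x_comm h h01 hi hj hij h.ne_zero hc]

/-- `z` lies in the group generated by `a` and a conjugate of `a` -/
theorem key {z : W} (H : Hz μ ω i0 i1 z) {i : Fin n} (hi : i ≠ i0 ∧ i ≠ i1) {a y : W} {d : Fin n → F}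
    (ha : μ a = diagonal d) (hd : d i1 = d i0) (hne : d i ≠ d i0) (hy : μ y = xx ω i0 i1 i ω) {N : Subgroup W}
    (h1 : a ∈ N) (h2 : y * a * y⁻¹ ∈ N) : z ∈ N := by
  have aux : ∀ (a : W) (d : Fin n → F), μ a = diagonal d → d i1 = d i0 → d i = d i0 * ω → a ∈ N → y * a * y⁻¹ ∈ N →
      z ∈ N := by
    intro a d ha hd he h1 h2
    have h0 := IsU.diag_ne h.card (ha ▸ C.uni a)
    have h3 := pow_three h.card (h0 i0)
    have e1 : μ (a * y * a⁻¹ * y⁻¹) = xx ω i0 i1 i 1 := mu_div (by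
      rw [hy, x_mul h h01 hi]
      exact mu_conj (by rw [ha, hy]; exact diag_x h h0 hd i (by rw [he]; linear_combination ω ^ 2 * h3)))
    have e2 : μ (a * (a * y * a⁻¹ * y⁻¹) * a⁻¹) = xx ω i0 i1 i ω :=
      mu_conj (by rw [ha, e1]; exact diag_x h h0 hd i (by rw [he]; linear_combination ω * h3))
    have hg : a * y * a⁻¹ * y⁻¹ ∈ N := by
      rw [show a * y * a⁻¹ * y⁻¹ = a * (y * a * y⁻¹)⁻¹ by group]
      exact mul_mem h1 (inv_mem h2)
    have hg' : a * (a * y * a⁻¹ * y⁻¹) * a⁻¹ ∈ N := mul_mem (mul_mem h1 hg) (inv_mem h1)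
    rw [← H.comm i hi _ _ e1 e2, commutatorElement_def]
    exact mul_mem (mul_mem (mul_mem hg hg') (inv_mem hg)) (inv_mem hg')
  have h0 := IsU.diag_ne h.card (ha ▸ C.uni a)
  have h3 := pow_three h.card (h0 i0)
  rcases h.cases (mul_ne_zero (h0 i) (pow_ne_zero 2 (h0 i0))) with e | e | e
  · exact (hne (by linear_combination d i0 * e - d i * h3)).elim
  · exact aux a d ha hd (by linear_combination d i0 * e - d i * h3) h1 h2
  · refine aux (a * a) (fun j => d j * d j) (by rw [map_mul, ha, diagonal_mul_diagonal]) (by rw [hd]) ?_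
      (mul_mem h1 h1) (by rw [show y * (a * a) * y⁻¹ = y * a * y⁻¹ * (y * a * y⁻¹) by group]; exact mul_mem h2 h2)
    have e' : d i = d i0 * ω ^ 2 := by linear_combination d i0 * e - d i * h3
    rw [e']
    linear_combination d i0 ^ 2 * ω * h.three

end Cov

end Cfsg.Agent.TwoF.XL.Un2
end

-- part: TwoF/XL/Un2/Bnd
section
/-!
# TwoF XL-Un2: lower bounds for codimensions (helper35)
-/

set_option autoImplicit false
set_option linter.unusedSectionVars false

namespace Cfsg.Agent.TwoF.XL.Un2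

open Module Matrix Cfsg.Agent.LieClassical.HermBasic Cfsg.Agent.LieClassical.HermSiegel Gen
open scoped commutatorElement

variable {F : Type} [Field F] [Fintype F] {n : ℕ} {W : Type} [Group W] [Finite W] {μ : W →* Mt n F}
  {k : Type*} [Field k] {V : Type*} [AddCommGroup V] [Module k V] [FiniteDimensional k V] {ρ : Representation k W V}

/-- the kernel of `ρ` consists of scalars -/
def Fth (μ : W →* Mt n F) (ρ : Representation k W V) : Prop := ∀ w, ρ w = 1 → Sc (μ w)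

/-- the `-1`-eigenspace -/
def neg (ρ : Representation k W V) (z : W) : Submodule k V := LinearMap.ker (ρ z + 1)

theorem mem_neg {z : W} {v : V} : v ∈ neg ρ z ↔ ρ z v = -v := by
  rw [neg, LinearMap.mem_ker, LinearMap.add_apply, Module.End.one_apply, add_eq_zero_iff_eq_neg]

theorem neg_inv {z y : W} (h : y * z = z * y) {v : V} (hv : v ∈ neg ρ z) : ρ y v ∈ neg ρ z := by
  rw [mem_neg] at hv ⊢
  rw [← rho_mul, ← h, rho_mul, hv, map_neg]

theorem finrank_le_cod_add (U : Submodule k V) (B : Subgroup W) :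
    finrank k U ≤ cod ρ B + finrank k ↥(U ⊓ fx ρ B) := by
  have h1 := codOn_add (ρ := ρ) U B
  have h2 := codOn_le_cod (ρ := ρ) U B
  omega

namespace Cov

variable (C : Cov μ) (hn : 5 ≤ n) (h2 : (2 : k) ≠ 0)

section Std

variable {ω : F} (h : F4 ω) {i0 i1 : Fin n} (h01 : i0 ≠ i1) {z : W} (H : Hz μ ω i0 i1 z)
include C hn h2 h h01 H

theorem le_neg [IsAlgClosed k] (hf : Fth μ ρ) : 2 ^ (n - 2) ≤ finrank k (neg ρ z) := by
  choose X hX using fun i : {i : Fin n // i ≠ i0 ∧ i ≠ i1} =>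
    C.lift _ (isU_x h h01 i.2 one_ne_zero) (det_x h h01 i.2 one_ne_zero)
  choose Y hY using fun i : {i : Fin n // i ≠ i0 ∧ i ≠ i1} =>
    C.lift _ (isU_x h h01 i.2 h.ne_zero) (det_x h h01 i.2 h.ne_zero)
  have hc : (Finset.univ : Finset {i : Fin n // i ≠ i0 ∧ i ≠ i1}).card = n - 2 := by
    rw [Finset.card_univ, Fintype.card_subtype,
      show (Finset.univ.filter fun i : Fin n => i ≠ i0 ∧ i ≠ i1) = (Finset.univ.erase i1).erase i0 by ext; simp only [_root_.ne_eq, _root_.Finset.mem_filter, _root_.Finset.mem_univ, _root_.true_and, _root_.Finset.mem_erase, _root_.and_true],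
      Finset.card_erase_of_mem (by simpa only [_root_.Finset.mem_erase, _root_.ne_eq, _root_.Finset.mem_univ, _root_.and_true] using h01), Finset.card_erase_of_mem (Finset.mem_univ _), Finset.card_univ,
      Fintype.card_fin]
    omega
  rw [← hc]
  refine anti h2 (fun i => ρ (X i)) (fun i => ρ (Y i)) (fun i => rho_injective ρ _) (fun i => rho_injective ρ _)
    (fun i j hij v => ?_) (fun i j hij v => ?_) _ _ (fun e => ?_)
    (fun i _ v hv => neg_inv (C.comm_z h h01 hn H i.2 (hX i) (hY i)).1 hv)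
    (fun i _ v hv => neg_inv (C.comm_z h h01 hn H i.2 (hX i) (hY i)).2 hv) (fun i _ v hv => ?_)
  · rw [← rho_mul, ← rho_mul,
      C.comm_ij h h01 hn i.2 j.2 (fun e => hij (Subtype.ext e)) (hX i) (hY i) one_ne_zero (hX j)]
  · rw [← rho_mul, ← rho_mul,
      C.comm_ij h h01 hn i.2 j.2 (fun e => hij (Subtype.ext e)) (hX i) (hY i) h.ne_zero (hY j)]
  · refine not_sc_z h h01 (H.mu ▸ hf z (LinearMap.ext fun v => ?_))
    have : ρ z v - v ∈ neg ρ z := by rw [mem_neg, map_sub, ← rho_mul, H.sq, rho_one, neg_sub]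
    rw [e, Submodule.mem_bot, sub_eq_zero] at this
    exact this
  · obtain ⟨c1, c2⟩ := C.comm_z h h01 hn H i.2 (hX i) (hY i)
    rw [← mem_neg.1 (neg_inv c2 (neg_inv c1 hv)), ← rho_mul, ← rho_mul, ← rho_mul,
      ← H.comm i i.2 _ _ (hX i) (hY i), commutatorElement_def]
    congr 2
    group

/-- **halving** -/
theorem half {i : Fin n} (hi : i ≠ i0 ∧ i ≠ i1) {B : Subgroup W} (hB : IsPGroup 3 B)
    (hd : ∀ b ∈ B, ∃ d, μ b = diagonal d ∧ d i1 = d i0 ∧ d i = d i0) {a : W} {d : Fin n → F}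
    (ha : μ a = diagonal d) (hd1 : d i1 = d i0) (hne : d i ≠ d i0) :
    2 * finrank k ↥(neg ρ z ⊓ fx ρ B ⊓ fx ρ (Subgroup.zpowers a)) ≤ finrank k ↥(neg ρ z ⊓ fx ρ B) := by
  obtain ⟨y, hy, hyB⟩ := C.exists_fixed hB (isU_x h h01 hi h.ne_zero) (det_x h h01 hi h.ne_zero) fun b hb => by
    obtain ⟨e, he, e1, e2⟩ := hd b hb
    have h0 := IsU.diag_ne h.card (he ▸ C.uni b)
    rw [he]
    exact diag_x h h0 e1 i (by rw [e2]; linear_combination ω * pow_three h.card (h0 i0))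
  obtain ⟨x, hx⟩ := C.lift _ (isU_x h h01 hi one_ne_zero) (det_x h h01 hi one_ne_zero)
  refine two_mul_le (E' := (neg ρ z ⊓ fx ρ B ⊓ fx ρ (Subgroup.zpowers a)).map (ρ y)) inf_le_left ?_ ?_
    (finrank_map_rho y _).ge
  · rintro _ ⟨v, hv, rfl⟩
    exact ⟨neg_inv (C.comm_z h h01 hn H hi hx hy).2 hv.1.1, fun b hb => by
      rw [← rho_mul, hyB b hb, rho_mul, hv.1.2 b hb]⟩
  · rw [Submodule.eq_bot_iff]
    rintro _ ⟨hw, v, hv, rfl⟩
    have e : z ∈ stab ρ (ρ y v) := C.key h h01 H hi ha hd1 hne hy (mem_fx_zpowers.1 hw.2)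
      (by rw [mem_stab, rho_mul, rho_inv_apply, rho_mul, mem_fx_zpowers.1 hv.2])
    rw [mem_stab, mem_neg.1 hw.1.1] at e
    have e2 : (2 : k) • ρ y v = 0 := by
      rw [two_smul]
      nth_rewrite 1 [← e]
      exact neg_add_cancel _
    exact (smul_eq_zero.1 e2).resolve_left h2

theorem steps (t : ℕ) : ∀ B : Subgroup W, IsPGroup 3 B → (∀ b ∈ B, ∃ d, μ b = diagonal d ∧ d i0 = 1 ∧ d i1 = 1) →
    3 ^ t ≤ Nat.card B → 2 ^ t * finrank k ↥(neg ρ z ⊓ fx ρ B) ≤ finrank k (neg ρ z) := by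
  induction t with
  | zero => exact fun B _ _ _ => by simpa only [_root_.pow_zero, _root_.one_mul] using Submodule.finrank_mono inf_le_left
  | succ t ih =>
    intro B hB hd hc
    obtain ⟨a, ha, ha1⟩ : ∃ a ∈ B, a ≠ 1 := by
      by_contra! e
      rw [(Subgroup.eq_bot_iff_forall B).2 e, Subgroup.card_bot] at hc
      have := Nat.one_lt_pow (n := t + 1) (a := 3) (by omega) (by omega)
      omega
    obtain ⟨d, hda, e0, e1⟩ := hd a ha
    obtain ⟨i, hi⟩ : ∃ i, d i ≠ 1 := by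
      by_contra! e
      exact ha1 (C.eq_one_of_mem hB ha (by rw [hda, funext e, diagonal_one]))
    obtain ⟨B', hle, hm, hcard⟩ := exists_sub (card_units h.card) B (fun w => μ w i i) (fun a ha b hb => by
      obtain ⟨d, e, -⟩ := hd a ha
      obtain ⟨d', e', -⟩ := hd b hb
      simp only [map_mul, e, e', diagonal_mul_diagonal, diagonal_apply_eq]) (by simp)
    have h5 := ih B' (hB.to_le hle) (fun b hb => hd b (hle hb)) (by rw [pow_succ] at hc; omega)
    have h6 := C.half (ρ := ρ) hn h2 h h01 H (i := i) ⟨fun e => hi (e ▸ e0), fun e => hi (e ▸ e1)⟩ (hB.to_le hle)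
      (fun b hb => by
        obtain ⟨d', e', f0, f1⟩ := hd b (hle hb)
        refine ⟨d', e', f1.trans f0.symm, ?_⟩
        have := ((hm b).1 hb).2
        rw [e', diagonal_apply_eq] at this
        exact this.trans f0.symm) hda (e1.trans e0.symm) (e0 ▸ hi)
    have h7 : finrank k ↥(neg ρ z ⊓ fx ρ B) ≤ finrank k ↥(neg ρ z ⊓ fx ρ B' ⊓ fx ρ (Subgroup.zpowers a)) :=
      Submodule.finrank_mono (le_inf (inf_le_inf_left _ (fx_anti hle))
        (inf_le_right.trans (fx_anti (Subgroup.zpowers_le.2 ha))))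
    calc 2 ^ (t + 1) * finrank k ↥(neg ρ z ⊓ fx ρ B) = 2 ^ t * (2 * finrank k ↥(neg ρ z ⊓ fx ρ B)) := by ring
      _ ≤ 2 ^ t * finrank k ↥(neg ρ z ⊓ fx ρ B') := Nat.mul_le_mul_left _ (by omega)
      _ ≤ _ := h5

end Std

variable [IsAlgClosed k] (hf : Fth μ ρ)
include C hn h2 hf

/-- a diagonal group of order `3 ^ t` that fixes two vectors of the basis -/
theorem lb_steps {i0 i1 : Fin n} (h01 : i0 ≠ i1) {t : ℕ} {B : Subgroup W} (hB : IsPGroup 3 B)
    (hd : ∀ b ∈ B, ∃ d, μ b = diagonal d ∧ d i0 = 1 ∧ d i1 = 1) (hc : 3 ^ t ≤ Nat.card B) :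
    ∃ D x, 2 ^ (n - 2) ≤ D ∧ 2 ^ t * x ≤ D ∧ D ≤ cod ρ B + x := by
  obtain ⟨ω, h⟩ := exists_F4 C.card
  obtain ⟨z, H⟩ := C.exists_hz h h01 hn
  exact ⟨_, _, C.le_neg hn h2 h h01 H hf, C.steps hn h2 h h01 H t B hB hd hc, finrank_le_cod_add _ B⟩

/-- two steps -/
theorem lb_two {i0 i1 i j : Fin n} (h01 : i0 ≠ i1) (hi : i ≠ i0 ∧ i ≠ i1) (hj : j ≠ i0 ∧ j ≠ i1) {a b : W}
    {d e : Fin n → F} (ha : μ a = diagonal d) (hb : μ b = diagonal e) (hb3 : b ^ 3 = 1) (d1 : d i1 = d i0)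
    (d2 : d i ≠ d i0) (e1 : e i1 = e i0) (e2 : e i = e i0) (e3 : e j ≠ e i0) {N : Subgroup W} (haN : a ∈ N)
    (hbN : b ∈ N) : 3 * 2 ^ (n - 2) ≤ 4 * cod ρ N := by
  haveI : Fact (Nat.Prime 3) := ⟨Nat.prime_three⟩
  obtain ⟨ω, h⟩ := exists_F4 C.card
  obtain ⟨z, H⟩ := C.exists_hz h h01 hn
  have h3 := C.le_neg hn h2 h h01 H hf
  have h4 := C.half (ρ := ρ) hn h2 h h01 H hi (B := Subgroup.zpowers b) (elemAb_isPGroup (elemAb_zpowers hb3))
    (fun c hc => by
      obtain ⟨m, rfl⟩ := (mem_powers_iff_mem_zpowers.2 hc : c ∈ Submonoid.powers b)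
      exact ⟨e ^ m, by simp only [map_pow, hb, diagonal_pow], by simp only [Pi.pow_apply, e1],
        by simp only [Pi.pow_apply, e2]⟩) ha d1 d2
  have h5 := C.half (ρ := ρ) hn h2 h h01 H hj (B := ⊥) IsPGroup.of_bot
    (fun c hc => ⟨fun _ => 1, by rw [Subgroup.mem_bot.1 hc, map_one, diagonal_one], rfl, rfl⟩) hb e1 e3
  rw [fx_bot, inf_top_eq] at h5
  have h6 := finrank_le_cod_add (ρ := ρ) (neg ρ z) N
  have h7 : finrank k ↥(neg ρ z ⊓ fx ρ N) ≤
      finrank k ↥(neg ρ z ⊓ fx ρ (Subgroup.zpowers b) ⊓ fx ρ (Subgroup.zpowers a)) :=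
    Submodule.finrank_mono (le_inf (inf_le_inf_left _ (fx_anti (Subgroup.zpowers_le.2 hbN)))
      (inf_le_right.trans (fx_anti (Subgroup.zpowers_le.2 haN))))
  omega

/-- elements whose image has order three -/
theorem lb_three {a : W} (h3 : μ a ^ 3 = 1) (hs : ¬ Sc (μ a)) : 2 ^ (n - 2) ≤ 2 * cod ρ (Subgroup.zpowers a) := by
  obtain ⟨μ', C', hsc, -, hd⟩ := C.exists_frame {a} (by rintro _ rfl _ rfl; rfl) (by rintro _ rfl; exact h3)
  obtain ⟨d, hd⟩ := hd a rfl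
  have hf' : Fth μ' ρ := fun w hw => (hf w hw).imp fun c hc => (hsc w c).2 hc
  have h0 := IsU.diag_ne C.card (hd ▸ C'.uni a)
  obtain ⟨i0, i1, e, h01⟩ := (Function.not_injective_iff (f := fun i => Units.mk0 _ (h0 i))).1 fun hi => by
    have := Nat.card_le_card_of_injective _ hi
    rw [card_units C.card, Nat.card_fin] at this
    omega
  have e1 : d i1 = d i0 := (congrArg Units.val e).symm
  obtain ⟨i, hi⟩ : ∃ i, d i ≠ d i0 := by
    by_contra! e'
    exact hs ⟨d i0, (hsc a _).1 (by rw [hd, smul_one_eq_diagonal]; exact congrArg diagonal (funext e'))⟩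
  obtain ⟨ω, h⟩ := exists_F4 C.card
  obtain ⟨z, H⟩ := C'.exists_hz h h01 hn
  have h4 := C'.le_neg hn h2 h h01 H hf'
  have h5 := C'.half (ρ := ρ) hn h2 h h01 H (i := i) ⟨fun e => hi (e ▸ rfl), fun e => hi (e ▸ e1)⟩ (B := ⊥)
    IsPGroup.of_bot
    (fun c hc => ⟨fun _ => 1, by rw [Subgroup.mem_bot.1 hc, map_one, diagonal_one], rfl, rfl⟩) hd e1 hi
  rw [fx_bot, inf_top_eq] at h5
  have h6 := finrank_le_cod_add (ρ := ρ) (neg ρ z) (Subgroup.zpowers a)
  omega

/-- all elements that are not scalar -/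
theorem lb_any {a : W} (hs : ¬ Sc (μ a)) : 2 ^ (n - 2) ≤ 4 * cod ρ (Subgroup.zpowers a) := by
  obtain ⟨u, hu, hau⟩ := exists_iso C.card ⟨0, by omega⟩ hs
  obtain ⟨y, hy⟩ := C.lift _ (siegelMat_herm C.card (isS_tv C.card hu)) (siegelMat_det C.card (isS_tv C.card hu))
  have e : μ (a * y * a⁻¹ * y⁻¹) = siegelMat 2 (μ a *ᵥ u) 0 1 * siegelMat 2 u 0 1 := mu_div (by
    rw [hy, mul_assoc (siegelMat 2 _ 0 1), tv_sq C.card hu, mul_one]
    exact mu_conj (by rw [hy, sm_conj (C.uni a), mulVec_zero]))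
  obtain ⟨e1, e2⟩ := braid C.card hu ((C.uni a u u).trans hu) hau
  have h3 := C.lb_three hn h2 hf (e ▸ e1) (e ▸ e2)
  have h4 := cod_zpowers_commutator_le (ρ := ρ) a y
  omega

end Cov

end Cfsg.Agent.TwoF.XL.Un2
end

-- part: TwoF/XL/Un2/Big
section
/-!
# TwoF XL-Un2: no offenders for `n = 6, 7, 8` (helper35)
-/

set_option autoImplicit false
set_option linter.unusedSectionVars false

namespace Cfsg.Agent.TwoF.XL.Un2

open Module Matrix Cfsg.Agent.LieClassical.HermBasic Cfsg.Agent.LieClassical.HermSiegel Gen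
open scoped commutatorElement

variable {F : Type} [Field F] [Fintype F] {n : ℕ} {W : Type} [Group W] [Finite W] {μ : W →* Mt n F}
  {k : Type*} [Field k] {V : Type*} [AddCommGroup V] [Module k V] [FiniteDimensional k V] {ρ : Representation k W V}

/-- the preimage of an offender of order `3 ^ m` -/
structure Ofd (μ : W →* Mt n F) (ρ : Representation k W V) (P : Subgroup W) (m : ℕ) : Prop where
  pg : IsPGroup 3 P
  cube : ∀ a ∈ P, Sc (μ (a ^ 3))
  comm : ∀ a ∈ P, ∀ b ∈ P, Sc (μ ⁅a, b⁆)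
  pos : 1 ≤ m
  card : 3 ^ (m + 1) ≤ Nat.card P
  cod : cod ρ P ≤ 2 * m

theorem mu_swap (a b : W) : μ a * μ b = μ ⁅a, b⁆ * (μ b * μ a) := by
  rw [← map_mul, ← map_mul, ← map_mul, commutatorElement_def]
  congr 1
  group

theorem smul_one_apply (c : F) (i : Fin n) : (c • (1 : Mt n F)) i i = c := by simp

theorem exists_perm {a b c d : Fin n} (h : a ≠ b) (h' : c ≠ d) : ∃ σ : Equiv.Perm (Fin n), σ a = c ∧ σ b = d :=
  ⟨Equiv.swap (Equiv.swap a c b) d * Equiv.swap a c, by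
    rw [Equiv.Perm.mul_apply, Equiv.swap_apply_left, Equiv.swap_apply_of_ne_of_ne _ h']
    intro e
    exact h ((Equiv.swap a c).injective (by rw [← e, Equiv.swap_apply_left])), by
    rw [Equiv.Perm.mul_apply, Equiv.swap_apply_left]⟩

theorem exists_col {N : Mt n F} (h : N.det ≠ 0) (i : Fin n) : ∃ j, N j i ≠ 0 := by
  by_contra! e
  exact h (det_eq_zero_of_column_eq_zero i e)

theorem diag_rel {N : Mt n F} {d : Fin n → F} {c : F} (h : diagonal d * N = c • (1 : Mt n F) * (N * diagonal d))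
    {i j : Fin n} (hj : N j i ≠ 0) : d j = c * d i := by
  have e := congrFun (congrFun h j) i
  rw [diagonal_mul, Matrix.smul_mul, Matrix.one_mul, Matrix.smul_apply, mul_diagonal, smul_eq_mul] at e
  exact mul_right_cancel₀ hj (by linear_combination e)

theorem pow_inj_three {c : F} (h : F4 c) (s t : Fin 3) (e : c ^ s.1 = c ^ t.1) : s = t := by
  have h1 := h.ne_one
  have h2 := h.sq_ne_one
  have h3 : c ^ 2 ≠ c := fun e => h1 (mul_left_cancel₀ h.ne_zero (by linear_combination e))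
  fin_cases s <;> fin_cases t <;> simp_all only [eq_comm, _root_.ne_eq, _root_.pow_zero, _root_.Fin.zero_eta, _root_.Fin.isValue, _root_.pow_one, _root_.Fin.mk_one, _root_.not_true_eq_false, _root_.not_false_eq_true, _root_.Fin.reduceFinMk]

namespace Cov

variable (C : Cov μ)
include C

theorem sc_ne (i0 : Fin n) {a : W} {c : F} (h : μ a = c • (1 : Mt n F)) : c ≠ 0 := fun e => (C.uni a).det_ne C.card (by
  haveI : Nonempty (Fin n) := ⟨i0⟩
  rw [h, e, zero_smul, det_zero])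

theorem eq_one_of_sc (i0 : Fin n) (h3 : Nat.Coprime n 3) {a : W} (h : Sc (μ a)) (hd : (μ a).det = 1) : μ a = 1 := by
  obtain ⟨c, hc⟩ := h
  have h1 := pow_three C.card (C.sc_ne i0 hc)
  rw [hc, det_smul, det_one, mul_one, Fintype.card_fin] at hd
  have := pow_gcd_eq_one.2 ⟨hd, h1⟩
  rw [h3, pow_one] at this
  rw [hc, this, one_smul]

theorem toral (i0 : Fin n) (h3 : Nat.Coprime n 3) {P : Subgroup W} {m : ℕ} (O : Ofd μ ρ P m) :
    (∀ a ∈ P, ∀ b ∈ P, μ a * μ b = μ b * μ a) ∧ ∀ a ∈ P, μ a ^ 3 = 1 :=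
  ⟨fun a ha b hb => by rw [mu_swap, C.eq_one_of_sc i0 h3 (O.comm a ha b hb) (det_mu_comm a b), one_mul],
    fun a ha => by
      rw [← map_pow]
      exact C.eq_one_of_sc i0 h3 (O.cube a ha) (by rw [map_pow, det_pow, (C.uni a).det C.card])⟩

/-- there is no extraspecial group `3^(1+4)` in small dimension -/
theorem nine (i0 : Fin n) {a b c d : W} {s t : F} (hs : s ≠ 1) (ht : t ≠ 1) (ha : μ a ^ 3 = 1) (hc : μ c ^ 3 = 1)
    (h1 : μ ⁅a, b⁆ = s • (1 : Mt n F)) (h2 : μ ⁅a, c⁆ = 1) (h3 : μ ⁅a, d⁆ = 1) (h4 : μ ⁅c, d⁆ = t • (1 : Mt n F)) :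
    9 ≤ n := by
  have hac : μ a * μ c = μ c * μ a := by rw [mu_swap, h2, one_mul]
  obtain ⟨μ', C', hsc, -, hd⟩ := C.exists_frame {a, c}
    (by rintro _ (rfl | rfl) _ (rfl | rfl) <;> first | rfl | exact hac | exact hac.symm)
    (by rintro _ (rfl | rfl) <;> assumption)
  obtain ⟨x, hx⟩ := hd a (Or.inl rfl)
  obtain ⟨y, hy⟩ := hd c (Or.inr rfl)
  have x0 := IsU.diag_ne C.card (hx ▸ C'.uni a)
  have y0 := IsU.diag_ne C.card (hy ▸ C'.uni c)
  choose B hB using exists_col ((C'.uni b).det_ne C.card)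
  choose D hD using exists_col ((C'.uni d).det_ne C.card)
  have e1 : ∀ i, x (B i) = s * x i := fun i => diag_rel (by rw [← hx, mu_swap, (hsc _ _).2 h1]) (hB i)
  have e2 : ∀ i, x (D i) = 1 * x i := fun i =>
    diag_rel (by rw [← hx, mu_swap, (hsc _ 1).2 (by rw [h3, one_smul])]) (hD i)
  have e3 : ∀ i, y (D i) = t * y i := fun i => diag_rel (by rw [← hy, mu_swap, (hsc _ _).2 h4]) (hD i)
  have f1 : ∀ j i, x (B^[j] i) = s ^ j * x i := fun j i => by
    induction j with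
    | zero => simp
    | succ j ih => rw [Function.iterate_succ_apply', e1, ih]; ring
  have f2 : ∀ j i, x (D^[j] i) = x i := fun j i => by
    induction j with
    | zero => rfl
    | succ j ih => rw [Function.iterate_succ_apply', e2, ih, one_mul]
  have f3 : ∀ j i, y (D^[j] i) = t ^ j * y i := fun j i => by
    induction j with
    | zero => simp
    | succ j ih => rw [Function.iterate_succ_apply', e3, ih]; ring
  have := Fintype.card_le_of_injective (fun p : Fin 3 × Fin 3 => D^[p.2] (B^[p.1] i0)) fun p q e => by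
    have g1 := congrArg x e
    simp only [f2, f1] at g1
    have g2 := pow_inj_three (F4.of_ne C.card (C.sc_ne i0 h1) hs) _ _ (mul_right_cancel₀ (x0 i0) g1)
    have g3 := congrArg y e
    simp only [f3, g2] at g3
    exact Prod.ext g2 (pow_inj_three (F4.of_ne C.card (C.sc_ne i0 h4) ht) _ _ (mul_right_cancel₀ (y0 _) g3))
  simpa only [_root_.ge_iff_le, _root_.Fintype.card_prod, _root_.Fintype.card_fin, _root_.Nat.reduceMul] using this

theorem exists_cube (i0 : Fin n) {P : Subgroup W} {m : ℕ} (O : Ofd μ ρ P m) :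
    ∃ D ≤ P, (∀ a ∈ D, μ a ^ 3 = 1) ∧ Nat.card P ≤ 3 * Nat.card D := by
  obtain ⟨D, hle, hm, hc⟩ := exists_sub (card_units C.card) P (fun w => μ (w ^ 3) i0 i0) (fun a ha b hb => by
    obtain ⟨c, hc⟩ := O.cube a ha
    obtain ⟨c', hc'⟩ := O.cube b hb
    obtain ⟨s, hs⟩ := O.comm b hb a ha
    have e : μ b * μ a = s • (μ a * μ b) := by rw [mu_swap, hs, Matrix.smul_mul, Matrix.one_mul]
    have e' : ∀ X, μ b * (μ a * X) = s • (μ a * (μ b * X)) := fun X => by
      rw [← mul_assoc, e, Matrix.smul_mul, mul_assoc]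
    have e2 : μ ((a * b) ^ 3) = μ (a ^ 3) * μ (b ^ 3) := by
      simp only [pow_succ, pow_zero, one_mul, map_mul, mul_assoc, e', Matrix.mul_smul, smul_smul]
      rw [show s * (s * s) = 1 by linear_combination pow_three C.card (C.sc_ne i0 hs), one_smul]
    show μ ((a * b) ^ 3) i0 i0 = μ (a ^ 3) i0 i0 * μ (b ^ 3) i0 i0
    rw [e2, hc, hc', Matrix.smul_mul, Matrix.one_mul, smul_smul, smul_one_apply, smul_one_apply, smul_one_apply])
    (by simp)
  refine ⟨D, hle, fun a ha => ?_, hc⟩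
  obtain ⟨c, hc⟩ := O.cube a (hle ha)
  have e := ((hm a).1 ha).2
  rw [hc, smul_one_apply] at e
  rw [← map_pow, hc, e, one_smul]

theorem exists_torus (i0 : Fin n) (hn : n < 9) {P D : Subgroup W} {m : ℕ} (O : Ofd μ ρ P m) (hD : D ≤ P)
    (h3 : ∀ a ∈ D, μ a ^ 3 = 1) :
    ∃ T ≤ D, (∀ a ∈ T, ∀ b ∈ T, μ a * μ b = μ b * μ a) ∧ Nat.card D ≤ 3 * Nat.card T := by
  by_cases H : ∀ a ∈ D, ∀ b ∈ D, μ ⁅a, b⁆ = 1
  · exact ⟨D, le_rfl, fun a ha b hb => by rw [mu_swap, H a ha b hb, one_mul], by omega⟩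
  push Not at H
  obtain ⟨a, ha, b, hb, hab⟩ := H
  obtain ⟨s, hs⟩ := O.comm a (hD ha) b (hD hb)
  obtain ⟨T, hle, hm, hc⟩ := exists_sub (card_units C.card) D (fun w => μ ⁅a, w⁆ i0 i0) (fun x hx y hy => by
    obtain ⟨c, hc⟩ := O.comm a (hD ha) x (hD hx)
    obtain ⟨c', hc'⟩ := O.comm a (hD ha) y (hD hy)
    have e : μ (x * ⁅a, y⁆ * x⁻¹) = c' • (1 : Mt n F) :=
      mu_conj (by rw [hc', Matrix.smul_mul, Matrix.mul_smul, Matrix.one_mul, Matrix.mul_one])
    show μ ⁅a, x * y⁆ i0 i0 = μ ⁅a, x⁆ i0 i0 * μ ⁅a, y⁆ i0 i0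
    rw [show ⁅a, x * y⁆ = ⁅a, x⁆ * (x * ⁅a, y⁆ * x⁻¹) by simp only [commutatorElement_def]; group, map_mul, e, hc, hc',
      Matrix.smul_mul, Matrix.one_mul, smul_smul, smul_one_apply, smul_one_apply, smul_one_apply]) (by simp)
  have h1 : ∀ c ∈ T, μ ⁅a, c⁆ = 1 := fun c hc => by
    obtain ⟨t, ht⟩ := O.comm a (hD ha) c (hD (hle hc))
    have e := ((hm c).1 hc).2
    rw [ht, smul_one_apply] at e
    rw [ht, e, one_smul]
  refine ⟨T, hle, fun c hc d hd => ?_, hc⟩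
  obtain ⟨t, ht⟩ := O.comm c (hD (hle hc)) d (hD (hle hd))
  by_cases e : t = 1
  · rw [mu_swap, ht, e, one_smul, one_mul]
  · have := C.nine i0 (fun e => hab (by rw [hs, e, one_smul])) e (h3 a ha) (h3 c (hle hc)) hs (h1 c hc) (h1 d hd) ht
    omega

theorem exists_fix {T : Subgroup W} (hd : ∀ a ∈ T, ∃ d, μ a = diagonal d) (i j : Fin n) :
    ∃ B ≤ T, (∀ b ∈ B, ∃ d, μ b = diagonal d ∧ d i = 1 ∧ d j = 1) ∧ Nat.card T ≤ 9 * Nat.card B := by
  have hm : ∀ l, ∀ a ∈ T, ∀ b ∈ T, μ (a * b) l l = μ a l l * μ b l l := fun l a ha b hb => by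
    obtain ⟨d, e⟩ := hd a ha
    obtain ⟨d', e'⟩ := hd b hb
    simp only [map_mul, e, e', diagonal_mul_diagonal, diagonal_apply_eq]
  obtain ⟨B, hB, h1, h2⟩ := exists_sub (card_units C.card) T (fun w => μ w i i) (hm i) (by simp)
  obtain ⟨B', hB', h3, h4⟩ := exists_sub (card_units C.card) B (fun w => μ w j j)
    (fun a ha b hb => hm j a (hB ha) b (hB hb)) (by simp)
  refine ⟨B', hB'.trans hB, fun b hb => ?_, by omega⟩
  obtain ⟨d, e⟩ := hd b (hB (hB' hb))
  have e1 := ((h1 b).1 (hB' hb)).2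
  have e2 := ((h3 b).1 hb).2
  rw [e, diagonal_apply_eq] at e1 e2
  exact ⟨d, e, e1, e2⟩

variable [IsAlgClosed k] (h2 : (2 : k) ≠ 0) (hf : Fth μ ρ)
include h2 hf

theorem no_78 (hn : n = 7 ∨ n = 8) {P : Subgroup W} {m : ℕ} (O : Ofd μ ρ P m) : False := by
  have i0 : Fin n := ⟨0, by omega⟩
  obtain ⟨h1, h3⟩ := C.toral i0 (by rcases hn with rfl | rfl <;> decide) O
  obtain ⟨μ', C', -, -, hd⟩ := C.exists_frame P h1 h3
  have h4 := (Nat.pow_le_pow_iff_right (by norm_num)).1 (O.card.trans (C'.card_le O.pg hd))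
  obtain ⟨a, ha, hs⟩ := C.exists_not_sc i0 O.pg
    (lt_of_lt_of_le (by norm_num) ((Nat.pow_le_pow_right (by norm_num) (Nat.succ_le_succ O.pos)).trans O.card))
  have h5 := C.lb_three (by omega) h2 hf (h3 a ha) hs
  have h6 := cod_le_of_mem (ρ := ρ) ha
  have h7 := O.cod
  rcases hn with rfl | rfl <;> omega

end Cov

/-- the case of equal fixed spaces -/
theorem Cov.no_eight [IsAlgClosed k] {μ : W →* Mt 6 F} (C : Cov μ) (h2 : (2 : k) ≠ 0) (hf : Fth μ ρ)
    {P T : Subgroup W} (hT : IsPGroup 3 T) (hle : T ≤ P) (hd : ∀ a ∈ T, ∃ d, μ a = diagonal d)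
    (hc : 27 ≤ Nat.card T) (h8 : cod ρ P ≤ 8) : False := by
  have h1 : ∀ σ : Equiv.Perm (Fin 6), ∃ p ∈ nrm ρ (fx ρ P), μ p = pm F σ := fun σ => by
    induction σ using Equiv.Perm.swap_induction_on with
    | one => exact ⟨1, one_mem _, by rw [map_one, pm_one]⟩
    | swap_mul σ i j hij ih =>
      obtain ⟨p, hp, e⟩ := ih
      obtain ⟨B, hB, h3, h4⟩ := C.exists_fix hd i j
      obtain ⟨D, x, h5, h6, h7⟩ := C.lb_steps (by norm_num) h2 hf hij (t := 1) (hT.to_le hB) h3 (by omega)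
      obtain ⟨y, hy, hyB⟩ := C.exists_fixed (hT.to_le hB) (isU_pm (Equiv.swap i j)) (det_pm C.card _) fun b hb => by
        obtain ⟨d, e, e1, e2⟩ := h3 b hb
        rw [e, pm_diag]
        congr 2
        ext l
        rw [Equiv.swap_inv, Equiv.swap_apply_def]
        split_ifs with a1 a2
        · rw [a1, e1, e2]
        · rw [a2, e1, e2]
        · rfl
      refine ⟨y * p, mul_mem ?_ hp, by rw [map_mul, hy, e, pm_mul]⟩
      rw [fx_eq_of_cod_le (hB.trans hle) (by omega)]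
      exact le_nrm_iff.2 (inv_fx le_rfl) (Subgroup.centralizer_le_normalizer _ hyB)
  have h3 : ∀ p ∈ nrm ρ (fx ρ P), ∀ a ∈ cl ρ P, p * a * p⁻¹ ∈ cl ρ P := fun p hp a ha => mem_cen.2 fun v hv => by
    rw [rho_mul, rho_mul, mem_cen.1 ha _ (le_nrm_iff.1 le_rfl _ (inv_mem hp) v hv), rho_apply_inv]
  obtain ⟨B, hB, h4, h5⟩ := C.exists_fix hd 0 1
  obtain ⟨a, ha, ha1⟩ : ∃ a ∈ B, a ≠ 1 := by
    by_contra! e
    rw [(Subgroup.eq_bot_iff_forall B).2 e, Subgroup.card_bot] at h5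
    omega
  obtain ⟨d, hda, e0, -⟩ := h4 a ha
  obtain ⟨i, hi⟩ : ∃ i, d i ≠ 1 := by
    by_contra! e
    exact ha1 (C.eq_one_of_mem hT (hB ha) (by rw [hda, funext e, diagonal_one]))
  have hi0 : 0 ≠ i := fun e => hi (e ▸ e0)
  have d0 := IsU.diag_ne C.card (hda ▸ C.uni a)
  have haP : a ∈ cl ρ P := le_cl P (hle (hB ha))
  obtain ⟨p, hp, e⟩ := h1 (Equiv.swap 0 i)
  have h6 : μ (p * a * p⁻¹ * a⁻¹) = diagonal (dd 0 i (d i)) := mu_div (by
    rw [hda, diagonal_mul_diagonal]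
    refine mu_conj ?_
    rw [e, hda, pm_diag]
    congr 2
    ext l
    rw [Equiv.swap_inv, Equiv.swap_apply_def]
    split_ifs with a1 a2
    · rw [a1, dd_left hi0, e0, mul_one]
    · rw [a2, dd_right hi0, e0, ← pow_succ, pow_three C.card (d0 i)]
    · rw [dd_of_ne a1 a2, one_mul])
  have h7 : ∀ s t : Fin 6, s ≠ t → ∃ b ∈ cl ρ P, μ b = diagonal (dd s t (d i)) := fun s t hst => by
    obtain ⟨σ, s1, s2⟩ := exists_perm hi0 hst
    obtain ⟨q, hq, e⟩ := h1 σ
    exact ⟨_, h3 q hq _ (mul_mem (h3 p hp a haP) (inv_mem haP)), mu_conj (by rw [e, h6, pm_diag, dd_perm, s1, s2])⟩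
  obtain ⟨b, hb, eb⟩ := h7 2 3 (by decide)
  obtain ⟨c, hc, ec⟩ := h7 4 5 (by decide)
  obtain ⟨j, hj, hj3⟩ := C.exists_three c (ec ▸ diag_pow_three C.card (dd_ne C.card _ _ (d0 i)))
  have h9 := C.lb_two (ρ := ρ) (by norm_num) h2 hf (i0 := 0) (i1 := 1) (i := 2) (j := 4) (by decide) (by decide)
    (by decide) eb (hj.trans ec) hj3
    (by rw [dd_of_ne (by decide) (by decide), dd_of_ne (by decide) (by decide)])
    (by rwa [dd_left (by decide), dd_of_ne (by decide) (by decide)])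
    (by rw [dd_of_ne (by decide) (by decide), dd_of_ne (by decide) (by decide)])
    (by rw [dd_of_ne (by decide) (by decide), dd_of_ne (by decide) (by decide)])
    (by rwa [dd_left (by decide), dd_of_ne (by decide) (by decide)]) hb (pow_mem hc j)
  rw [cod_cl] at h9
  omega

theorem Cov.no_6 [IsAlgClosed k] {μ : W →* Mt 6 F} (C : Cov μ) (h2 : (2 : k) ≠ 0) (hf : Fth μ ρ)
    {P : Subgroup W} {m : ℕ} (O : Ofd μ ρ P m) : False := by
  have hc := O.card
  have hcod := O.cod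
  have hp : ∀ j, j ≤ m → 3 ^ (j + 1) ≤ Nat.card P := fun j hj =>
    (Nat.pow_le_pow_right (by norm_num) (Nat.succ_le_succ hj)).trans hc
  obtain ⟨a, ha, hs⟩ := C.exists_not_sc 0 O.pg (lt_of_lt_of_le (by norm_num) (hp 1 O.pos))
  have h3 := C.lb_any (by norm_num) h2 hf hs
  have h4 := cod_le_of_mem (ρ := ρ) ha
  obtain ⟨D, hD, hD3, hDc⟩ := C.exists_cube 0 O
  have h5 := hp 2 (by omega)
  obtain ⟨b, hb, hs⟩ := C.exists_not_sc 0 (O.pg.to_le hD) (by omega)
  have h6 := C.lb_three (by norm_num) h2 hf (hD3 b hb) hs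
  have h7 := cod_le_of_mem (ρ := ρ) (hD hb)
  obtain ⟨T, hT, hTc, hTn⟩ := C.exists_torus 0 (by norm_num) O hD hD3
  obtain ⟨μ', C', hsc, -, hd⟩ := C.exists_frame T hTc fun a ha => hD3 a (hT ha)
  have hf' : Fth μ' ρ := fun w hw => (hf w hw).imp fun c hc => (hsc w c).2 hc
  have hTp := O.pg.to_le (hT.trans hD)
  have h8 := C'.card_le hTp hd
  have h9 : m ≤ 7 := by
    by_contra e
    have := hp 8 (by omega)
    omega
  obtain ⟨B, hB, hB1, hBc⟩ := C'.exists_fix hd 0 1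
  have h10 := cod_mono (ρ := ρ) (hB.trans (hT.trans hD))
  obtain rfl | rfl | rfl | rfl : m = 4 ∨ m = 5 ∨ m = 6 ∨ m = 7 := by omega
  · exact C'.no_eight h2 hf' hTp (hT.trans hD) hd (by omega) hcod
  · obtain ⟨D, x, e1, e2, e3⟩ := C'.lb_steps (by norm_num) h2 hf' (show (0 : Fin 6) ≠ 1 by decide) (t := 2)
      (hTp.to_le hB) hB1 (by omega)
    omega
  · obtain ⟨D, x, e1, e2, e3⟩ := C'.lb_steps (by norm_num) h2 hf' (show (0 : Fin 6) ≠ 1 by decide) (t := 3)
      (hTp.to_le hB) hB1 (by omega)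
    omega
  · obtain ⟨D, x, e1, e2, e3⟩ := C'.lb_steps (by norm_num) h2 hf' (show (0 : Fin 6) ≠ 1 by decide) (t := 4)
      (hTp.to_le hB) hB1 (by omega)
    omega

end Cfsg.Agent.TwoF.XL.Un2
end

-- part: TwoF/XL/Un2/Five
section
/-!
# TwoF XL-Un2: the case `n = 5` (helper35)
-/

set_option autoImplicit false
set_option linter.unusedSectionVars false

namespace Cfsg.Agent.TwoF.XL.Un2

open Module Matrix Cfsg.Agent.LieClassical.HermBasic Cfsg.Agent.LieClassical.HermSiegel Gen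
open scoped commutatorElement

variable {F : Type} [Field F] [Fintype F] {W : Type} [Group W] [Finite W] {μ : W →* Mt 5 F}

theorem modEq_of_fpf {E X : Subgroup W} {s : ℕ} [Fact s.Prime] (hX : IsPGroup s X)
    (hi : ∀ h ∈ X, ∀ e ∈ E, h * e * h⁻¹ ∈ E) (hf : ∀ e ∈ E, (∀ h ∈ X, h * e * h⁻¹ = e) → e = 1) :
    Nat.card E ≡ 1 [MOD s] := by
  let _ : MulAction X E :=
    { smul := fun h e => ⟨h * e * h⁻¹, hi h h.2 e e.2⟩
      one_smul := fun e => Subtype.ext (by show ((1 : X) : W) * e * ((1 : X) : W)⁻¹ = e; simp only [_root_.OneMemClass.coe_one, _root_.one_mul, _root_.inv_one, _root_.mul_one])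
      mul_smul := fun g h e => Subtype.ext (by
        show ((g : W) * h) * e * ((g : W) * h)⁻¹ = g * (h * e * (h : W)⁻¹) * (g : W)⁻¹
        group) }
  have h1 := hX.card_modEq_card_fixedPoints E
  have h2 : Nat.card (MulAction.fixedPoints X E) = 1 := by
    rw [Nat.card_eq_one_iff_exists]
    refine ⟨⟨1, fun h => Subtype.ext (by show (h : W) * 1 * (h : W)⁻¹ = 1; simp)⟩, fun e => Subtype.ext (Subtype.ext ?_)⟩
    exact hf _ e.1.2 fun h hh => congrArg Subtype.val (e.2 ⟨h, hh⟩)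
  rwa [h2] at h1

theorem isPGroup_zpowers {y : W} {s e : ℕ} (h : y ^ s ^ e = 1) : IsPGroup s (Subgroup.zpowers y) := by
  rintro ⟨_, j, rfl⟩
  refine ⟨e, Subtype.ext ?_⟩
  show (y ^ j) ^ s ^ e = 1
  rw [← zpow_natCast, ← _root_.zpow_mul, mul_comm, _root_.zpow_mul, zpow_natCast, h, _root_.one_zpow]

namespace Cov

variable (C : Cov μ)
include C

/-- the lift of the diagonal subgroup of `SU` -/
def tor : Subgroup W where
  carrier := {w | (∃ d, μ w = diagonal d) ∧ (μ w).det = 1 ∧ w ^ 3 = 1}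
  one_mem' := ⟨⟨fun _ => 1, by rw [map_one, diagonal_one]⟩, by rw [map_one, det_one], one_pow _⟩
  mul_mem' := by
    rintro a b ⟨⟨d, hd⟩, a1, a2⟩ ⟨⟨e, he⟩, b1, b2⟩
    refine ⟨⟨_, by rw [map_mul, hd, he, diagonal_mul_diagonal]⟩, by rw [det_mu_mul, a1, b1, mul_one], ?_⟩
    have : Commute a b := C.comm_of_three (by rw [hd, he]; exact (commute_diagonal d e).eq)
      (by rw [← map_pow, a2, map_one]) a1 b1
    rw [this.mul_pow, a2, b2, mul_one]
  inv_mem' := by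
    rintro a ⟨⟨d, hd⟩, a1, a2⟩
    have e : a⁻¹ = a * a := by rw [inv_eq_iff_mul_eq_one, ← a2, _root_.pow_three]
    exact ⟨⟨_, by rw [e, map_mul, hd, diagonal_mul_diagonal]⟩, det_mu_inv a1, by rw [inv_pow, a2, inv_one]⟩

theorem elemAb_tor : IsElementaryAbelian 3 C.tor :=
  elemAb_of (by
    rintro a ⟨⟨d, hd⟩, a1, a2⟩ b ⟨⟨e, he⟩, b1, -⟩
    exact C.comm_of_three (by rw [hd, he]; exact (commute_diagonal d e).eq) (by rw [← map_pow, a2, map_one]) a1 b1)
    fun a ha => ha.2.2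

theorem exists_tor {d : Fin 5 → F} (hd : (diagonal d : Mt 5 F).det = 1) : ∃ w ∈ C.tor, μ w = diagonal d := by
  have h0 : ∀ i, d i ≠ 0 := fun i => by
    rw [det_diagonal] at hd
    exact Finset.prod_ne_zero_iff.1 (hd ▸ one_ne_zero) i (Finset.mem_univ i)
  obtain ⟨y, hy⟩ := C.lift _ (isU_diag C.card h0) hd
  obtain ⟨j, h1, h2⟩ := C.exists_three y (hy ▸ diag_pow_three C.card h0)
  exact ⟨y ^ j, ⟨⟨d, h1.trans hy⟩, by rw [h1, hy, hd], h2⟩, h1.trans hy⟩

theorem conj_tor {p : W} {σ : Equiv.Perm (Fin 5)} (hp : μ p = pm F σ) {w : W} (hw : w ∈ C.tor) :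
    p * w * p⁻¹ ∈ C.tor := by
  obtain ⟨⟨d, hd⟩, h1, h2⟩ := hw
  exact ⟨⟨_, mu_conj (by rw [hp, hd, pm_diag])⟩, by rw [det_mu_conj, h1], by rw [conj_pow, h2, mul_one, mul_inv_cancel]⟩

theorem norm_tor {p : W} {σ : Equiv.Perm (Fin 5)} (hp : μ p = pm F σ) : p ∈ Subgroup.normalizer (C.tor : Set W) :=
  Subgroup.mem_normalizer_fintype fun _ hw => C.conj_tor hp hw

theorem card_inv {y : W} {e : ℕ} (hy : μ y = pm F (finRotate 5)) (h5 : y ^ 5 ^ e = 1) {E : Subgroup W} (hE : E ≤ C.tor)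
    (h0 : E ≠ ⊥) (hi : ∀ h ∈ Subgroup.zpowers y, ∀ a ∈ E, h * a * h⁻¹ ∈ E) : Nat.card E = 3 ^ 4 := by
  haveI : Fact (Nat.Prime 5) := ⟨by norm_num⟩
  haveI : Fact (Nat.Prime 3) := ⟨Nat.prime_three⟩
  have hp := (elemAb_isPGroup C.elemAb_tor).to_le hE
  have h1 := modEq_of_fpf (isPGroup_zpowers h5) hi fun a ha h => by
    obtain ⟨⟨d, hd⟩, a1, -⟩ := hE ha
    have e1 : μ (y * a * y⁻¹) = _ := mu_conj (by rw [hy, hd, pm_diag])
    rw [h y (Subgroup.mem_zpowers y), hd] at e1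
    have e2 := congrFun (diagonal_injective e1)
    have f1 : d 1 = d 0 := e2 1
    have f2 : d 2 = d 1 := e2 2
    have f3 : d 3 = d 2 := e2 3
    have f4 : d 4 = d 3 := e2 4
    refine C.eq_one_of_mem hp ha (C.eq_one_of_sc 0 (by decide) ⟨d 0, ?_⟩ a1)
    rw [hd, smul_one_eq_diagonal]
    congr 1
    ext i
    fin_cases i
    exacts [rfl, f1, f2.trans f1, f3.trans (f2.trans f1), f4.trans (f3.trans (f2.trans f1))]
  obtain ⟨r, hr⟩ := hp.exists_card_eq
  have h2 := C.card_le hp fun a ha => (hE ha).1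
  have h3 : r ≠ 0 := by
    rintro rfl
    exact h0 (Subgroup.card_eq_one.1 hr)
  rw [hr] at h1 h2 ⊢
  have h4 := (Nat.pow_le_pow_iff_right (by norm_num)).1 h2
  interval_cases r <;> first | rfl | exact absurd h1 (by decide) | exact absurd rfl h3

theorem tor_le {ω : F} (h : F4 ω) {E : Subgroup W}
    (hr : ∀ i : Fin 5, i ≠ 4 → ∃ r ∈ E, r ∈ C.tor ∧ μ r = diagonal (dd i 4 ω)) : C.tor ≤ E := fun w hw => by
  obtain ⟨⟨d, hd⟩, w1, -⟩ := id hw
  have d0 := IsU.diag_ne C.card (hd ▸ C.uni w)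
  have hk : ∀ i, ∃ j : ℕ, d i = ω ^ j := fun i => by
    rcases h.cases (d0 i) with e | e | e
    exacts [⟨0, by rw [e, pow_zero]⟩, ⟨1, by rw [e, pow_one]⟩, ⟨2, e⟩]
  choose j hj using hk
  obtain ⟨r0, a0, b0, c0⟩ := hr 0 (by decide)
  obtain ⟨r1, a1, b1, c1⟩ := hr 1 (by decide)
  obtain ⟨r2, a2, b2, c2⟩ := hr 2 (by decide)
  obtain ⟨r3, a3, b3, c3⟩ := hr 3 (by decide)
  have m1 : r0 ^ j 0 * r1 ^ j 1 * r2 ^ j 2 * r3 ^ j 3 ∈ C.tor :=
    mul_mem (mul_mem (mul_mem (pow_mem b0 _) (pow_mem b1 _)) (pow_mem b2 _)) (pow_mem b3 _)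
  have m2 : μ (r0 ^ j 0 * r1 ^ j 1 * r2 ^ j 2 * r3 ^ j 3) = diagonal fun i =>
      dd 0 4 ω i ^ j 0 * dd 1 4 ω i ^ j 1 * dd 2 4 ω i ^ j 2 * dd 3 4 ω i ^ j 3 := by
    simp only [map_mul, map_pow, c0, c1, c2, c3, diagonal_pow, diagonal_mul_diagonal, Pi.pow_apply]
  have m3 := m1.2.1
  rw [m2] at m3
  set e : Fin 5 → F := fun i => dd 0 4 ω i ^ j 0 * dd 1 4 ω i ^ j 1 * dd 2 4 ω i ^ j 2 * dd 3 4 ω i ^ j 3
  have e0 : d 0 = e 0 := by simp only [e, dd, hj 0, _root_.Fin.isValue, _root_.Pi.mul_apply, _root_.Pi.mulSingle_eq_same, _root_.ne_eq, _root_.Fin.reduceEq, _root_.not_false_eq_true, _root_.Pi.mulSingle_eq_of_ne, _root_.mul_one, _root_.zero_ne_one, _root_.one_pow]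
  have e1 : d 1 = e 1 := by simp only [e, dd, hj 1, _root_.Fin.isValue, _root_.Pi.mul_apply, _root_.ne_eq, _root_.one_ne_zero, _root_.not_false_eq_true, _root_.Pi.mulSingle_eq_of_ne, _root_.Fin.reduceEq, _root_.mul_one, _root_.one_pow, _root_.Pi.mulSingle_eq_same, _root_.one_mul]
  have e2 : d 2 = e 2 := by simp only [e, dd, hj 2, _root_.Fin.isValue, _root_.Pi.mul_apply, _root_.ne_eq, _root_.Fin.reduceEq, _root_.not_false_eq_true, _root_.Pi.mulSingle_eq_of_ne, _root_.mul_one, _root_.one_pow, _root_.Pi.mulSingle_eq_same, _root_.one_mul]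
  have e3 : d 3 = e 3 := by simp only [e, dd, hj 3, _root_.Fin.isValue, _root_.Pi.mul_apply, _root_.ne_eq, _root_.Fin.reduceEq, _root_.not_false_eq_true, _root_.Pi.mulSingle_eq_of_ne, _root_.mul_one, _root_.one_pow, _root_.Pi.mulSingle_eq_same, _root_.one_mul]
  have e4 : d 4 = e 4 := by
    rw [hd] at w1
    rw [det_diagonal, Fin.prod_univ_five] at w1 m3
    rw [← e0, ← e1, ← e2, ← e3] at m3
    exact mul_left_cancel₀ (mul_ne_zero (mul_ne_zero (mul_ne_zero (d0 0) (d0 1)) (d0 2)) (d0 3)) (w1.trans m3.symm)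
  rw [C.inj (elemAb_isPGroup C.elemAb_tor) hw m1 (by
    rw [hd, m2]
    congr 1
    ext i
    fin_cases i <;> assumption)]
  exact mul_mem (mul_mem (mul_mem (pow_mem a0 _) (pow_mem a1 _)) (pow_mem a2 _)) (pow_mem a3 _)

variable {V : Type*} [AddCommGroup V] [Module (ZMod 3) V] [Finite V] {ρ : Representation (ZMod 3) W V}

theorem nine_le (hc : ¬ Cub ρ C.tor) : 9 ≤ cod ρ C.tor := by
  haveI : Fact (Nat.Prime 5) := ⟨by norm_num⟩
  haveI : Fact (Nat.Prime 3) := ⟨Nat.prime_three⟩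
  obtain ⟨ω, h⟩ := exists_F4 C.card
  obtain ⟨y0, hy0⟩ := C.lift _ (isU_pm (finRotate 5)) (det_pm C.card _)
  obtain ⟨j, e, hy, h5⟩ := exists_part μ (s := 5) (by norm_num) y0
    (by rw [hy0, ← pm_pow, show finRotate 5 ^ 5 = 1 by decide, pm_one])
  rw [hy0] at hy
  set y := y0 ^ j
  obtain ⟨r0, b0, c0⟩ := C.exists_tor (det_dd C.card 0 4 h.ne_zero)
  obtain ⟨a, ha, hμa⟩ := C.exists_tor (d := fun i => if i = 4 then ω ^ 2 else ω) (by
    rw [det_diagonal, Fin.prod_univ_five]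
    simp only [if_true, show (0 : Fin 5) ≠ 4 by decide, show (1 : Fin 5) ≠ 4 by decide, show (2 : Fin 5) ≠ 4 by decide,
      show (3 : Fin 5) ≠ 4 by decide, if_false]
    linear_combination (ω ^ 3 + 1) * h.three)
  have ha1 : a ≠ 1 := by
    rintro rfl
    have := congrFun (congrFun hμa 0) 0
    rw [map_one, one_apply_eq, diagonal_apply_eq, if_neg (by decide)] at this
    exact h.ne_one this.symm
  have hX : Subgroup.zpowers y ≤ Subgroup.normalizer (C.tor : Set W) := Subgroup.zpowers_le.2 (C.norm_tor hy)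
  have hcard : Nat.card C.tor = 3 ^ 4 := C.card_inv hy h5 le_rfl (fun e => ha1 (Subgroup.mem_bot.1 (e ▸ ha)))
    fun h hh a ha => (Subgroup.mem_normalizer_iff.1 (hX hh) a).1 ha
  refine layers_of_order (k := ZMod 3) (n := 4) (s := 5) C.elemAb_tor le_rfl hX (fun H c1 c2 c3 => ?_) hc
    (by rw [Nat.card_zmod]; decide) (isPGroup_zpowers h5) fun d d1 d2 => by
      rw [Nat.card_zmod]
      interval_cases d <;> decide
  have hi : IrrOn C.tor H := fun E hE hi => or_iff_not_imp_left.2 fun h0 =>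
    Subgroup.eq_of_le_of_card_ge hE (by rw [hcard, C.card_inv hy h5 hE h0 fun h hh => hi h (c1 hh)])
  refine ⟨noLin_of_irr c2 hi (by rw [Nat.card_zmod, hcard]; norm_num),
    oneForm_of_irr c2 hi (X := H ⊓ Subgroup.centralizer {a}) inf_le_left ha ha1
      (fun x hx => (Subgroup.mem_centralizer_singleton_iff.1 hx.2)) b0 ?_⟩
  set E := ⁅H ⊓ Subgroup.centralizer {a}, C.tor⁆ ⊔ Subgroup.zpowers r0
  have step : ∀ (τ : Equiv.Perm (Fin 5)) (s t : Fin 5), (τ * finRotate 5 * τ⁻¹ * (finRotate 5)⁻¹) 4 = 4 →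
      (τ * finRotate 5 * τ⁻¹ * (finRotate 5)⁻¹) s = t → (∃ r ∈ E, r ∈ C.tor ∧ μ r = diagonal (dd s 4 ω)) →
      ∃ r ∈ E, r ∈ C.tor ∧ μ r = diagonal (dd t 4 ω) := by
    rintro τ s t h4 hst ⟨r, r1, r2, r3⟩
    obtain ⟨p, hp⟩ := C.lift _ (isU_pm τ) (det_pm C.card _)
    have hyH : y ∈ H := c1 (Subgroup.mem_zpowers y)
    have hx : μ (p * y * p⁻¹ * y⁻¹) = pm F (τ * finRotate 5 * τ⁻¹ * (finRotate 5)⁻¹) := mu_div (by
      rw [hy, ← pm_mul, inv_mul_cancel_right]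
      exact mu_conj (by rw [hp, hy, ← pm_mul, ← pm_mul, inv_mul_cancel_right]))
    set σ := τ * finRotate 5 * τ⁻¹ * (finRotate 5)⁻¹
    set x := p * y * p⁻¹ * y⁻¹
    have hxH : x ∈ H ⊓ Subgroup.centralizer {a} := ⟨H.mul_mem (c3 p (C.norm_tor hp) y hyH) (H.inv_mem hyH),
      Subgroup.mem_centralizer_singleton_iff.2 (C.comm_of_three (by
        rw [hx, hμa, pm_diag]
        congr 2
        ext i
        simp only [Equiv.Perm.inv_eq_iff_eq, h4]) (by rw [← map_pow, ha.2.2, map_one]) ha.2.1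
        (hx ▸ det_pm C.card _)).symm⟩
    refine ⟨x * r * x⁻¹, ?_, C.conj_tor hx r2, mu_conj (by rw [hx, r3, pm_diag, dd_perm, hst, h4])⟩
    rw [show x * r * x⁻¹ = ⁅x, r⁆ * r by rw [commutatorElement_def, inv_mul_cancel_right]]
    exact mul_mem (Subgroup.mem_sup_left (Subgroup.commutator_mem_commutator hxH r2)) r1
  have g0 : ∃ r ∈ E, r ∈ C.tor ∧ μ r = diagonal (dd 0 4 ω) :=
    ⟨r0, Subgroup.mem_sup_right (Subgroup.mem_zpowers r0), b0, c0⟩
  have g1 := step (Equiv.swap 0 1) 0 1 (by decide) (by decide) g0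
  have g2 := step (Equiv.swap 0 2) 0 2 (by decide) (by decide) g0
  have g3 := step (Equiv.swap 1 2) 2 3 (by decide) (by decide) g2
  refine C.tor_le h fun i hi => ?_
  fin_cases i
  exacts [g0, g1, g2, g3, absurd rfl hi]

theorem five {P : Subgroup W} {m : ℕ} (O : Ofd μ ρ P m) :
    ∃ B : Subgroup W, (∀ b ∈ B, (μ b).det = 1) ∧ Off 3 ρ B ∧ Cub ρ B := by
  haveI : Fact (Nat.Prime 3) := ⟨Nat.prime_three⟩
  obtain ⟨h1, h3⟩ := C.toral 0 (by decide) O
  obtain ⟨μ', C', -, hdet, hd⟩ := C.exists_frame P h1 h3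
  obtain ⟨T, hT, hm, hc⟩ := exists_sub (card_units C.card) P (fun w => (μ w).det) (fun a _ b _ => det_mu_mul a b)
    (by simp)
  have hle : T ≤ C'.tor := fun w hw => ⟨hd w (hT hw), (hdet w).trans ((hm w).1 hw).2,
    C.eq_one_of_mem O.pg (pow_mem (hT hw) 3) (by rw [map_pow, h3 w (hT hw)])⟩
  have h4 : 3 ^ m ≤ Nat.card T := by
    have := O.card
    rw [pow_succ] at this
    omega
  have hO : Off 3 ρ T := ⟨elemAb_of_le C'.elemAb_tor hle, by
    rintro rfl
    rw [Subgroup.card_bot] at h4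
    have := Nat.one_lt_pow (n := m) (a := 3) (by have := O.pos; omega) (by omega)
    omega, by
    calc 3 ^ cod ρ T ≤ 3 ^ (m * 2) := Nat.pow_le_pow_right (by norm_num) ((cod_mono hT).trans (mul_comm 2 m ▸ O.cod))
      _ ≤ _ := by rw [pow_mul]; exact Nat.pow_le_pow_left h4 2⟩
  obtain ⟨B, hB, b2, b3, -⟩ := lattice (by norm_num) C'.elemAb_tor hO hle
  refine ⟨B, fun b hb => (hdet b).symm.trans (hB hb).2.1, b2, by_contra fun hn => ?_⟩
  obtain ⟨y0, hy0⟩ := C'.lift _ (isU_pm (finRotate 5)) (det_pm C.card _)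
  obtain ⟨j, e, hy, h5⟩ := exists_part μ' (s := 5) (by norm_num) y0
    (by rw [hy0, ← pm_pow, show finRotate 5 ^ 5 = 1 by decide, pm_one])
  rw [hy0] at hy
  have hX := Subgroup.zpowers_le.2 (C'.norm_tor hy)
  have h6 := C'.card_inv hy h5 hB b2.2.1 fun h hh a ha => (Subgroup.mem_normalizer_iff.1 (b3 (hX hh)) a).1 ha
  have h7 := C'.card_inv hy h5 le_rfl (fun e => b2.2.1 (le_bot_iff.1 (e ▸ hB)))
    fun h hh a ha => (Subgroup.mem_normalizer_iff.1 (hX hh) a).1 ha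
  obtain rfl : B = C'.tor := Subgroup.eq_of_le_of_card_ge hB (by rw [h6, h7])
  have h8 := C'.nine_le hn
  have h9 := b2.2.2
  rw [h7, ← pow_mul, Nat.pow_le_pow_iff_right (by norm_num)] at h9
  omega

end Cov

end Cfsg.Agent.TwoF.XL.Un2
end

-- part: TwoF/XL/Un2/Row
section
/-!
# TwoF XL-Un2: `Row 3 (PSU n F 2)` for `5 ≤ n ≤ 8` (helper35)

The pull-back `Pb φ` of `Y → Aut S` and `GU → Aut S` satisfies `Cov`.
-/

set_option autoImplicit false
set_option linter.unusedSectionVars false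

namespace Cfsg.Agent.TwoF.XL.Un2

open Module Matrix Cfsg.Agent.LieClassical.HermBasic Cfsg.Agent.LieClassical.HermSiegel Gen
  Cfsg.Agent.ClassicalGeometry Cfsg.Agent.ClassicalGeometry.PSUAutCount Cfsg.Agent.H380
open Cfsg.Agent.ClassicalGeometry.PSUAutBasic (pr pr_surjective)
open scoped commutatorElement

variable {F : Type} [Field F] [Fintype F] {n : ℕ}

/-- `GU → Aut PSU` -/
noncomputable def th (n : ℕ) (F : Type) [Field F] : GU n F 2 →* MulAut (PSU n F 2) :=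
  MonoidHom.mk' (fun A => toAut A 1) fun A B => by
    rw [RC.toAut_mul, mul_one, show RC.gmap 1 B = B from gm_inj rfl]

/-- the matrix of an element of `GU` -/
def gmH (n : ℕ) (F : Type) [Field F] : GU n F 2 →* Mt n F := ⟨⟨gm, gm_one⟩, gm_mul⟩

theorem th_conj {A : GU n F 2} {s : SU n F 2} (h : gm A = mat s) : th n F A = MulAut.conj (pr n F 2 s) :=
  RC.Ind.inj (f := act s) ⟨A, 1, funext fun v => by rw [act_def, ← h]; rfl, rfl⟩ (RC.ind_act s)

theorem sc_of_th (hF : Fintype.card F = 2 ^ 2) (hn : 3 ≤ n) {A : GU n F 2} (h : th n F A = 1) :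
    ∃ c : F, c ^ 3 = 1 ∧ gm A = c • (1 : Mt n F) := by
  obtain ⟨-, c, hc, e⟩ := eq_of_toAut_eq hF hn (A := 1) (A' := A) (ρ := 1) (ρ' := 1)
    (((th n F).map_one).trans h.symm)
  exact ⟨c, by linear_combination hc, e⟩

theorem aut_sq (hF : Fintype.card F = 2 ^ 2) (σ : F ≃+* F) : σ * σ = 1 := RingEquiv.ext fun x => by
  show σ (σ x) = x
  by_cases h0 : x = 0
  · rw [h0, map_zero, map_zero]
  by_cases h1 : x = 1
  · rw [h1, map_one, map_one]
  have h := F4.of_ne hF h0 h1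
  rcases h.cases ((map_ne_zero σ).2 h0) with e | e | e
  · exact (h1 (σ.injective (e.trans (map_one σ).symm))).elim
  · rw [e, e]
  · rw [e, map_pow, e]
    linear_combination x * h.three

theorem exists_th (hF : Fintype.card F = 2 ^ 2) (hn : 4 ≤ n) {α : MulAut (PSU n F 2)} (h : α ^ 3 = 1) :
    ∃ A, th n F A = α := by
  obtain ⟨A, σ, e⟩ := PSUAutMain.exists_toAut hF (by omega) (by omega) (α * α)
  refine ⟨A * RC.gmap σ A, ?_⟩
  show toAut _ 1 = α
  rw [← aut_sq hF σ, ← RC.toAut_mul, ← e, ← mul_assoc, ← _root_.pow_three', h, one_mul]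

theorem two_ne_zmod : (2 : ZMod 3) ≠ 0 := by decide

variable {Y : Type} [Group Y]

/-- the pull-back -/
noncomputable def Pb (φ : Y →* MulAut (PSU n F 2)) : Subgroup (Y × GU n F 2) :=
  (φ.comp (MonoidHom.fst _ _)).eqLocus ((th n F).comp (MonoidHom.snd _ _))

/-- first projection -/
noncomputable def p1 (φ : Y →* MulAut (PSU n F 2)) : Pb φ →* Y := (MonoidHom.fst _ _).comp (Pb φ).subtype

/-- second projection -/
noncomputable def p2 (φ : Y →* MulAut (PSU n F 2)) : Pb φ →* Mt n F :=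
  (gmH n F).comp ((MonoidHom.snd _ _).comp (Pb φ).subtype)

variable [Finite Y] {V : Type} [AddCommGroup V] [Module (ZMod 3) V] [Finite V] {K : Subgroup Y}
  {ρ : Representation (ZMod 3) Y V} {π : K →* PSU n F 2} {φ : Y →* MulAut (PSU n F 2)}

theorem pb_eq (w : Pb φ) : φ w.1.1 = th n F w.1.2 := w.2

theorem pb_ext {w w' : Pb φ} (h1 : p1 φ w = p1 φ w') (h2 : p2 φ w = p2 φ w') : w = w' :=
  Subtype.ext (Prod.ext h1 (gm_inj h2))

variable (hF : Fintype.card F = 2 ^ 2) (hn : 4 ≤ n)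
include hF hn

theorem sc_of_p1 {w : Pb φ} (h : p1 φ w = 1) : ∃ c : F, c ^ 3 = 1 ∧ p2 φ w = c • (1 : Mt n F) :=
  sc_of_th hF (by omega) (A := w.1.2) (by rw [← pb_eq, show w.1.1 = 1 from h, map_one])

theorem exists_p1 {a : Y} (ha : a ^ 3 = 1) : ∃ w : Pb φ, p1 φ w = a := by
  obtain ⟨A, hA⟩ := exists_th hF hn (α := φ a) (by rw [← map_pow, ha, map_one])
  exact ⟨⟨(a, A), hA.symm⟩, rfl⟩

omit hn in
theorem exists_sc {c : F} (hc : c ≠ 0) : ∃ w : Pb φ, p1 φ w = 1 ∧ p2 φ w = c • (1 : Mt n F) := by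
  have h : c * c ^ 2 = 1 := by linear_combination pow_three hF hc
  refine ⟨⟨(1, sc n ⟨c, h⟩ * 1), ?_⟩, rfl, gm_sc_mul _ _⟩
  exact (map_one φ).trans ((toAut_sc_mul _ 1 1).trans (th n F).map_one).symm

variable (H : Sit 3 K ρ π φ)
include H

omit hF hn in
theorem mem_K {w : Pb φ} (h : (p2 φ w).det = 1) : p1 φ w ∈ K :=
  H.toFrm.mem_inn_iff.1 ⟨pr n F 2 (mkSU _ h (herm_gm w.1.2)), (th_conj rfl).symm.trans (pb_eq w).symm⟩

omit hF hn in
theorem mem_cent {z : Pb φ} (h : p2 φ z = 1) : p1 φ z ∈ Subgroup.centralizer (K : Set Y) :=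
  H.toFrm.φ_eq_one_iff.1 ((pb_eq z).trans (by rw [show z.1.2 = 1 from gm_inj h, map_one]))

omit hn in
theorem cov_pb : Cov (p2 φ) where
  card := hF
  uni w := herm_gm w.1.2
  lift M hM hd := by
    obtain ⟨g, hg, e⟩ := HermOrtho.exists_GU_of_isometry hF hM
    obtain ⟨x, hx⟩ := H.surj (pr n F 2 (mkSU M hd hM))
    exact ⟨⟨(x, ⟨g, hg⟩), (H.toFrm.φ_coe x).trans (by rw [hx]; exact (th_conj (A := ⟨g, hg⟩) (s := mkSU M hd hM) e).symm)⟩, e⟩
  cent z w hz hw := pb_ext (by rw [map_mul, map_mul]; exact (mem_cent H hz _ (mem_K H hw)).symm)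
    (by rw [map_mul, map_mul, hz, one_mul, mul_one])
  cop z hz h3 := pb_ext (H.toStp.eq_one_of_mem_centralizer (n := 1) (by rw [pow_one, ← map_pow, h3, map_one])
    (mem_cent H hz)) (by rw [hz, map_one])

theorem fth_pb : Fth (p2 φ) (ρ.comp (p1 φ) : Representation (ZMod 3) (Pb φ) V) := fun w hw =>
  (sc_of_p1 hF hn (H.faithful (hw.trans (map_one ρ).symm))).imp fun _ h => h.2

omit H in
theorem ofd_pb {A : Subgroup Y} (hA : Off 3 ρ A) :
    ∃ m, Ofd (p2 φ) (ρ.comp (p1 φ) : Representation (ZMod 3) (Pb φ) V) (A.comap (p1 φ)) m := by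
  obtain ⟨m, h0, hc, hcod⟩ := hA.exists_card
  have hmap : (A.comap (p1 φ)).map (p1 φ) = A := Subgroup.map_comap_eq_self fun a ha => exists_p1 hF hn (hA.1.2 a ha)
  have h3 : ∀ w ∈ A.comap (p1 φ), p1 φ (w ^ 3) = 1 := fun w hw => by rw [map_pow]; exact hA.1.2 _ hw
  refine ⟨m, fun w => ⟨2, Subtype.ext ?_⟩, fun w hw => (sc_of_p1 hF hn (h3 w hw)).imp fun _ h => h.2,
    fun a ha b hb => (sc_of_p1 hF hn ?_).imp fun _ h => h.2, h0, ?_, by rw [cod_comp, hmap]; exact hcod⟩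
  · obtain ⟨c, hc, e⟩ := sc_of_p1 hF hn (h3 w w.2)
    show (w : Pb φ) ^ 3 ^ 2 = 1
    rw [pow_two, pow_mul]
    exact pb_ext (by rw [map_pow, h3 w w.2, one_pow, map_one]) (by rw [map_pow, e, smul_pow, hc, one_pow, one_smul, map_one])
  · rw [map_commutatorElement, commutatorElement_eq_one_iff_mul_comm]
    exact elemAb_comm hA.1 ha hb
  · obtain ⟨ω, h⟩ := exists_F4 hF
    obtain ⟨s, s1, s2⟩ := exists_sc (φ := φ) hF h.ne_zero
    have hs : s ∈ A.comap (p1 φ) := by rw [Subgroup.mem_comap, s1]; exact one_mem _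
    set f := (p1 φ).comp (A.comap (p1 φ)).subtype
    have e1 : f.range = A := by rw [MonoidHom.range_comp, Subgroup.range_subtype, hmap]
    have e2 : orderOf (⟨⟨s, hs⟩, s1⟩ : f.ker) = 3 := orderOf_eq_prime
      (Subtype.ext (Subtype.ext (pb_ext (by show p1 φ (s ^ 3) = p1 φ 1; rw [map_pow, s1, one_pow, map_one])
        (by show p2 φ (s ^ 3) = p2 φ 1; rw [map_pow, s2, smul_pow, h.three, one_pow, one_smul, map_one]))))
      fun e => h.ne_one (by
        have := congrFun (congrFun s2 ⟨0, by omega⟩) ⟨0, by omega⟩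
        rw [show s = 1 from congrArg (fun x : f.ker => (x.1 : Pb φ)) e, map_one, smul_one_apply, one_apply_eq] at this
        exact this.symm)
    rw [← f.ker.card_mul_index, Subgroup.index_ker, e1, hc, pow_succ']
    exact Nat.mul_le_mul_right _ (Nat.le_of_dvd Nat.card_pos (e2 ▸ orderOf_dvd_natCard _))

omit hn H in
theorem noOff_big (hn : n = 6 ∨ n = 7 ∨ n = 8) : NoOff 3 (PSU n F 2) :=
  noOff_of_sit fun Y _ _ V _ _ _ K ρ π φ H A hA => by
    obtain ⟨m, O⟩ := ofd_pb (φ := φ) hF (by omega) hA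
    have C := cov_pb hF H
    let L := AlgebraicClosure (ZMod 3)
    have h2 : (2 : L) ≠ 0 := by
      rw [show (2 : L) = algebraMap (ZMod 3) L 2 from (map_ofNat _ 2).symm, map_ne_zero]
      exact two_ne_zmod
    have hf : Fth (p2 φ) (bc L (ρ.comp (p1 φ) : Representation (ZMod 3) (Pb φ) V)) := fun w hw =>
      fth_pb hF (by omega) H w (by_contra fun e => bc_ne_one L e hw)
    have O' : Ofd (p2 φ) (bc L (ρ.comp (p1 φ) : Representation (ZMod 3) (Pb φ) V)) (A.comap (p1 φ)) m :=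
      ⟨O.pg, O.cube, O.comm, O.pos, O.card, by rw [cod_bc]; exact O.cod⟩
    rcases hn with rfl | hn
    · exact C.no_6 h2 hf O'
    · exact C.no_78 h2 hf hn O'

omit hn H in
theorem row_five : Row 3 (PSU 5 F 2) := by
  refine ⟨row88_of_sit fun Y _ _ V _ _ _ K ρ π φ H A hA => ?_,
    row89_of_sit fun Y _ _ V _ _ _ K ρ π φ H A hA _ _ _ hAK => (hAK fun a ha => ?_).elim⟩
  · obtain ⟨m, O⟩ := ofd_pb (φ := φ) hF (by omega) hA
    have C := cov_pb hF H
    obtain ⟨B, b1, b2, b3⟩ := C.five O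
    have hi : ∀ b ∈ B, p1 φ b = 1 → b = 1 := fun b hb e => pb_ext (by rw [e, map_one]) (by
      rw [map_one]
      exact C.eq_one_of_sc 0 (by decide) ((sc_of_p1 hF (by omega) e).imp fun _ h => h.2) (b1 b hb))
    refine ⟨B.map (p1 φ), ⟨elemAb_map b2.1 _, fun e => b2.2.1 ((Subgroup.eq_bot_iff_forall B).2 fun b hb =>
      hi b hb (Subgroup.mem_bot.1 (e ▸ Subgroup.mem_map_of_mem _ hb))), ?_⟩, (cub_comp _ _).1 b3⟩
    have e : Nat.card B ≤ Nat.card (B.map (p1 φ)) := Nat.card_le_card_of_injective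
      (fun b : B => (⟨p1 φ b, Subgroup.mem_map_of_mem _ b.2⟩ : B.map (p1 φ))) fun a b e =>
        Subtype.ext (mul_inv_eq_one.1 (hi _ (mul_mem a.2 (inv_mem b.2)) (by
          rw [map_mul, map_inv, show p1 φ a = p1 φ b from congrArg Subtype.val e, mul_inv_cancel])))
    rw [← cod_comp]
    exact b2.2.2.trans (Nat.pow_le_pow_left e 2)
  · obtain ⟨w, rfl⟩ := exists_p1 (φ := φ) hF (by omega) (hA.1.2 a ha)
    have C := cov_pb hF H
    obtain ⟨s, s1, s2⟩ := exists_sc (φ := φ) hF ((C.uni w).det_ne hF)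
    have := mem_K H (w := s * w) (by
      rw [det_mu_mul, s2, det_smul, det_one, mul_one, Fintype.card_fin]
      linear_combination ((p2 φ w).det ^ 3 + 1) * (C.uni w).det hF)
    rwa [map_mul, s1, one_mul] at this

end Cfsg.Agent.TwoF.XL.Un2

namespace Cfsg.Agent.TwoF.XL.Un2

/-- **the rows of `U_n(2)`, `p = 3`, `5 ≤ n ≤ 8`** -/
theorem row_Un2 {F : Type} [Field F] [Fintype F] (hF : Fintype.card F = 2 ^ 2) {n : ℕ}
    (h5 : 5 ≤ n) (h8 : n ≤ 8) : Row 3 (PSU n F 2) := by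
  obtain rfl | h : n = 5 ∨ n = 6 ∨ n = 7 ∨ n = 8 := by omega
  · exact row_five hF
  · exact (noOff_big hF h).row

end Cfsg.Agent.TwoF.XL.Un2
end

private theorem dce_89b3809d8131 : _root_.True := by
  try have : _root_.True := by simp only [_root_.Cfsg.Agent.TwoF.XL.LP.nu.eq_1]
  try have : _root_.True := by simp only [_root_.Cfsg.Agent.TwoF.XL.Un2.xx.eq_1]
  try have : _root_.True := by simp only [_root_.Cfsg.Agent.TwoF.XL.ExL.eq_1]
  try have : _root_.True := by simp only [_root_.Cfsg.Agent.TwoF.XL.Un2.dd.eq_1]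
  try have : _root_.True := by simp only [_root_.Cfsg.Agent.TwoF.XL.Un2.zz.eq_1]
  try have : _root_.True := by simp only [_root_.Cfsg.Agent.TwoF.XL.Un2.pm.eq_1]
  try have : _root_.True := by simp only [_root_.Cfsg.Agent.TwoF.XL.Un2.neg.eq_1]
  try have : _root_.True := by simp only [_root_.Cfsg.Agent.TwoF.XL.Un2.uu.eq_1]
  exact _root_.True.intro
end

-- part: TwoF/DC/TFG/G2/Ree_mg
section
prune_inst 0x100001000280000000000000800000100000000000000000000000000000002800000040000000000000000000040000000000000000000000000000000001000000000c00000008c00000000000000000000000000000000000000000000000000000000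
set_option linter.all false
open scoped Cfsg.Agent.FastGrp

-- part: TwoF/DC/TFG/G2/Loc
section
/-!
# TwoF, the small Ree groups in characteristic three: the Sylow subgroup (helper78)
-/

set_option autoImplicit false
set_option linter.unusedSectionVars false

namespace Cfsg.Agent.TwoF.DC.TF.G2

open Cfsg Cfsg.Agent.TwoF.Gen Subgroup Cfsg.Agent.LieRecognition Cfsg.Agent.LieRecognition.ReeAbs
  Cfsg.Agent.LieRecognition.ReeSylowThree Cfsg.Agent.LieRecognition.ReeSplit Cfsg.Agent.H452.RG.ReeD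

/-- a skew form on a field of order `3 ^ (2 m + 1)` is degenerate -/
theorem exists_rad {K : Type*} [Field K] [Fintype K] {m : ℕ} (hK : Fintype.card K = 3 ^ (2 * m + 1))
    (F : K → K → ZMod 3) (h1 : ∀ a b c, F (a + b) c = F a c + F b c) (h2 : ∀ a b, F a b = -F b a) :
    ∃ a, a ≠ 0 ∧ ∀ b, F a b = 0 := by
  classical
  have := charP_three hK
  let _ : Algebra (ZMod 3) K := ZMod.algebra K 3
  have h3 : ∀ a b c, F a (b + c) = F a b + F a c := fun a b c => by rw [h2, h1, h2 a b, h2 a c]; ring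
  let B : LinearMap.BilinForm (ZMod 3) K :=
    (AddMonoidHom.mk' (fun a => (AddMonoidHom.mk' (F a) (h3 a)).toZModLinearMap 3)
      fun a b => LinearMap.ext fun c => h1 a b c).toZModLinearMap 3
  have hn : Module.finrank (ZMod 3) K = 2 * m + 1 := by
    have h4 := Module.card_eq_pow_finrank (K := ZMod 3) (V := K)
    rw [hK, ZMod.card] at h4
    exact (Nat.pow_right_injective (by norm_num) h4).symm
  let b := Module.finBasis (ZMod 3) K
  by_contra h
  push Not at h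
  have h4 : B.Nondegenerate := ⟨fun a ha => by
      by_contra e
      obtain ⟨c, hc⟩ := h a e
      exact hc (ha c), fun a ha => by
      by_contra e
      obtain ⟨c, hc⟩ := h a e
      exact hc (by rw [h2]; exact neg_eq_zero.2 (ha c))⟩
  have h6 : (LinearMap.BilinForm.toMatrix b B).transpose = -LinearMap.BilinForm.toMatrix b B := by
    ext i j
    rw [Matrix.transpose_apply, Matrix.neg_apply, LinearMap.BilinForm.toMatrix_apply,
      LinearMap.BilinForm.toMatrix_apply]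
    exact h2 _ _
  have h7 := Matrix.det_transpose (LinearMap.BilinForm.toMatrix b B)
  rw [h6, Matrix.det_neg, Fintype.card_fin, Odd.neg_one_pow (hn ▸ odd_two_mul_add_one m)] at h7
  have h8 : ∀ x : ZMod 3, -1 * x = x → x = 0 := by decide
  exact (LinearMap.BilinForm.nondegenerate_iff_det_ne_zero b).1 h4 (h8 _ h7)

theorem four_mul_lt (e : ℕ) : 4 * e < 3 ^ e + 2 := by
  induction e with
  | zero => norm_num
  | succ e ih =>
    rcases e with _ | e
    · norm_num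
    · have : 3 ≤ 3 ^ (e + 1) := Nat.le_self_pow (by omega) 3
      rw [pow_succ]
      omega

section Cub

variable {k : Type*} [Field k] {Y : Type*} [Group Y] {V : Type*} [AddCommGroup V] [Module k V]
  {ρ : Representation k Y V}

theorem mul_kill {a b : Y} {N : Module.End k V} (ha : (ρ a - 1) * N = 0) (hb : (ρ b - 1) * N = 0) :
    (ρ (a * b) - 1) * N = 0 := by
  have e : ρ (a * b) - 1 = (ρ a - 1) + ρ a * (ρ b - 1) := by rw [map_mul, mul_sub, mul_one]; abel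
  rw [e, add_mul, mul_assoc, ha, hb, mul_zero, add_zero]

theorem sub_one_commute {a b : Y} (h : a * b = b * a) : (ρ a - 1) * (ρ b - 1) = (ρ b - 1) * (ρ a - 1) :=
  LinearMap.ext (sub_one_comm h)

/-- polarisation -/
theorem cub_of_sq (h2 : (2 : k) ≠ 0) {W : Subgroup Y} (Z : Set Y) (hc : ∀ a ∈ W, ∀ b ∈ W, a * b = b * a)
    (hs : ∀ a ∈ W, a ∉ Z → ∀ c ∈ W, (ρ c - 1) * ((ρ a - 1) * (ρ a - 1)) = 0)
    (hd : ∀ a ∈ W, ∀ b ∈ W, ∃ a₁ ∈ W, ∃ a₂ ∈ W, a = a₁ * a₂ ∧ a₁ ∉ Z ∧ a₂ ∉ Z ∧ a₁ * b ∉ Z ∧ a₂ * b ∉ Z) :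
    Cub ρ W := by
  have s1 : ∀ a ∈ W, ∀ b ∈ W, ∀ c ∈ W, a ∉ Z → b ∉ Z → a * b ∉ Z → (ρ a - 1) * ((ρ b - 1) * (ρ c - 1)) = 0 := by
    intro a ha b hb c hcW h3 h4 h5
    have e0 := hs _ (mul_mem ha hb) h5 c hcW
    have e1 := hs a ha h3 c hcW
    have e2 := hs b hb h4 c hcW
    have e : ρ (a * b) - 1 = (ρ a - 1) + (ρ b - 1) + (ρ a - 1) * (ρ b - 1) := by
      rw [map_mul]; noncomm_ring
    have yx := sub_one_commute (ρ := ρ) (hc b hb a ha)
    have zx := sub_one_commute (ρ := ρ) (hc c hcW a ha)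
    have zy := sub_one_commute (ρ := ρ) (hc c hcW b hb)
    rw [e] at e0
    generalize ρ a - 1 = x at *
    generalize ρ b - 1 = y at *
    generalize ρ c - 1 = z at *
    have yx' : ∀ t, y * (x * t) = x * (y * t) := fun t => by rw [← mul_assoc, yx, mul_assoc]
    have zx' : ∀ t, z * (x * t) = x * (z * t) := fun t => by rw [← mul_assoc, zx, mul_assoc]
    have zy' : ∀ t, z * (y * t) = y * (z * t) := fun t => by rw [← mul_assoc, zy, mul_assoc]
    simp only [zx', zy', zx, zy] at e1 e2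
    have e3 : x * (x * (y * z)) = 0 := by rw [← yx', ← yx', e1, mul_zero]
    simp only [mul_add, add_mul, mul_assoc, yx, yx', zx, zx', zy, zy', e1, e2, e3, mul_zero, add_zero, zero_add] at e0
    rw [← two_smul k] at e0
    exact (smul_eq_zero.1 e0).resolve_left h2
  have s2 : ∀ a ∈ W, ∀ b ∈ W, ∀ c ∈ W, b ∉ Z → (ρ a - 1) * ((ρ b - 1) * (ρ c - 1)) = 0 := by
    intro a ha b hb c hcW h4
    obtain ⟨a₁, h5, a₂, h6, rfl, h7, h8, h9, h10⟩ := hd a ha b hb
    exact mul_kill (s1 _ h5 b hb c hcW h7 h4 h9) (s1 _ h6 b hb c hcW h8 h4 h10)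
  have s3 : ∀ a ∈ W, ∀ b ∈ W, ∀ c ∈ W, b ∉ Z → (ρ b - 1) * ((ρ a - 1) * (ρ c - 1)) = 0 := by
    intro a ha b hb c hcW h4
    rw [← mul_assoc, sub_one_commute (hc b hb a ha), mul_assoc]
    exact s2 a ha b hb c hcW h4
  intro b hb a ha c hcW
  obtain ⟨b₁, h5, b₂, h6, rfl, h7, h8, -⟩ := hd b hb 1 (one_mem _)
  rw [mul_assoc]
  exact mul_kill (s3 a ha _ h5 c hcW h7) (s3 a ha _ h6 c hcW h8)

end Cub

variable {K : Type*} [Field K] [Fintype K] {G : Type*} [Group G] [Finite G] {m : ℕ}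
  {U : K → K → K → G} {h : Kˣ → G} {n : G}

theorem w_mul (D : Data m U h n) (u v u' v' : K) : U 0 u v * U 0 u' v' = U 0 (u + u') (v + v') := by
  rw [D.U_mul]
  simp only [zero_pow_three_pow]
  congr 1 <;> ring

theorem w_inv (D : Data m U h n) (u v : K) : (U 0 u v)⁻¹ = U 0 (-u) (-v) := by
  rw [inv_eq_iff_mul_eq_one, w_mul D, add_neg_cancel, add_neg_cancel, D.U_zero]

/-- the elements of order dividing three of `U` -/
def wSub (D : Data m U h n) : Subgroup G where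
  carrier := {g | ∃ u v, g = U 0 u v}
  mul_mem' := by
    rintro _ _ ⟨u, v, rfl⟩ ⟨u', v', rfl⟩
    exact ⟨_, _, w_mul D _ _ _ _⟩
  one_mem' := ⟨0, 0, D.U_zero.symm⟩
  inv_mem' := by
    rintro _ ⟨u, v, rfl⟩
    exact ⟨_, _, w_inv D _ _⟩

theorem mem_wSub (D : Data m U h n) (hK : Fintype.card K = 3 ^ (2 * m + 1)) {g : G} :
    g ∈ wSub D ↔ g ∈ uSub D ∧ g ^ 3 = 1 := by
  constructor
  · rintro ⟨u, v, rfl⟩
    refine ⟨⟨_, _, _, rfl⟩, ?_⟩
    rw [U_cube D hK]
    simp [D.U_zero]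
  · rintro ⟨⟨t, u, v, rfl⟩, h3⟩
    rw [U_cube D hK, ← D.U_zero] at h3
    have h4 := (U_injective D h3).2.2
    rw [neg_eq_zero, ← pow_add] at h4
    rw [eq_zero_of_pow_eq_zero h4]
    exact ⟨u, v, rfl⟩

theorem elemAb_wSub (D : Data m U h n) (hK : Fintype.card K = 3 ^ (2 * m + 1)) : IsElementaryAbelian 3 (wSub D) := by
  refine elemAb_of ?_ fun a ha => ((mem_wSub D hK).1 ha).2
  rintro _ ⟨u, v, rfl⟩ _ ⟨u', v', rfl⟩
  rw [w_mul D, w_mul D, add_comm u, add_comm v]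

theorem card_wSub (D : Data m U h n) : Nat.card (wSub D) = Fintype.card K ^ 2 := by
  rw [← Nat.card_eq_fintype_card, pow_two, ← Nat.card_prod]
  refine (Nat.card_congr (Equiv.ofBijective (fun x : K × K => (⟨U 0 x.1 x.2, _, _, rfl⟩ : wSub D)) ⟨?_, ?_⟩)).symm
  · intro x y e
    exact Prod.ext (U_injective D (congrArg Subtype.val e)).2.1 (U_injective D (congrArg Subtype.val e)).2.2
  · rintro ⟨_, u, v, rfl⟩
    exact ⟨(u, v), rfl⟩

theorem zSub_le_wSub (D : Data m U h n) : zSub D ≤ wSub D := by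
  rintro _ ⟨v, rfl⟩
  exact ⟨0, v, rfl⟩

theorem w_mem_zSub (D : Data m U h n) {u v : K} : U 0 u v ∈ zSub D ↔ u = 0 :=
  ⟨fun ⟨_, e⟩ => (U_injective D e).2.1, fun e => ⟨v, by rw [e]⟩⟩

theorem bSub_le_normalizer (D : Data m U h n) {E : Subgroup G} (hE : ∀ g ∈ bSub D, ∀ x ∈ E, g * x * g⁻¹ ∈ E) :
    bSub D ≤ normalizer (E : Set G) := fun g hg => mem_normalizer_iff.2 fun x => ⟨hE g hg x, fun hx => by
  have := hE _ (inv_mem hg) _ hx
  rwa [show g⁻¹ * (g * x * g⁻¹) * g⁻¹⁻¹ = x by group] at this⟩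

theorem bSub_le_normalizer_wSub (D : Data m U h n) (hK : Fintype.card K = 3 ^ (2 * m + 1)) :
    bSub D ≤ normalizer (wSub D : Set G) := bSub_le_normalizer D fun g hg x hx => by
  rw [mem_wSub D hK] at hx ⊢
  exact ⟨conj_mem_uSub D hg hx.1, by rw [conj_pow, hx.2, mul_one, mul_inv_cancel]⟩

/-- elementary abelian subgroups are conjugate into `W` -/
theorem exists_conj_le (D : Data m U h n) (hK : Fintype.card K = 3 ^ (2 * m + 1)) {A : Subgroup G}
    (hA : ∀ a ∈ A, a ^ 3 = 1) : ∃ g : G, ∀ a ∈ A, g * a * g⁻¹ ∈ wSub D := by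
  obtain ⟨g, hg⟩ := three_le D hK (R := A) fun a => ⟨1, Subtype.ext (by rw [pow_one]; exact hA a a.2)⟩
  refine ⟨g⁻¹, fun a ha => (mem_wSub D hK).2 ⟨by rw [inv_inv]; exact hg a ha, ?_⟩⟩
  rw [conj_pow, hA a ha, mul_one, mul_inv_cancel]

theorem h_conj (D : Data m U h n) (a : Kˣ) (u v : K) : h a * U 0 u v * (h a)⁻¹ =
    U 0 ((a : K) ^ (3 ^ (m + 1) + 3) * u) ((a : K) ^ (2 * 3 ^ (m + 1) + 3) * v) := by
  rw [D.h_U, mul_zero, mul_inv_cancel_right]

theorem b_conj (D : Data m U h n) (t u v : K) (a : Kˣ) (w : K) : U t u v * h a * U 0 0 w * (U t u v * h a)⁻¹ =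
    U 0 0 ((a : K) ^ (2 * 3 ^ (m + 1) + 3) * w) := by
  have h1 := D.h_U a 0 0 w
  rw [mul_zero, mul_zero] at h1
  rw [mul_inv_eq_iff_eq_mul, mul_assoc, h1, ← mul_assoc, z_comm D, mul_assoc]

/-- `B` with inversion is transitive on `W \ Z` -/
theorem trans_w (D : Data m U h n) (hK : Fintype.card K = 3 ^ (2 * m + 1)) (P : G → Prop)
    (h1 : ∀ g ∈ bSub D, ∀ x, P x → P (g * x * g⁻¹)) (h2 : ∀ x, P x → P x⁻¹) {u v u' v' : K} (hu : u ≠ 0) (hu' : u' ≠ 0)
    (hP : P (U 0 u v)) : P (U 0 u' v') := by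
  have s1 : ∀ u v v' : K, u ≠ 0 → P (U 0 u v) → P (U 0 u v') := fun u v v' hu hP => by
    have e : U ((v' - v) / u) 0 0 * U 0 u v * (U ((v' - v) / u) 0 0)⁻¹ = U 0 u v' := by
      rw [mul_inv_eq_iff_eq_mul, D.U_mul, D.U_mul]
      simp only [zero_pow_three_pow]
      congr 1
      · ring
      · ring
      · field_simp
        ring
    exact e ▸ h1 _ (uSub_le_bSub D ⟨_, _, _, rfl⟩) _ hP
  have s2 : ∀ (b : Kˣ) (u : K), P (U 0 u 0) → P (U 0 ((b : K) * b * u) 0) := fun b u hP => by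
    have e := h_conj D (f m b) u 0
    rw [mul_zero, ← Units.val_pow_eq_pow_val, f_pow hK, pow_two, Units.val_mul] at e
    exact e ▸ h1 _ (h_mem_bSub D _) _ hP
  refine s1 _ 0 _ hu' ?_
  obtain ⟨b, hb | hb⟩ := exists_sq_or_neg hK (Units.mk0 u' hu' * (Units.mk0 u hu)⁻¹)
  · have h3 : u' = (b : K) * b * u := by
      have h4 := congrArg (fun x : Kˣ => (x : K)) hb
      simp only [Units.val_mul, Units.val_mk0, Units.val_inv_eq_inv_val] at h4
      rw [← h4, mul_assoc, inv_mul_cancel₀ hu, mul_one]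
    exact h3 ▸ s2 b u (s1 _ _ 0 hu hP)
  · have h3 : u' = -((b : K) * b * u) := by
      have h4 := congrArg (fun x : Kˣ => (x : K)) hb
      simp only [Units.val_mul, Units.val_mk0, Units.val_inv_eq_inv_val, Units.val_neg] at h4
      rw [← neg_mul, ← h4, mul_assoc, inv_mul_cancel₀ hu, mul_one]
    rw [h3, D.U_neg]
    exact h2 _ (s2 b u (s1 _ _ 0 hu hP))

/-- the subgroups of `W` normalised by `B` -/
theorem cases_of_normal (D : Data m U h n) (hK : Fintype.card K = 3 ^ (2 * m + 1)) {E : Subgroup G} (h1 : E ≤ wSub D)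
    (h2 : E ≠ ⊥) (h3 : bSub D ≤ normalizer (E : Set G)) : E = zSub D ∨ E = wSub D := by
  have h4 : ∀ g ∈ bSub D, ∀ x, x ∈ E → g * x * g⁻¹ ∈ E := fun g hg x hx => (mem_normalizer_iff.1 (h3 hg) x).1 hx
  by_cases hZ : E ≤ zSub D
  · refine Or.inl (le_antisymm hZ ?_)
    obtain ⟨⟨e, he⟩, he1⟩ := ne_bot_iff_exists_ne_one.1 h2
    obtain ⟨w, rfl⟩ := hZ he
    have hw : w ≠ 0 := fun e => he1 (Subtype.ext (show U 0 0 w = 1 by rw [e, D.U_zero]))
    rintro _ ⟨v, rfl⟩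
    by_cases hv : v = 0
    · rw [hv, D.U_zero]
      exact one_mem _
    have hinj : Function.Injective (powMonoidHom (2 * 3 ^ (m + 1) + 3) : Kˣ →* Kˣ) :=
      (injective_iff_map_eq_one _).2 fun a ha => ReeTorus.eq_one_of_pow_two_mul_add_three hK a ha
    obtain ⟨a, ha⟩ := Finite.surjective_of_injective hinj (Units.mk0 v hv * (Units.mk0 w hw)⁻¹)
    have ha' : (a : K) ^ (2 * 3 ^ (m + 1) + 3) * w = v := by
      have h5 := congrArg (fun x : Kˣ => (x : K)) ha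
      simp only [powMonoidHom_apply, Units.val_pow_eq_pow_val, Units.val_mul, Units.val_mk0,
        Units.val_inv_eq_inv_val] at h5
      rw [h5, mul_assoc, inv_mul_cancel₀ hw, mul_one]
    have h5 := h4 _ (h_mem_bSub D a) _ he
    rwa [h_conj D, mul_zero, ha'] at h5
  · refine Or.inr (le_antisymm h1 ?_)
    obtain ⟨e, he, he1⟩ := SetLike.not_le_iff_exists.1 hZ
    obtain ⟨u, v, rfl⟩ := h1 he
    have h5 : ∀ u' v', u' ≠ 0 → U 0 u' v' ∈ E := fun u' v' hu' =>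
      trans_w D hK (· ∈ E) h4 (fun _ hx => inv_mem hx) (fun e => he1 ((w_mem_zSub D).2 e)) hu' he
    rintro _ ⟨u', v', rfl⟩
    by_cases hu' : u' = 0
    · have h6 := mul_mem (h5 1 v' one_ne_zero) (h5 (-1) 0 (neg_ne_zero.2 one_ne_zero))
      rw [w_mul D, add_neg_cancel, add_zero] at h6
      rwa [hu']
    · exact h5 _ _ hu'

/-- an element of order three that commutes with an involution is conjugate into `W \ Z` -/
theorem exists_conj_w (D : Data m U h n) (hK : Fintype.card K = 3 ^ (2 * m + 1)) {y j : G} (hy : orderOf y = 3)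
    (hj : orderOf j = 2) (hc : j * y = y * j) : ∃ g u v, u ≠ 0 ∧ g * y * g⁻¹ = U 0 u v := by
  obtain ⟨g, hg⟩ := exists_conj_le D hK (A := zpowers y) (elemAb_zpowers (hy ▸ pow_orderOf_eq_one y)).2
  obtain ⟨u, v, e⟩ := hg y (mem_zpowers y)
  refine ⟨g, u, v, fun hu => ?_, e⟩
  subst hu
  have h1 : U 0 0 v ≠ 1 := fun e' => by
    rw [e', conj_eq_one_iff] at e
    rw [e, orderOf_one] at hy
    omega
  have h2 : g * j * g⁻¹ * U 0 0 v = U 0 0 v * (g * j * g⁻¹) := by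
    rw [← e]
    calc _ = g * (j * y) * g⁻¹ := by group
      _ = _ := by rw [hc]; group
  rcases mem_or_of_commute D hK ⟨_, _, _, rfl⟩ h1 h2 with h3 | ⟨_, ⟨t', u', v', rfl⟩, h3⟩
  · have h4 := pow_nine D hK h3
    rw [conj_pow, conj_eq_one_iff, ← orderOf_dvd_iff_pow_eq_one, hj] at h4
    omega
  · rw [h3, ← mul_inv_eq_iff_eq_mul, b_conj D] at h2
    have h4 := eq_one_of_mul_eq' hK (U_injective D h2).2.2 fun e' => h1 (by rw [e', D.U_zero])
    exact neg_one_ne_one hK (by simpa using congrArg Units.val h4)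

/-- the fixed points in `Z` of an outer automorphism -/
theorem card_fix_sq (D : Data m U h n) {Φ : (K ≃+* K) → MulAut G} (F : H71.ReeOut.Fld D Φ) {g : G} {τ : K ≃+* K}
    (hτ : τ ≠ 1) {E : Subgroup G} (hE : E ≤ zSub D) (hf : ∀ e ∈ E, g * Φ τ e * g⁻¹ = e) :
    Nat.card E ^ 2 ≤ Fintype.card K := by
  by_cases h0 : E = ⊥
  · rw [h0, card_bot, one_pow]
    exact Fintype.card_pos
  obtain ⟨⟨e, he⟩, he1⟩ := ne_bot_iff_exists_ne_one.1 h0
  obtain ⟨t, u, v, d, rfl⟩ : g ∈ bSub D := by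
    obtain ⟨w, rfl⟩ := hE he
    refine mem_bSub_of_conj D (x := U 0 0 w) (y := Φ τ (U 0 0 w)) ⟨_, _, _, rfl⟩ ⟨_, _, _, F.onU τ _ _ _⟩
      (fun e => he1 (Subtype.ext e)) ?_
    exact (mul_inv_eq_iff_eq_mul.1 (hf _ he)).symm
  obtain ⟨c, hc⟩ : ∃ c, τ c ≠ c := by
    by_contra e
    push Not at e
    exact hτ (RingEquiv.ext e)
  choose co hco using fun e : E => hE e.2
  have h1 : ∀ e : E, (d : K) ^ (2 * 3 ^ (m + 1) + 3) * τ (co e) = co e := fun e => by
    have h2 := hf e e.2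
    rw [hco e, F.onU, map_zero, b_conj D] at h2
    exact (U_injective D h2).2.2
  have h2 : Function.Injective co := fun a b e => Subtype.ext (by rw [hco a, hco b, e])
  rw [pow_two, ← Nat.card_prod, ← Nat.card_eq_fintype_card]
  refine Nat.card_le_card_of_injective (fun x : E × E => co x.1 + co x.2 * c) fun x y e => ?_
  have h3 := congrArg (fun s => (d : K) ^ (2 * 3 ^ (m + 1) + 3) * τ s) e
  simp only [map_add, map_mul, mul_add, ← mul_assoc, h1] at h3
  have h4 : co x.2 = co y.2 := by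
    have h5 : (co x.2 - co y.2) * (τ c - c) = 0 := by
      have e' : co x.1 + co x.2 * c = co y.1 + co y.2 * c := e
      linear_combination h3 - e'
    exact sub_eq_zero.1 ((mul_eq_zero.1 h5).resolve_right (sub_ne_zero.2 hc))
  rw [h4] at h3
  exact Prod.ext (h2 (add_right_cancel h3)) (h2 h4)

section Rep

variable {V : Type*} [AddCommGroup V] [Module (ZMod 3) V] [Finite V] {ρ : Representation (ZMod 3) G V}

theorem cod_w (D : Data m U h n) (hK : Fintype.card K = 3 ^ (2 * m + 1)) {c : ℕ} {y j : G} (hy : orderOf y = 3)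
    (hj : orderOf j = 2) (hc : j * y = y * j) (h1 : c ≤ cod ρ (zpowers y)) {w : G} (hw : w ∈ wSub D)
    (hz : w ∉ zSub D) : c ≤ cod ρ (zpowers w) := by
  obtain ⟨g, u, v, hu, e⟩ := exists_conj_w D hK hy hj hc
  obtain ⟨u', v', rfl⟩ := hw
  exact trans_w D hK (fun x => c ≤ cod ρ (zpowers x)) (fun g _ x hx => by rwa [cod_zpowers_conj])
    (fun x hx => by rwa [zpowers_inv]) hu (fun e => hz ((w_mem_zSub D).2 e)) (by rwa [← e, cod_zpowers_conj])

theorem cub_wSub (D : Data m U h n) (hm : 1 ≤ m) (hK : Fintype.card K = 3 ^ (2 * m + 1))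
    (h1 : ∀ w ∈ wSub D, w ∉ zSub D → cod ρ (wSub D) ≤ cod ρ (zpowers w)) : Cub ρ (wSub D) := by
  classical
  refine cub_of_sq (by decide) (zSub D) (fun a ha b hb => elemAb_comm (elemAb_wSub D hK) ha hb)
    (fun a ha hz c hc => ?_) ?_
  · have h2 : fx ρ (wSub D) = fx ρ (zpowers a) := by
      have h3 := h1 a ha hz
      have h4 := cod_add (ρ := ρ) (wSub D)
      have h5 := cod_add (ρ := ρ) (zpowers a)
      exact Submodule.eq_of_le_of_finrank_le (fx_anti ((zpowers_le).2 ha)) (by omega)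
    have h3 := sub_one_pow (ρ := ρ) (p := 3) (n := 1) (by rw [pow_one]; exact (elemAb_wSub D hK).2 a ha)
    rw [pow_one, pow_three] at h3
    ext v
    have h4 : (ρ a - 1) ((ρ a - 1) v) ∈ fx ρ (wSub D) := by
      rw [h2, fx_zpowers]
      exact DFunLike.congr_fun h3 v
    exact sub_eq_zero.2 (h4 c hc)
  · rintro _ ⟨u, v, rfl⟩ _ ⟨u', v', rfl⟩
    obtain ⟨t, -, ht⟩ := Finset.exists_mem_notMem_of_card_lt_card (s := ({0, -u', u, u + u'} : Finset K))
      (t := Finset.univ) (by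
        have h2 : 3 ^ 3 ≤ 3 ^ (2 * m + 1) := Nat.pow_le_pow_right (by norm_num) (by omega)
        have h3 := Finset.card_le_four (a := (0 : K)) (b := -u') (c := u) (d := u + u')
        rw [Finset.card_univ, hK]
        omega)
    simp only [Finset.mem_insert, Finset.mem_singleton, not_or] at ht
    refine ⟨U 0 t 0, ⟨_, _, rfl⟩, U 0 (u - t) v, ⟨_, _, rfl⟩, by rw [w_mul D, add_sub_cancel, zero_add], ?_, ?_, ?_, ?_⟩
    · exact fun e => ht.1 ((w_mem_zSub D).1 e)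
    · exact fun e => ht.2.2.1 (sub_eq_zero.1 ((w_mem_zSub D).1 e)).symm
    · rw [w_mul D]
      exact fun e => ht.2.1 (eq_neg_of_add_eq_zero_left ((w_mem_zSub D).1 e))
    · rw [w_mul D]
      exact fun e => ht.2.2.2 (by linear_combination -(w_mem_zSub D).1 e)

theorem cub_zSub (D : Data m U h n) (hm : 1 ≤ m) (hK : Fintype.card K = 3 ^ (2 * m + 1))
    (h1 : cod ρ (zSub D) ≤ 2 * (2 * m + 1)) : Cub ρ (zSub D) := by
  obtain ⟨s, hs, s1, -, s2⟩ := Lib.Zsigmondy.exists_primitive (a := 3) (n := 2 * m + 1) (by norm_num) (by omega)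
    (by omega) (by omega)
  have := Fact.mk hs
  obtain ⟨a, ha⟩ := exists_prime_orderOf_dvd_card' (G := Kˣ) s (by
    rw [Nat.card_units, Nat.card_eq_fintype_card, hK]
    exact (s1 _).2 dvd_rfl)
  have ha2 : a ^ 2 ≠ 1 := fun e => by
    rw [← orderOf_dvd_iff_pow_eq_one, ha] at e
    have := Nat.le_of_dvd one_pos ((s1 1).1 e)
    omega
  have hZ := elemAb_of_le (elemAb_wSub D hK) (zSub_le_wSub D)
  have hX : IsPGroup s (zpowers (h a)) := elemAb_isPGroup (elemAb_zpowers (by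
    rw [← h_pow D, ← ha, pow_orderOf_eq_one, D.h_one]))
  have hN : zpowers (h a) ≤ normalizer (zSub D : Set G) :=
    ((zpowers_le).2 (h_mem_bSub D a)).trans (bSub_le_normalizer D fun g hg x hx => b_conj_z D hg hx)
  have hB : Nat.card (zSub D) = 3 ^ (2 * m + 1) := (card_zSub D).trans hK
  have hcj : ∀ v, h a * U 0 0 v * (h a)⁻¹ = U 0 0 ((a : K) ^ (2 * 3 ^ (m + 1) + 3) * v) := fun v => by
    rw [h_conj D, mul_zero]
  have hi : IrrOn (zSub D) (zpowers (h a)) := fun E hE hi => by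
    obtain ⟨r, hr⟩ := ((elemAb_isPGroup hZ).to_le hE).exists_card_eq
    have c1 := TC.Sz.dvd_of_fpf hX hi fun e he h2 => by
      obtain ⟨v, rfl⟩ := hE he
      have h3 := h2 _ (mem_zpowers _)
      rw [hcj] at h3
      by_contra h4
      exact ha2 (by rw [eq_one_of_mul_eq' hK (U_injective D h3).2.2 fun e => h4 (by rw [e, D.U_zero]), one_pow])
    rw [hr, s1] at c1
    rcases Nat.eq_zero_or_pos r with c2 | c2
    · exact Or.inl (card_eq_one.1 (by rw [hr, c2, pow_zero]))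
    · exact Or.inr (eq_of_le_of_card_ge hE (by
        rw [hB, hr]
        exact Nat.pow_le_pow_right (by norm_num) (Nat.le_of_dvd c2 c1)))
  by_contra hn
  have key := layers_of_order (k := ZMod 3) (n := 2 * m + 1) hZ hN le_rfl (fun H' c1 _ _ =>
    ⟨NoLin.mono (noLin_of_irr hN hi ?_) c1,
      OneForm.mono (fun F F' c2 _ => ⟨1, 0, Or.inl one_ne_zero, fun x hx y hy => ?_⟩) c1⟩) hn ?_ hX
    fun d d1 d2 d3 => ?_
  · omega
  · rw [Nat.card_zmod, hB]
    exact lt_of_lt_of_le (by norm_num) (Nat.pow_le_pow_right (by norm_num) (by omega : 2 ≤ 2 * m + 1))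
  · rw [one_mul, zero_mul]
    rcases hi (kerOn (zSub D) (fun (b : zSub D) a => F a b) fun b => c2.add b b.2) (fun _ h => h.1) (fun g hg e he =>
      ⟨(mem_normalizer_iff.1 (hN hg) e).1 he.1, fun b => by
        have c3 := c2.inv g hg e he.1 _ (conj_mem_of_normalizer' (hN hg) b.2)
        rw [show g * (g⁻¹ * b * g) * g⁻¹ = b by group] at c3
        exact c3.trans (he.2 ⟨_, conj_mem_of_normalizer' (hN hg) b.2⟩)⟩) with c3 | c3
    · exfalso
      obtain ⟨ν, hν⟩ : ∃ ν, ν = (a : K) ^ (2 * 3 ^ (m + 1) + 3) := ⟨_, rfl⟩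
      rw [← hν] at hcj
      have hadd : ∀ v w t, F (U 0 0 (v + w)) (U 0 0 t) = F (U 0 0 v) (U 0 0 t) + F (U 0 0 w) (U 0 0 t) :=
        fun v w t => by
          have c4 := c2.add _ ⟨t, rfl⟩ _ ⟨v, rfl⟩ _ ⟨w, rfl⟩
          rwa [w_mul D, add_zero] at c4
      obtain ⟨v, hv, c4⟩ := exists_rad hK (fun v w => F (U 0 0 v) (U 0 0 (ν * w)) - F (U 0 0 (ν * v)) (U 0 0 w))
        (fun v w t => by rw [mul_add, hadd, hadd]; ring)
        fun v w => by
          rw [c2.symm (U 0 0 v) ⟨_, rfl⟩ _ ⟨_, rfl⟩, c2.symm (U 0 0 (ν * v)) ⟨_, rfl⟩ _ ⟨_, rfl⟩]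
          ring
      have hν0 : ν ≠ 0 := hν ▸ pow_ne_zero _ a.ne_zero
      have c5 : U 0 0 (ν * (ν * v) - v) = 1 := mem_bot.1 (c3.le ⟨⟨_, rfl⟩, fun ⟨_, w, e⟩ => by
        subst e
        have c6 := c4 (ν⁻¹ * w)
        have c7 := c2.inv _ (mem_zpowers _) (U 0 0 (ν * v)) ⟨_, rfl⟩ (U 0 0 (ν⁻¹ * w)) ⟨_, rfl⟩
        have c8 := hadd (ν * (ν * v) - v) v w
        rw [hcj, hcj] at c7
        rw [mul_inv_cancel_left₀ hν0] at c6 c7
        rw [sub_add_cancel] at c8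
        show F _ (U 0 0 w) = 0
        linear_combination c7 - c6 - c8⟩)
      rw [← D.U_zero] at c5
      refine ha2 (eq_one_of_mul_eq' hK ?_ hv)
      rw [Units.val_pow_eq_pow_val, ← pow_mul, mul_comm 2, pow_mul, ← hν]
      linear_combination (U_injective D c5).2.2
    · exact (c3.ge hx).2 ⟨y, hy⟩
  · rwa [Nat.card_zmod]
  · rw [Nat.card_zmod] at d3
    exact absurd (Nat.le_of_dvd d1 ((s1 d).1 ((Nat.modEq_iff_dvd' (Nat.one_le_pow _ _ (by norm_num))).1 d3.symm)))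
      d2.not_ge

/-- offenders inside the group -/
theorem core (D : Data m U h n) (hm : 1 ≤ m) (hK : Fintype.card K = 3 ^ (2 * m + 1))
    (h4 : ∀ w ∈ wSub D, w ∉ zSub D → 4 * (2 * m + 1) ≤ cod ρ (zpowers w)) {A : Subgroup G} (hA : Off 3 ρ A) :
    ∃ B, Off 3 ρ B ∧ Cub ρ B := by
  obtain ⟨g, hg⟩ := exists_conj_le D hK hA.1.2
  obtain ⟨B, b1, b2, b3, -⟩ := lattice (by norm_num) (elemAb_wSub D hK) (hA.conj g) (by
    rintro _ ⟨a, ha, rfl⟩
    exact hg a ha)
  refine ⟨B, b2, ?_⟩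
  have h1 := b2.2.2
  rcases cases_of_normal D hK b1 b2.2.1 ((bSub_le_normalizer_wSub D hK).trans b3) with rfl | rfl
  · rw [card_zSub D, hK, ← pow_mul, Nat.pow_le_pow_iff_right (by norm_num)] at h1
    exact cub_zSub D hm hK (by omega)
  · rw [card_wSub D, hK, ← pow_mul, ← pow_mul, Nat.pow_le_pow_iff_right (by norm_num)] at h1
    exact cub_wSub D hm hK fun w hw hz => le_trans (by omega) (h4 w hw hz)

end Rep

end Cfsg.Agent.TwoF.DC.TF.G2
end

-- part: TwoF/DC/TFG/G2/Ree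
section
/-!
# TwoF, the small Ree groups in characteristic three (helper78)
-/

set_option autoImplicit false
set_option linter.unusedSectionVars false

namespace Cfsg.Agent.TwoF.DC.TF.G2

open Cfsg Cfsg.Lie Cfsg.Agent.TwoF.Gen Subgroup Cfsg.Agent.LieRecognition Cfsg.Agent.LieRecognition.ReeAbs
  Cfsg.Agent.LieRecognition.ReeSylowThree Cfsg.Agent.LieRecognition.ReeSplit Cfsg.Agent.H452.RG.ReeD

/-- commuting elements of orders two and three in the normaliser of a cyclic group -/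
theorem exists_six {G : Type*} [Group G] [Finite G] {x : G} (h6 : 6 ∣ Nat.card (normalizer (zpowers x : Set G)))
    (hc : ∀ g : G, orderOf g = 2 ∨ orderOf g = 3 → g * x ≠ x * g) :
    ∃ y j : G, orderOf y = 3 ∧ orderOf j = 2 ∧ j * y = y * j ∧ y ∈ normalizer (zpowers x : Set G) := by
  obtain ⟨j, hj⟩ := exists_prime_orderOf_dvd_card' 2 ((by norm_num : 2 ∣ 6).trans h6)
  obtain ⟨y, hy⟩ := exists_prime_orderOf_dvd_card' 3 ((by norm_num : 3 ∣ 6).trans h6)
  let ψ := (zpowers x).normalizerMonoidHom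
  have h1 : ∀ g, orderOf g = 2 ∨ orderOf g = 3 → ψ g ≠ 1 := fun g hg e => by
    have h2 : g ∈ ψ.ker := e
    rw [normalizerMonoidHom_ker, mem_subgroupOf, mem_centralizer_iff] at h2
    exact hc g (by rwa [Subgroup.orderOf_coe]) (h2 x (mem_zpowers x)).symm
  have h2 : orderOf (ψ j) = 2 := orderOf_eq_prime (by rw [← map_pow, ← hj, pow_orderOf_eq_one, map_one]) (h1 j (Or.inl hj))
  have h3 : orderOf (ψ y) = 3 := orderOf_eq_prime (by rw [← map_pow, ← hy, pow_orderOf_eq_one, map_one]) (h1 y (Or.inr hy))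
  have h4 : Commute (ψ j) (ψ y) := (IsCyclic.mulAutMulEquiv (zpowers x)).injective (by rw [map_mul, map_mul, mul_comm])
  have h5 : 6 ∣ orderOf (j * y) := by
    have h7 := orderOf_map_dvd ψ (j * y)
    rwa [map_mul, h4.orderOf_mul_eq_mul_orderOf_of_coprime (by rw [h2, h3]; norm_num), h2, h3] at h7
  refine ⟨((j * y) ^ (orderOf (j * y) / 3) : normalizer (zpowers x : Set G)),
    ((j * y) ^ (orderOf (j * y) / 2) : normalizer (zpowers x : Set G)), ?_, ?_, ?_, Subtype.prop _⟩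
  · rw [Subgroup.orderOf_coe, orderOf_pow_orderOf_div (orderOf_pos _).ne' ((by norm_num : 3 ∣ 6).trans h5)]
  · rw [Subgroup.orderOf_coe, orderOf_pow_orderOf_div (orderOf_pos _).ne' ((by norm_num : 2 ∣ 6).trans h5)]
  · rw [← coe_mul, ← coe_mul, pow_mul_comm]

theorem arith {m r : ℕ} (hr : r.Prime) (h1 : ∀ d, r ∣ 3 ^ d - 1 ↔ 6 * (2 * m + 1) ∣ d) :
    ¬ r ∣ 3 ^ (2 * m + 1) - 1 ∧ ¬ r ∣ 3 ^ (2 * m + 1) + 1 ∧
      (r ∣ 3 ^ (2 * m + 1) - 3 ^ (m + 1) + 1 ∨ r ∣ 3 ^ (2 * m + 1) + 3 ^ (m + 1) + 1) := by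
  have h2 : ∀ c, 0 < c → c < 6 → ¬ r ∣ (3 ^ (2 * m + 1)) ^ c - 1 := fun c c0 c6 e => by
    rw [← pow_mul, h1] at e
    have := Nat.le_of_dvd (by positivity) e
    nlinarith
  have h3 : r ∣ (3 ^ (2 * m + 1)) ^ 6 - 1 := by rw [← pow_mul, h1, mul_comm]
  have h4 : 3 ^ (m + 1) * 3 ^ (m + 1) = 3 * 3 ^ (2 * m + 1) := by ring
  have h5 : 3 ^ (m + 1) ≤ 3 ^ (2 * m + 1) := Nat.pow_le_pow_right (by norm_num) (by omega)
  have h6 : 1 ≤ 3 ^ (2 * m + 1) := Nat.one_le_pow _ _ (by norm_num)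
  generalize 3 ^ (2 * m + 1) = q at *
  generalize 3 ^ (m + 1) = t at *
  have h7 : ¬ r ∣ q + 1 := fun e => h2 2 (by norm_num) (by norm_num) (by
    have : q ^ 2 - 1 = (q + 1) * (q - 1) := by
      zify [h6, Nat.one_le_pow 2 q h6]
      ring
    exact this ▸ e.mul_right _)
  refine ⟨by simpa only [_root_.pow_one] using h2 1 one_pos (by norm_num), h7, ?_⟩
  have h8 : q ^ 6 - 1 = (q ^ 3 - 1) * ((q + 1) * ((q - t + 1) * (q + t + 1))) := by
    zify [h5, Nat.one_le_pow 6 q h6, Nat.one_le_pow 3 q h6] at h4 ⊢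
    linear_combination ((q : ℤ) ^ 3 - 1) * (q + 1) * h4
  rw [h8, hr.dvd_mul, hr.dvd_mul, hr.dvd_mul] at h3
  exact (h3.resolve_left (h2 3 (by norm_num) (by norm_num))).resolve_left h7

section Model

variable {K : Type} [Field K] [Fintype K] {m : ℕ}

theorem exists_big (hm : 1 ≤ m) (hK : Fintype.card K = 3 ^ (2 * m + 1)) :
    ∃ (r : ℕ) (x y j : ↥(twistedG2 K (3 ^ m))), r.Prime ∧ (∀ d, r ∣ 3 ^ d - 1 ↔ 6 * (2 * m + 1) ∣ d) ∧ ¬ r ∣ 3 ∧
      orderOf x = r ∧ orderOf y = 3 ∧ orderOf j = 2 ∧ j * y = y * j ∧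
      y ∈ normalizer (zpowers x : Set ↥(twistedG2 K (3 ^ m))) ∧ y * x ≠ x * y := by
  obtain ⟨U, h, n, D⟩ := ChevalleyStructure.Ree.Data.exists_data (K := K) hK
  have := ReeSylowThree.finite D
  obtain ⟨r, hr, r1, -, r2⟩ := Lib.Zsigmondy.exists_primitive (a := 3) (n := 6 * (2 * m + 1)) (by norm_num) (by omega)
    (by omega) (by omega)
  have := Fact.mk hr
  obtain ⟨a1, a2, a3⟩ := arith hr r1
  have r3 : ¬ r ∣ 2 := fun e => by
    have := Nat.le_of_dvd one_pos ((r1 1).1 e)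
    omega
  have e1 : 3 ^ (m + 1) ≤ 3 ^ (2 * m + 1) := Nat.pow_le_pow_right (by norm_num) (by omega)
  have e2 : 3 ^ (2 * m + 1) % 6 = 3 := by
    have := three_pow_odd_mod m
    have : 3 ∣ 3 ^ (2 * m + 1) := dvd_pow_self 3 (by omega)
    omega
  have e3 : 3 ^ (m + 1) % 6 = 3 := by
    have := Nat.odd_iff.1 (odd_three_pow (m + 1))
    have : 3 ∣ 3 ^ (m + 1) := dvd_pow_self 3 (by omega)
    omega
  have key : ∀ g : ↥(twistedG2 K (3 ^ m)), r ∣ orderOf g → ¬ 2 ∣ orderOf g ∧ ¬ 3 ∣ orderOf g := fun g hg => by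
    rcases (S1159.result hm hK _).1 ⟨g, rfl⟩ with e | e | e | e | e | e
    · exact (((hr.dvd_mul (m := 2) (n := 3)).1 (hg.trans e)).elim r3 r2).elim
    · exact (r2 (hr.dvd_of_dvd_pow (n := 2) (hg.trans e))).elim
    · exact (a1 (hg.trans e)).elim
    · exact (a2 ((hg.trans e).trans (Dvd.intro 2 (by omega)))).elim
    · exact ⟨fun e' => by have := e'.trans e; omega, fun e' => by have := e'.trans e; (clear * - this; omega)⟩
    · exact ⟨fun e' => by have := e'.trans e; omega, fun e' => by have := e'.trans e; (clear * - this; omega)⟩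
  obtain ⟨k, hk, A, -, b2, b3, b4⟩ : ∃ k, r ∣ k ∧ ∃ A : Subgroup ↥(twistedG2 K (3 ^ m)), IsCyclic A ∧ Nat.card A = k ∧
      Nat.card (normalizer (A : Set ↥(twistedG2 K (3 ^ m)))) = 6 * k ∧ ∀ A₀ ≤ A, A₀ ≠ ⊥ →
        normalizer (A₀ : Set ↥(twistedG2 K (3 ^ m))) = normalizer (A : Set ↥(twistedG2 K (3 ^ m))) := by
    rcases a3 with e | e
    · exact ⟨_, e, S1158.result hm hK (_, _) (Or.inr (Or.inr (Or.inl rfl)))⟩
    · exact ⟨_, e, S1158.result hm hK (_, _) (Or.inr (Or.inr (Or.inr rfl)))⟩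
  obtain ⟨⟨x, hxA⟩, hx⟩ := exists_prime_orderOf_dvd_card' r (b2 ▸ hk)
  rw [Subgroup.orderOf_mk] at hx
  have hc : ∀ g, orderOf g = 2 ∨ orderOf g = 3 → g * x ≠ x * g := fun g hg e => by
    have h1 : (orderOf g).Coprime (orderOf x) := by
      rw [hx, Nat.coprime_comm, hr.coprime_iff_not_dvd]
      rcases hg with hg | hg <;> rwa [hg]
    have h2 := Commute.orderOf_mul_eq_mul_orderOf_of_coprime e h1
    obtain ⟨h3, h4⟩ := key (g * x) (h2 ▸ hx ▸ dvd_mul_left _ _)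
    rw [h2] at h3 h4
    rcases hg with hg | hg
    · exact h3 (by rw [hg]; exact dvd_mul_right _ _)
    · exact h4 (by rw [hg]; exact dvd_mul_right _ _)
  obtain ⟨y, j, c1, c2, c3, c4⟩ := exists_six (x := x) (by
    rw [b4 _ ((zpowers_le).2 hxA) fun e => ?_, b3]
    · exact dvd_mul_right _ _
    · rw [zpowers_eq_bot.1 e, orderOf_one] at hx
      exact hr.one_lt.ne hx) hc
  exact ⟨r, x, y, j, hr, r1, r2, hx, c1, c2, c3, c4, hc y (Or.inr c1)⟩

variable {V : Type*} [AddCommGroup V] [Module (ZMod 3) V] [Finite V]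

/-- the lower bounds for the codimensions -/
theorem bounds (hm : 1 ≤ m) (hK : Fintype.card K = 3 ^ (2 * m + 1)) {U : K → K → K → ↥(twistedG2 K (3 ^ m))}
    {h : Kˣ → ↥(twistedG2 K (3 ^ m))} {n : ↥(twistedG2 K (3 ^ m))} (D : Data m U h n)
    {ρ : Representation (ZMod 3) ↥(twistedG2 K (3 ^ m)) V} (hf : Function.Injective ρ) :
    (∀ g l, l.Prime → 5 ≤ l → l ∣ orderOf g → 3 * (2 * m + 1) ≤ cod ρ (zpowers g)) ∧
      ∀ w ∈ wSub D, w ∉ zSub D → 4 * (2 * m + 1) ≤ cod ρ (zpowers w) := by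
  have := ReeSylowThree.finite D
  obtain ⟨r, x, y, j, hr, r1, r2, hx, hy, hj, h1, h2, h3⟩ := exists_big hm hK
  have := Fact.mk hr
  have hx1 : x ≠ 1 := fun e => by
    rw [e, orderOf_one] at hx
    exact hr.one_lt.ne hx
  have h4 : 6 * (2 * m + 1) ≤ cod ρ (zpowers x) := le_cod_of_order (s := r) hf (by rwa [Nat.card_zmod])
    (fun d d1 d2 d3 => by
      rw [Nat.card_zmod] at d3
      exact absurd (Nat.le_of_dvd d1 ((r1 d).1 ((Nat.modEq_iff_dvd' (Nat.one_le_pow _ _ (by norm_num))).1 d3.symm)))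
        d2.not_ge) (elemAb_isPGroup (elemAb_zpowers (hx ▸ pow_orderOf_eq_one x))) fun e => hx1 (zpowers_eq_bot.1 e)
  refine ⟨fun g l hl h5 h6 => ?_, fun w hw hz => cod_w D hK hy hj h1 ?_ hw hz⟩
  · have h7 := orderOf_pow_orderOf_div ((orderOf_pos g).ne' :) h6
    obtain ⟨u, v, e⟩ := S2458.result m hm hK (g ^ (orderOf g / l)) (by omega) (fun e => by
      have := (Nat.prime_dvd_prime_iff_eq Nat.prime_three hl).1 (h7 ▸ e)
      omega) x hx1
    have h8 := cod_zpowers_mul_le (ρ := ρ) (u * g ^ (orderOf g / l) * u⁻¹) (v * g ^ (orderOf g / l) * v⁻¹)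
    rw [← e, cod_zpowers_conj, cod_zpowers_conj] at h8
    have h9 : cod ρ (zpowers (g ^ (orderOf g / l))) ≤ cod ρ (zpowers g) :=
      cod_mono ((zpowers_le).2 (pow_mem (mem_zpowers g) _))
    omega
  · have h5 := frobenius_bound_elt (ρ := ρ) hr hx (fun e => r2 (by
      rw [(Nat.prime_dvd_prime_iff_eq Nat.prime_three hr).1 ((CharP.cast_eq_zero_iff (ZMod 3) 3 r).1 e)])) hy h2 h3
    omega

theorem fld_one : S2127.fld (1 : K ≃+* K) (3 ^ m) = 1 := by
  ext x : 1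
  apply Subtype.ext
  apply Units.ext
  rw [H71.FldAut.coe_fldG]
  ext i j
  rfl

/-- an offender lies in the simple group -/
theorem le_range (hm : 1 ≤ m) (hK : Fintype.card K = 3 ^ (2 * m + 1)) {Y : Type*} [Group Y] [Finite Y]
    {ρ : Representation (ZMod 3) Y V} (hf : Function.Injective ρ) {ι : ↥(twistedG2 K (3 ^ m)) →* Y}
    (hι : Function.Injective ι) {φ : Y →* MulAut ↥(twistedG2 K (3 ^ m))} (h1 : ∀ y s, ι (φ y s) = y * ι s * y⁻¹)
    (h2 : ∀ y g, φ y = MulAut.conj g → y ∈ ι.range) {A : Subgroup Y} (hA : Off 3 ρ A)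
    (h3 : ι.range.relIndex A ∣ 2 * m + 1) : A ≤ ι.range := by
  obtain ⟨θ, c⟩ := ChevalleyStructure.Ree.Normal.exists_ctx hK
  have D := ChevalleyStructure.Ree.Data.data c
  have F := H71.FldAut.reeFld c
  have := ReeSylowThree.finite D
  obtain ⟨b1, b2⟩ := bounds hm hK D (ρ := ρ.comp ι) (hf.comp hι)
  have hc : ∀ s, cod (ρ.comp ι : Representation (ZMod 3) _ V) (zpowers s) = cod ρ (zpowers (ι s)) := fun s => by
    rw [cod_comp, MonoidHom.map_zpowers]
  by_contra hn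
  obtain ⟨a, ha, ha1⟩ := SetLike.not_le_iff_exists.1 hn
  obtain ⟨r, -, r1, r2⟩ := hA.exists_card
  -- the outer element
  have c1 : 3 * (2 * m + 1) ≤ 2 * cod ρ A := by
    obtain ⟨g, l, hl, l5, hg⟩ := H452.RG.outer_three hm hK (φ a) (by rw [← map_pow, hA.1.2 a ha, map_one])
      fun ⟨g, e⟩ => ha1 (h2 a g e)
    have h4 := b1 _ l hl l5 hg
    have h5 := cod_zpowers_commutator_le (ρ := ρ) a (ι g)
    rw [hc, map_mul, map_inv, h1, show (ι g)⁻¹ * (a * ι g * a⁻¹) = (ι g)⁻¹ * (a * ι g * a⁻¹ * (ι g)⁻¹) * (ι g)⁻¹⁻¹ by group,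
      cod_zpowers_conj] at h4
    have h6 : cod ρ (zpowers a) ≤ cod ρ A := cod_mono ((zpowers_le).2 ha)
    omega
  -- the inner part
  obtain ⟨g, hg⟩ := exists_conj_le D hK (A := A.comap ι) fun s hs => hι (by rw [map_pow, map_one]; exact hA.1.2 _ hs)
  obtain ⟨A₀, hA₀⟩ : ∃ A₀, A₀ = (A.comap ι).map (MulAut.conj g).toMonoidHom := ⟨_, rfl⟩
  have c2 : A₀ ≤ wSub D := by
    rw [hA₀]
    rintro _ ⟨s, hs, rfl⟩
    exact hg s hs
  have c3 : Nat.card A₀ * ι.range.relIndex A = 3 ^ r := by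
    rw [hA₀, card_map_conj, ← card_map_of_injective hι, map_comap_eq, ← inf_relIndex_right, ← r1,
      ← relIndex_bot_left, ← relIndex_bot_left, relIndex_mul_relIndex _ _ _ bot_le inf_le_right]
  have c4 : Nat.card ↥(A₀ ⊓ zSub D) ^ 2 ≤ 3 ^ (2 * m + 1) := by
    obtain ⟨g₀, τ, e⟩ := H71.FldAut.ree_aut hm hK (MulAut.conj g * φ a * (MulAut.conj g)⁻¹)
    rw [← hK]
    refine card_fix_sq D F (g := g₀) (τ := τ) (fun e' => ha1 (h2 a (g⁻¹ * g₀ * g) ?_)) inf_le_right fun s hs => ?_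
    · rw [e', fld_one, mul_one] at e
      rw [map_mul, map_mul, map_inv, ← e]
      group
    · obtain ⟨s, hs', rfl⟩ := hA₀.le hs.1
      rw [← MulAut.conj_apply, ← MulAut.mul_apply, ← e]
      show MulAut.conj g (φ a ((MulAut.conj g).symm (MulAut.conj g s))) = MulAut.conj g s
      rw [MulEquiv.symm_apply_apply]
      exact congrArg _ (hι (by rw [h1, elemAb_comm hA.1 ha hs', mul_inv_cancel_right]))
  obtain ⟨e, -, he⟩ := (Nat.dvd_prime_pow Nat.prime_three).1 (Dvd.intro_left _ c3)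
  obtain ⟨i, -, hi⟩ := (Nat.dvd_prime_pow Nat.prime_three).1 (Dvd.intro _ c3)
  obtain ⟨d, -, hd⟩ := (Nat.dvd_prime_pow Nat.prime_three).1 (hi ▸ card_dvd_of_le (inf_le_left : A₀ ⊓ zSub D ≤ A₀))
  rw [hi, he, ← pow_add, Nat.pow_right_inj (by norm_num)] at c3
  rw [hd, ← pow_mul, Nat.pow_le_pow_iff_right (by norm_num)] at c4
  have c5 := Nat.le_of_dvd (by omega) (he ▸ h3)
  have c6 := four_mul_lt e
  by_cases hZ : A₀ ≤ zSub D
  · rw [inf_eq_left.2 hZ, hi, Nat.pow_right_inj (by norm_num)] at hd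
    omega
  · obtain ⟨w, hw, hw1⟩ := SetLike.not_le_iff_exists.1 hZ
    have c7 := b2 w (c2 hw) hw1
    obtain ⟨s, hs, rfl⟩ := hA₀.le hw
    have c8 : cod ρ (zpowers (ι s)) ≤ cod ρ A := cod_mono ((zpowers_le).2 hs)
    rw [show (MulAut.conj g).toMonoidHom s = g * s * g⁻¹ from rfl, cod_zpowers_conj, hc] at c7
    have c9 := (card_mul_card_le A₀ (zSub D)).trans
      (Nat.mul_le_mul_right _ (card_le_of_le (sup_le c2 (zSub_le_wSub D))))
    rw [card_wSub D, card_zSub D, hK, hi, hd, ← pow_mul, ← pow_add, ← pow_add,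
      Nat.pow_le_pow_iff_right (by norm_num)] at c9
    omega

theorem row (hm : 1 ≤ m) (hK : Fintype.card K = 3 ^ (2 * m + 1)) : Row 3 ↥(twistedG2 K (3 ^ m)) := by
  have key : ∀ (Y : Type) [Group Y] [Finite Y] (V : Type) [AddCommGroup V] [Module (ZMod 3) V] [Finite V]
      (L : Subgroup Y) (ρ : Representation (ZMod 3) Y V) (π : L →* ↥(twistedG2 K (3 ^ m)))
      (φ : Y →* MulAut ↥(twistedG2 K (3 ^ m))), Sit 3 L ρ π φ → ∀ A, Off 3 ρ A →
        A ≤ L ∧ ∃ B, Off 3 ρ B ∧ Cub ρ B := by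
    intro Y _ _ V _ _ _ L ρ π φ H A hA
    have hZ : center L = ⊥ :=
      card_eq_one.1 (Nat.dvd_one.1 (H.toFrm.card_center_dvd' H.toStp.perfect (S2113.result hm hK)))
    have hπ : Function.Bijective π := ⟨(MonoidHom.ker_eq_bot_iff π).1 (H.ker_π.trans hZ), H.surj⟩
    let e : ↥(twistedG2 K (3 ^ m)) ≃* L := (MulEquiv.ofBijective π hπ).symm
    let ι : ↥(twistedG2 K (3 ^ m)) →* Y := L.subtype.comp e.toMonoidHom
    have hι : Function.Injective ι := L.subtype_injective.comp e.injective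
    have hr : ι.range = L := by
      rw [MonoidHom.range_comp, MonoidHom.range_eq_top.2 e.surjective, ← MonoidHom.range_eq_map, range_subtype]
    have h0 : ∀ x : L, ι (π x) = x := fun x => congrArg Subtype.val ((MulEquiv.ofBijective π hπ).symm_apply_apply x)
    have h1 : A ≤ ι.range := le_range hm hK H.faithful hι (φ := φ) (fun y s => by
      obtain ⟨x, rfl⟩ := H.surj s
      rw [H.conj y x ⟨_, H.normal.conj_mem _ x.2 y⟩ rfl, h0, h0])
      (fun y g e => hr ▸ H.toFrm.mem_inn_iff.1 ⟨g, e.symm⟩) hA (by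
        rw [hr, ← S2127.result hm hK]
        exact H.toFrm.relIndex_dvd A)
    obtain ⟨U, h, n, D⟩ := ChevalleyStructure.Ree.Data.exists_data (K := K) hK
    have := ReeSylowThree.finite D
    obtain ⟨B, b1, b2⟩ := core D hm hK (bounds hm hK D (ρ := ρ.comp ι) (H.faithful.comp hι)).2
      (SpB.off_comap ι hι h1 hA)
    exact ⟨hr ▸ h1, _, SpB.off_map ι hι b1, (cub_comp _ _).1 b2⟩
  exact ⟨row88_of_sit fun Y _ _ V _ _ _ L ρ π φ H A hA => (key Y V L ρ π φ H A hA).2,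
    row89_of_sit fun Y _ _ V _ _ _ L ρ π φ H A hA _ _ _ h => absurd (key Y V L ρ π φ H A hA).1 h⟩

end Model

end Cfsg.Agent.TwoF.DC.TF.G2

namespace Cfsg.Agent.TwoF.DC.TF

/-- **the small Ree groups in characteristic three** -/
theorem ree : TBox fun p S _ => p = 3 ∧ Lie.IsoRee S := by
  rintro p _ S _ _ _ ⟨rfl, K, _, _, m, hm, hK, ⟨e⟩⟩
  exact (G2.row hm hK).of_equiv e

end Cfsg.Agent.TwoF.DC.TF
end

-- part: TwoF/XS/P2/Main
section
/-!
# TwoF / XS / P2: `PSp₆(3)` and the theorem `p2` (helper85)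
-/

set_option autoImplicit false

namespace Cfsg.Agent.TwoF.XS.P2

open Module Gen Subgroup XE
open Cfsg.Agent.ClassicalGeometry.SympBasic Cfsg.Agent.ClassicalGeometry.SympSiegel
  Cfsg.Agent.ClassicalGeometry.SympAutExists Cfsg.Agent.ClassicalGeometry.SympAutSemi
  Cfsg.Agent.ClassicalGeometry.SympGamma
open Cfsg.Agent.Omega.TwoF

variable {F : Type} [Field F]

local notation "W" => (Fin 3 ⊕ Fin 3 → F)
local notation "G" => Matrix.symplecticGroup (Fin 3) F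
local notation "f" => sympForm 3 F

theorem finrank_W : finrank F W = 6 := by simp

/-- in dimension six the square of a similitude is not its multiplier, if that is a non-square -/
theorem not_bad (h2 : (2 : F) ≠ 0) {g : semiSim 3 F} {φ : F ≃+* F} {l : F} (hg : IsSemi g.1 φ l) (hφ : ∀ x, φ x = x)
    (hl : ¬ IsSquare l) (h : ∀ v, g.1 (g.1 v) = l • v) : False := by
  have h0 : l ≠ 0 := fun e => hl (e ▸ IsSquare.zero)
  have hff : ∀ u v, f (g.1 u) (g.1 v) = l * f u v := fun u v => by rw [hg.2.2, hφ]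
  have hadj : ∀ u v, f (g.1 u) v = f u (g.1 v) := fun u v => by
    have := hff u (g.1 v)
    rw [h, sympForm_smul_right] at this
    exact mul_left_cancel₀ h0 this
  have halt : ∀ u, f u (g.1 u) = 0 := fun u => by
    have := hadj u u
    rw [sympForm_swap, neg_eq_iff_add_eq_zero, ← two_mul] at this
    exact (mul_eq_zero.1 this).resolve_left h2
  have hind : ∀ {v : W}, v ≠ 0 → ∀ a b : F, a • v + b • g.1 v = 0 → a = 0 ∧ b = 0 := fun {v} hv a b e => by
    have h1 := congrArg g.1 e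
    rw [hg.1, hg.2.1, hg.2.1, hφ, hφ, h, semi_zero] at h1
    have h3 : (a * a - b * b * l) • v = 0 := by
      have : (a * a - b * b * l) • v = a • (a • v + b • g.1 v) - b • (a • g.1 v + b • l • v) := by module
      rw [this, e, h1, smul_zero, smul_zero, sub_zero]
    have h4 := (smul_eq_zero.1 h3).resolve_right hv
    by_cases hb : b = 0
    · rw [hb, zero_mul, zero_mul, sub_zero] at h4
      exact ⟨mul_self_eq_zero.1 h4, hb⟩
    · refine (hl ⟨a / b, ?_⟩).elim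
      field_simp
      linear_combination -h4
  obtain ⟨x, hx⟩ : ∃ v : W, v ≠ 0 := ⟨_, ClassicalGeometry.SympAutCentral.E_ne_zero (F := F) (0 : Fin 3)⟩
  obtain ⟨y, hy1, hy2⟩ := exists_perp (semi_ne_zero g hx) (w := x) (fun a ha =>
    one_ne_zero (hind hx 1 (-a) (by rw [one_smul, neg_smul, ← ha, add_neg_cancel])).1) 1
  have hk : LinearMap.ker (LinearMap.pi fun i : Fin 4 => sympBilin 3 F (![x, g.1 x, y, g.1 y] i)) ≠ ⊥ :=
    LinearMap.ker_ne_bot_of_finrank_lt (by rw [finrank_W]; simp)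
  obtain ⟨z, hz, hz0⟩ := (Submodule.ne_bot_iff _).1 hk
  have z1 : f x z = 0 := congrFun hz 0
  have z2 : f (g.1 x) z = 0 := congrFun hz 1
  have z3 : f y z = 0 := congrFun hz 2
  have z4 : f (g.1 y) z = 0 := congrFun hz 3
  obtain ⟨t, ht⟩ := exists_form_eq_one hz0
  have h7 : LinearIndependent F ![x, g.1 x, y, g.1 y, z, g.1 z, t] := Fintype.linearIndependent_iff.2 fun c hc => by
    simp only [Fin.sum_univ_succ, Fin.sum_univ_zero, Matrix.cons_val_zero, Matrix.cons_val_succ, add_zero] at hc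
    have key : ∀ u, c 0 * f u x + (c 1 * f u (g.1 x) + (c 2 * f u y + (c 3 * f u (g.1 y) + (c 4 * f u z +
        (c 5 * f u (g.1 z) + c 6 * f u t))))) = 0 := fun u => by
      have := congrArg (f u) hc
      simp only [sympForm_add_right, sympForm_smul_right, sympForm_zero_right] at this
      exact this
    have e6 := key z
    rw [form_eq_zero_comm.1 z1, form_eq_zero_comm.1 z2, form_eq_zero_comm.1 z3, form_eq_zero_comm.1 z4, sympForm_self,
      halt, ht] at e6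
    have c6 : c 6 = 0 := by linear_combination e6
    have e0 := key y
    rw [sympForm_swap y x, hy2, form_eq_zero_comm.1 hy1, sympForm_self, halt, z3, ← hadj, z4, c6] at e0
    have c0 : c 0 = 0 := by linear_combination -e0
    have e1 := key (g.1 y)
    rw [hadj y x, form_eq_zero_comm.1 hy1, hff, sympForm_swap y x, hy2, hadj y y, halt, sympForm_self, z4, hff, z3,
      c6] at e1
    have c1 : c 1 = 0 := mul_right_cancel₀ h0 (by linear_combination -e1)
    have e2 := key x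
    rw [sympForm_self, halt, hy2, ← hadj x y, hy1, z1, ← hadj x z, z2, c6] at e2
    have c2 : c 2 = 0 := by linear_combination e2
    have e3 := key (g.1 x)
    rw [hadj x x, halt, sympForm_self, hy1, hff, hy2, z2, hff, z1, c6] at e3
    have c3 : c 3 = 0 := mul_right_cancel₀ h0 (by linear_combination e3)
    have h45 := hind hz0 (c 4) (c 5) (by
      have h8 : c 0 • x + (c 1 • g.1 x + (c 2 • y + (c 3 • g.1 y + (c 4 • z + (c 5 • g.1 z + c 6 • t))))) = 0 := hc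
      simpa only [c0, c1, c2, c3, c6, zero_smul, zero_add, add_zero] using h8)
    intro i
    fin_cases i
    exacts [c0, c1, c2, c3, h45.1, h45.2, c6]
  have := h7.fintype_card_le_finrank
  rw [finrank_W] at this
  simp at this

/-- the eigenspaces -/
def Eig (A : G) (s : F) : Submodule F W where
  carrier := {v | A • v = s • v}
  add_mem' := fun {a b} ha hb => by
    show A • (a + b) = _
    rw [smul_add', show A • a = _ from ha, show A • b = _ from hb, smul_add]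
  zero_mem' := by
    show A • (0 : W) = _
    rw [smul_zero', smul_zero]
  smul_mem' := fun c v hv => by
    show A • (c • v) = _
    rw [smul_smul', show A • v = _ from hv, smul_comm]

theorem exists_iso {U : Submodule F W} (h : 3 ≤ finrank F U) :
    ∃ u ∈ U, ∃ w ∈ U, f u w = 0 ∧ ∀ a b : F, a • u + b • w = 0 → a = 0 ∧ b = 0 := by
  obtain ⟨u, hu⟩ : ∃ u : U, u ≠ 0 := by
    have : Nontrivial U := Module.nontrivial_of_finrank_pos (R := F) (by omega)
    exact exists_ne 0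
  have h1 := LinearMap.finrank_range_add_finrank_ker (((sympBilin 3 F u).domRestrict U :))
  have h2 := Submodule.finrank_le (LinearMap.range ((sympBilin 3 F u).domRestrict U))
  rw [finrank_self] at h2
  obtain ⟨w, hw, hw'⟩ : ∃ w ∈ LinearMap.ker ((sympBilin 3 F u).domRestrict U), w ∉ Submodule.span F {u} := by
    by_contra h3
    have h4 := Submodule.finrank_mono (show LinearMap.ker ((sympBilin 3 F u).domRestrict U) ≤ Submodule.span F {u} from
      fun w hw => by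
        by_contra h5
        exact h3 ⟨w, hw, h5⟩)
    rw [finrank_span_singleton hu] at h4
    omega
  refine ⟨u, u.2, w, w.2, hw, fun a b e => ?_⟩
  have e' : a • u + b • w = 0 := Subtype.ext e
  by_cases hb : b = 0
  · rw [hb, zero_smul, add_zero] at e'
    exact ⟨(smul_eq_zero.1 e').resolve_right hu, hb⟩
  · refine (hw' (Submodule.mem_span_singleton.2 ⟨-(b⁻¹ * a), ?_⟩)).elim
    rw [neg_smul, mul_smul, eq_neg_of_add_eq_zero_left e', smul_neg, neg_neg, smul_smul, inv_mul_cancel₀ hb, one_smul]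

/-- Siegel elements for a totally isotropic pair -/
noncomputable def th {e u w : W} (h1 : f e u = 0) (h2 : f e w = 0) (h3 : f u w = 0) : Multiplicative (F × F) →* G :=
  MonoidHom.mk' (fun x => siegel e (x.toAdd.1 • u + x.toAdd.2 • w) 0) fun x y => by
    rw [siegel_mul (by simp only [sympForm_add_right, sympForm_smul_right, h1, h2, mul_zero, add_zero])
      (by simp only [sympForm_add_right, sympForm_smul_right, h1, h2, mul_zero, add_zero])]
    congr 1
    · simp only [toAdd_mul, Prod.fst_add, Prod.snd_add]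
      module
    · simp only [sympForm_add_right, sympForm_add_left, sympForm_smul_right, sympForm_smul_left, h3,
        form_eq_zero_comm.1 h3, sympForm_self, mul_zero, add_zero]

variable [Fintype F]

theorem sq_one (h : Fintype.card F = 3) {a : F} (ha : a ≠ 0) : a * a = 1 := by
  have := FiniteField.pow_card_sub_one_eq_one a ha
  rwa [h, pow_two] at this

theorem le_eight_aux (h : Fintype.card F = 3) {A : G} (hA : A * A = 1) {s : F} (hs : s * s = 1) (h1 : Eig A s ≠ ⊥)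
    (h3 : 3 ≤ finrank F (Eig A (-s))) : Le 2 (MulAut.conj (pr A)) 8 := by
  have : CharP F 3 := charP_of_card_eq_prime h
  have hr : (3 : ℕ) ≠ 2 := by norm_num
  have h2 : (2 : F) ≠ 0 := two_ne hr
  have hz : Zc 2 (PSp 3 F) 1 := zc (by norm_num) h.ge
  obtain ⟨T, hT, hT'⟩ := exists_all (F := F) (by rw [FiniteField.isSquare_two_iff, h]; norm_num)
  obtain ⟨e, he, he0⟩ := (Submodule.ne_bot_iff _).1 h1
  obtain ⟨u, hu, w, hw, huw, hi⟩ := exists_iso h3
  have hp : ∀ x ∈ Eig A (-s), f e x = 0 := fun x hx => by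
    have := form_smul A e x
    rw [show A • e = _ from he, show A • x = _ from hx, sympForm_smul_left, sympForm_smul_right] at this
    refine (mul_eq_zero.1 (show 2 * f e x = 0 from ?_)).resolve_left h2
    linear_combination -this - f e x * hs
  have hn : ∀ x ∈ Eig A (-s), x ≠ 0 → ∀ a : F, x ≠ a • e := fun x hx h0 a ha => by
    have h4 : A • x = s • x := ha ▸ (Eig A s).smul_mem a he
    rw [show A • x = _ from hx, neg_smul, neg_eq_iff_add_eq_zero, ← two_smul F, smul_smul, smul_eq_zero] at h4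
    exact h4.elim (mul_ne_zero h2 (left_ne_zero_of_mul_eq_one hs)) h0
  have hm : ∀ x : Multiplicative (F × F), x.toAdd.1 • u + x.toAdd.2 • w ∈ Eig A (-s) := fun x =>
    add_mem (Submodule.smul_mem _ _ hu) (Submodule.smul_mem _ _ hw)
  have hne : ∀ x : Multiplicative (F × F), x ≠ 1 → x.toAdd.1 • u + x.toAdd.2 • w ≠ 0 := fun x hx e' =>
    hx (Multiplicative.toAdd.injective (Prod.ext (hi _ _ e').1 (hi _ _ e').2))
  set θ := th (hp u hu) (hp w hw) huw with hθ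
  have hc : ∀ a ∈ θ.range, ∀ b ∈ θ.range, a * b = b * a := by
    rintro _ ⟨x, rfl⟩ _ ⟨y, rfl⟩
    rw [← map_mul, mul_comm, map_mul]
  have he3 : ∀ a ∈ θ.range, a ^ 3 = 1 := by
    rintro _ ⟨x, rfl⟩
    exact pow_char_eq_one_of_mem_Q (siegel_mem_Q (hp _ (hm x)) 0)
  have hinj : Function.Injective θ := (injective_iff_map_eq_one θ).2 fun x hx => by
    by_contra h4
    exact siegel_notMem he0 (hp _ (hm x)) (hn _ (hm x) (hne x h4)) 0 (show θ x ∈ _ from hx ▸ one_mem _)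
  have hcard : Nat.card θ.range = 9 := by
    rw [← Nat.card_congr (MonoidHom.ofInjective hinj).toEquiv,
      Nat.card_congr Multiplicative.toAdd, Nat.card_prod, Nat.card_eq_fintype_card, h]
  refine le_of_inverts hz (R := θ.range.map (prH 3 F)) ?_ (by decide : Odd 3) ?_
    (by rw [← map_pow, ← pr_pow, pow_two, hA, pr_one, map_one]) ?_ (n := 16)
    (lo_of_rep hz _ fun V _ _ _ σ hσ => ?_) (by norm_num)
  · rintro _ ⟨x, hx, rfl⟩ _ ⟨y, hy, rfl⟩
    rw [← map_mul, hc x hx y hy, map_mul]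
  · rintro _ ⟨x, hx, rfl⟩
    rw [← map_pow, he3 x hx, map_one]
  · rintro _ ⟨_, ⟨x, rfl⟩, rfl⟩
    show pr (A * siegel e _ 0 * A⁻¹) = pr (siegel e _ 0)⁻¹
    rw [conj_siegel A (hp _ (hm x)), siegel_inv (hp _ (hm x)), show A • e = _ from he, show A • _ = _ from hm x,
      siegel_smul_vec (hp _ (Submodule.smul_mem _ _ (hm x))), smul_smul, mul_neg, hs, neg_one_smul, mul_zero, neg_zero]
  · have h4 := XL.avg_ge (ρ := (σ.comp (prH 3 F) : Representation (ZMod 2) G V)) (R := θ.range) Nat.prime_three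
      (by decide) hc he3 (c := 12) (by
        rintro _ ⟨x, rfl⟩ hx
        have h5 := cod_ZT (by norm_num) hr he0 (rep_ne (by norm_num) 3 hσ he0) T hT'
        have h6 := cod_siegel (σ := (σ.comp (prH 3 F) : Representation (ZMod 2) G V)) hr he0 (hp _ (hm x))
          (hn _ (hm x) (hne x fun e' => hx (by rw [e', map_one]))) 0
        rw [hT, h] at h5
        show 12 ≤ cod _ (zpowers (siegel e _ 0))
        omega)
    rw [hcard] at h4
    omega

/-- involutions of the symplectic group -/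
theorem le_eight (h : Fintype.card F = 3) {A : G} (hA : A * A = 1) (h1 : MulAut.conj (pr A) ≠ 1) :
    Le 2 (MulAut.conj (pr A)) 8 := by
  have : CharP F 3 := charP_of_card_eq_prime h
  have h2 : (2 : F) ≠ 0 := two_ne (r := 3) (by norm_num)
  have hAA : ∀ v : W, A • A • v = v := fun v => by rw [← mul_smul, hA, one_smul]
  have h3 : Eig A 1 ⊔ Eig A (-1) = ⊤ := eq_top_iff.2 fun v _ => Submodule.mem_sup.2
    ⟨(2 : F)⁻¹ • (v + A • v), Submodule.smul_mem _ _ (by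
        show A • _ = _
        rw [smul_add', hAA, one_smul, add_comm]),
      (2 : F)⁻¹ • (v - A • v), Submodule.smul_mem _ _ (by
        show A • _ = _
        rw [smul_sub', hAA, neg_one_smul, neg_sub]), by
      rw [← smul_add, add_add_sub_cancel, ← two_smul F, smul_smul, inv_mul_cancel₀ h2, one_smul]⟩
  have h4 : ∀ s : F, Eig A s ≠ ⊤ := fun s e => h1 ((psi_lf A).symm.trans
    (psi_eq_one _ (c := s) fun v => (e ▸ Submodule.mem_top : v ∈ Eig A s)))
  have h5 := Submodule.finrank_add_le_finrank_add_finrank (Eig A 1) (Eig A (-1))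
  rw [h3, finrank_top, finrank_W] at h5
  by_cases h6 : 3 ≤ finrank F (Eig A (-1))
  · exact le_eight_aux h hA (one_mul 1) (fun e => h4 (-1) (by rwa [e, bot_sup_eq] at h3)) h6
  · exact le_eight_aux h hA (s := -1) (by ring) (fun e => h4 1 (by rwa [e, sup_bot_eq] at h3)) (by rw [neg_neg]; omega)

/-- outer involutions -/
theorem outer (h : Fintype.card F = 3) {g : semiSim 3 F} (h1 : Psi 3 F g ∉ Inn (PSp 3 F)) (h3 : Psi 3 F g ^ 2 = 1) :
    IsSemi g.1 (RingEquiv.refl F) (-1) ∧ ∀ v, g.1 (g.1 v) = v := by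
  have : CharP F 3 := charP_of_card_eq_prime h
  have h2 : (2 : F) ≠ 0 := two_ne (r := 3) (by norm_num)
  obtain ⟨φ, l, hl, hg⟩ := g.2
  have hφ := aut_eq Nat.prime_three h φ
  have h4 : ¬ IsSquare l := fun e => h1 (mem_inn hl hg hφ e)
  obtain rfl : l = -1 := (mul_self_eq_one_iff.1 (sq_one h hl)).resolve_left fun e => h4 (e ▸ IsSquare.one)
  obtain rfl : φ = RingEquiv.refl F := RingEquiv.ext hφ
  obtain ⟨c, hc, hc'⟩ := exists_sq (by norm_num) h3
  rcases mul_self_eq_one_iff.1 (sq_one h hc) with rfl | rfl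
  · exact ⟨hg, fun v => (hc' v).trans (one_smul F v)⟩
  · exact (not_bad h2 hg hφ h4 hc').elim

/-- the elements that commute with a semisimilitude -/
def Cm (g : semiSim 3 F) : Subgroup G := (centralizer {g.1}).comap (rho 3 F)

omit [Fintype F] in
theorem mem_Cm {g : semiSim 3 F} {A : G} : A ∈ Cm g ↔ ∀ v, g.1 (A • v) = A • g.1 v := by
  rw [Cm, mem_comap, mem_centralizer_singleton_iff, eq_comm]
  exact Equiv.ext_iff

theorem card_le_sixteen (h : Fintype.card F = 3) {E : Subgroup (MulAut (PSp 3 F))} (hE : ∀ α ∈ E, α ^ 2 = 1)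
    {g : semiSim 3 F} (hg : Psi 3 F g ∈ E) (h1 : Psi 3 F g ∉ Inn (PSp 3 F)) : Nat.card E ≤ 16 := by
  have : CharP F 3 := charP_of_card_eq_prime h
  have h2 : (2 : F) ≠ 0 := two_ne (r := 3) (by norm_num)
  obtain ⟨hs, hgg⟩ := outer h h1 (hE _ hg)
  have key : ∀ A ∈ Bt E, ∀ v, A • g.1 (A • v) = g.1 v := fun A hA v => by
    have h3 : Psi 3 F (g * lf A) = Psi 3 F g * MulAut.conj (pr A) := by rw [map_mul, psi_lf]
    have h4 := (outer h (g := g * lf A) (fun e => h1 ((mul_mem_cancel_right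
      (show MulAut.conj (pr A) ∈ Inn (PSp 3 F) from ⟨pr A, rfl⟩)).1 (h3 ▸ e)))
      (hE _ (h3 ▸ mul_mem hg hA))).2 v
    have h5 : g.1 (A • g.1 (A • v)) = v := h4
    rw [← hgg (A • g.1 (A • v)), h5]
  have h3 : ∀ A ∈ Bt E, A ∉ Bt E ⊓ Cm g → ∀ v, g.1 (A • v) = -(A • g.1 v) := fun A hA hn v => by
    rcases sq_Bt (by norm_num) (hE _ hA) with h4 | h4
    · refine (hn ⟨hA, mem_Cm.2 fun v => ?_⟩).elim
      rw [← key A hA v, ← mul_smul, h4, one_smul]
    · rw [← key A hA v, h4, neg_one_smul, neg_neg]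
  have h4 : Nat.card (Bt E) ≤ 2 * Nat.card ↥(Bt E ⊓ Cm g) := RkLin.card_le_two_mul fun A hA hn B hB hn' =>
    ⟨mul_mem hA hB, mem_Cm.2 fun v => by rw [mul_smul, h3 A hA hn, h3 B hB hn', smul_neg', neg_neg, mul_smul]⟩
  have h5 := card_le_of_sq (by norm_num) (by rw [h]; decide) (B := Bt E ⊓ Cm g) fun A hA => ext_smul fun v => by
    have h6 := key A hA.1 (g.1 v)
    rwa [mem_Cm.1 hA.2, hgg, ← mul_smul, ← one_smul G v, smul_smul, mul_one] at h6
  have h6 := card_Bt (by norm_num) h2 E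
  have h7 := card_le_inn (by norm_num) h2 (aut_eq Nat.prime_three h) E
  omega

/-- **`PSp₆(3)`** -/
theorem row_six (h : Fintype.card F = 3) : Row 2 (PSp 3 F) := by
  have : CharP F 3 := charP_of_card_eq_prime h
  have hr : (3 : ℕ) ≠ 2 := by norm_num
  have h2 : (2 : F) ≠ 0 := two_ne hr
  have hz : Zc 2 (PSp 3 F) 1 := zc (by norm_num) h.ge
  refine ⟨row88_two fun E hE j h3 hj => Or.inr ?_, row89_of_lo fun E hE hn j _ hj => ?_⟩
  · have h1 : j ≤ 5 := le_rank hE (rk_prime Nat.prime_three h h2 (by norm_num)) hj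
    have h4 := card_le_inn (by norm_num) h2 (aut_eq Nat.prime_three h) E
    have h5 : 2 ^ 4 ≤ 2 ^ j := Nat.pow_le_pow_right two_pos h3
    obtain ⟨_, ⟨h6, s, rfl⟩, h7, g, e, a, hg, he, hge⟩ := exists_fix_eight (by norm_num) h2
      (E := E ⊓ Inn (PSp 3 F)) (fun α hα => hE.2 α hα.1) (by omega)
    obtain ⟨A, rfl⟩ := pr_surj s
    refine ⟨_, h6, (le_eight h ((sq_Bt (by norm_num) (hE.2 _ h6)).resolve_right fun h8 => ?_) h7).le (by omega)⟩
    obtain ⟨c, hc⟩ := exists_scal_of_Psi_eq_one (by norm_num) (lf A * g⁻¹)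
      (by rw [map_mul, map_inv, psi_lf, hg, mul_inv_cancel])
    have h9 : A • e = ((c : F) * a) • e := by
      have := congrArg (fun x : Equiv.Perm W => x (g.1 e)) hc
      simp only [scal_apply] at this
      rw [mul_smul, ← hge, ← this]
      show _ = A • g.1⁻¹ (g.1 e)
      rw [perm_inv_apply_self]
    have h10 := h8 e
    rw [h9, smul_smul', h9, smul_smul, sq_one h (fun e' => smul_ne_zero' A he (by rw [h9, e', zero_smul]))] at h10
    exact h2 (by linear_combination smul_right_cancel_vec he h10)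
  · obtain ⟨α, hα, h1⟩ := SetLike.not_le_iff_exists.1 hn
    obtain ⟨g, rfl⟩ := exists_psi (by norm_num) h2 α
    have h3 := card_le_sixteen h hE.2 hα h1
    have h4 : j ≤ 4 := (Nat.pow_le_pow_iff_right one_lt_two).1 (hj ▸ h3)
    obtain ⟨hs, hgg⟩ := outer h h1 (hE.2 _ hα)
    obtain ⟨T, hT, hT'⟩ := exists_all (F := F) (by rw [FiniteField.isSquare_two_iff, h]; norm_num)
    have hZ := zb (by norm_num) hr hz T hT'
    rw [hT, h] at hZ
    obtain ⟨e, he, h5⟩ := exists_eig hs (c := 1) (s := 1) (fun v => (hgg v).trans (one_smul F v).symm) (one_mul 1)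
      fun e => h1 (e ▸ one_mem _)
    exact (le_of_ZT hr hz hZ (by omega) (neg_ne_zero.2 one_ne_zero) hs (fun _ => rfl) he h5 (by simp)
      (hE.2 _ hα)).lo hα

theorem noOff_prime {m r n : ℕ} (hp : r.Prime) (h : Fintype.card F = r) (hr : r % 8 = 3 ∨ r % 8 = 5) (hm : 2 ≤ m)
    (h1 : r * n ≤ (r - 1) * ((r - 1) * r ^ (m - 1))) (h4 : 4 ≤ RkLin.rk (m + m)) (hn : 4 * RkLin.rk (m + m) < n) :
    NoOff 2 (PSp m F) := by
  have := Fact.mk hp
  have : CharP F r := charP_of_card_eq_prime h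
  have hr2 : r ≠ 2 := by omega
  obtain ⟨T, hT, hT'⟩ := exists_all (F := F) (by rw [FiniteField.isSquare_two_iff, h]; (clear * - hr; omega))
  exact noOff_gen hm hr2 (sb (by omega) hr2 (zc hm (by omega)) T hT' (by rwa [hT, h]))
    (rk_prime hp h (two_ne hr2) hm) h4 hn

end Cfsg.Agent.TwoF.XS.P2

namespace Cfsg.Agent.TwoF.XS

open P2

/-- **`p = 2`, odd characteristic, small symplectic groups** -/
theorem p2 : P2 := by
  rintro F _ _ m (⟨rfl, h | h | h | h⟩ | ⟨rfl, h | h⟩ | ⟨rfl | rfl, h⟩)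
  · exact (noOff_five h).row
  · have : Fact (Nat.Prime 7) := ⟨by norm_num⟩
    have : CharP F 7 := charP_of_card_eq_prime h
    obtain ⟨T, hT, hT'⟩ := exists_half (F := F)
    exact (noOff_gen (r := 7) (n := 18) le_rfl (by norm_num) (sb (r := 7) one_le_two (by norm_num)
      (zc le_rfl (by omega)) T hT' (by rw [h] at hT ⊢; omega))
      (rk_prime Fact.out h (two_ne (r := 7) (by norm_num)) le_rfl) (by decide) (by decide)).row
  · have : CharP F 3 := charP_of_card_eq_prime_pow (f := 2) h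
    obtain ⟨T, hT, hT'⟩ := exists_half (F := F)
    exact (noOff_gen (r := 3) (n := 24) le_rfl (by norm_num) (sb (r := 3) one_le_two (by norm_num)
      (zc le_rfl (by omega)) T hT' (by rw [h] at hT ⊢; omega))
      (Omega.TwoF.RkPSp.rkAut (two_ne (r := 3) (by norm_num)) le_rfl) (by decide) (by decide)).row
  · exact (noOff_prime (n := 100) (by norm_num) h (by norm_num) le_rfl (by norm_num) (by decide) (by decide)).row
  · exact row_six h
  · exact (noOff_prime (n := 80) (by norm_num) h (by norm_num) (by norm_num) (by norm_num) (by decide) (by decide)).row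
  · exact (noOff_prime (n := 36) (by norm_num) h (by norm_num) (by norm_num) (by norm_num) (by decide) (by decide)).row
  · exact (noOff_prime (n := 108) (by norm_num) h (by norm_num) (by norm_num) (by norm_num) (by decide) (by decide)).row

end Cfsg.Agent.TwoF.XS
end

-- part: TwoF/XS/Sp2/Rad
section
/-!
# TwoF / XS / Sp2 : generic tools (helper75)

`heis_cod` (Heisenberg bound for `[V, z]`), `rad` (a `p`-group normalising an elementary abelian `s`-group),
`exists_stab` (a stabiliser of small index), `row88_of_rep` (no covers, no outer automorphisms of order `p`).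
-/

set_option autoImplicit false

namespace Cfsg.Agent.TwoF.XS.SpTwo

open Module Gen Subgroup XE
open scoped commutatorElement

section heis

variable {p : ℕ} [Fact p.Prime] {Y : Type*} [Group Y] {V : Type*} [AddCommGroup V] [Module (ZMod p) V] [Finite V]
  {ρ : Representation (ZMod p) Y V}

/-- the Heisenberg bound for `[V, z]` -/
theorem heis_cod {r n : ℕ} {z : Y} {x y : Fin n → Y} (h : Omega.Lie.Heis.Heis r n z x y) (hr : r ≠ p)
    (hz : ρ z ≠ 1) : orderOf ((p : ℕ) : ZMod r) * r ^ n ≤ cod ρ (zpowers z) := by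
  have hH : centralizer {z} ≤ normalizer (zpowers z : Set Y) := fun g hg =>
    centralizer_le_normalizer _ (by
      rw [mem_centralizer_iff] at hg ⊢
      rintro _ ⟨m, rfl⟩
      exact ((show Commute z g from hg z rfl).zpow_left m).eq)
  have hU : Inv ρ (centralizer {z}) (cm ρ ⊤ (zpowers z)) := inv_cm hH (inv_top _)
  let z' : centralizer {z} := ⟨z, mem_centralizer_singleton_iff.2 rfl⟩
  have h1 : Omega.Lie.Heis.Heis r n z' (fun i => ⟨x i, mem_centralizer_singleton_iff.2 (h.zx i).symm⟩)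
      (fun i => ⟨y i, mem_centralizer_singleton_iff.2 (h.zy i).symm⟩) :=
    ⟨h.prime, Subtype.ext h.zr, fun i => Subtype.ext (h.xr i), fun i => Subtype.ext (h.zx i),
      fun i => Subtype.ext (h.zy i), fun i j => Subtype.ext (h.xx i j), fun i j hij => Subtype.ext (h.yx i j hij),
      fun i => Subtype.ext (h.conj i)⟩
  have h2 : resOn ρ hU z' ≠ 1 := by
    intro h2
    apply hz
    ext v
    refine eq_of_sub_one_sq (p := p) h.zr
      (fun e => hr ((Nat.prime_dvd_prime_iff_eq Fact.out h.prime).1 e).symm) ?_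
    exact congrArg Subtype.val (LinearMap.congr_fun h2 ⟨_, mem_cm (mem_zpowers z) Submodule.mem_top⟩)
  have h3 := h1.finrank_le (resOn ρ hU) (cast_ne_zero h.prime hr) h2
  rwa [Nat.card_zmod, ← cod_zpowers_eq_cm] at h3

/-- the case of extraspecial `2`-groups -/
theorem heis_cod_two {n : ℕ} {z : Y} {x y : Fin n → Y} (h : Omega.Lie.Heis.Heis 2 n z x y) (hr : p ≠ 2)
    (hz : ρ z ≠ 1) : 2 ^ n ≤ cod ρ (zpowers z) := by
  have h1 := heis_cod h hr.symm hz
  obtain ⟨j, hj⟩ := (Fact.out : p.Prime).odd_of_ne_two hr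
  have h2 : ((p : ℕ) : ZMod 2) = 1 := by
    rw [hj, Nat.cast_add, Nat.cast_mul, ZMod.natCast_self, zero_mul, zero_add, Nat.cast_one]
  rwa [h2, orderOf_one, one_mul] at h1

end heis

section rad

variable {Y : Type*} [Group Y]

/-- a group acting faithfully on `N` by conjugation -/
theorem card_le_factorial [Finite Y] {N B : Subgroup Y} (hB : B ≤ normalizer (N : Set Y))
    (hf : ∀ b ∈ B, (∀ y ∈ N, b * y = y * b) → b = 1) : Nat.card B ≤ (Nat.card N - 1).factorial := by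
  classical
  let X := {y : N // y ≠ 1}
  have hm : ∀ (b : B) (y : N), (b : Y) * y * (b : Y)⁻¹ ∈ N := fun b y => (mem_normalizer_iff.1 (hB b.2) y).1 y.2
  let : MulAction B X :=
    { smul := fun b y => ⟨⟨(b : Y) * y.1 * (b : Y)⁻¹, hm b y.1⟩, fun e => y.2 (Subtype.ext (by
        have := congrArg Subtype.val e
        simpa only [_root_.ne_eq, _root_.OneMemClass.coe_one, _root_.OneMemClass.coe_eq_one, _root_.conj_eq_one_iff] using this))⟩
      one_smul := fun y => Subtype.ext (Subtype.ext (by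
        show ((1 : B) : Y) * y.1 * ((1 : B) : Y)⁻¹ = y.1
        simp only [_root_.OneMemClass.coe_one, _root_.ne_eq, _root_.one_mul, _root_.inv_one, _root_.mul_one]))
      mul_smul := fun a b y => Subtype.ext (Subtype.ext (by
        show ((a * b : B) : Y) * y.1 * ((a * b : B) : Y)⁻¹ = a * (b * y.1 * (b : Y)⁻¹) * (a : Y)⁻¹
        simp only [mul_assoc, _root_.Subgroup.coe_mul, _root_.ne_eq, _root_.mul_inv_rev])) }
  have h1 : Function.Injective (MulAction.toPermHom B X) := by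
    rw [injective_iff_map_eq_one]
    intro b hb
    refine Subtype.ext (hf b b.2 fun y hy => ?_)
    by_cases e : y = 1
    · rw [e, mul_one, one_mul]
    · have h2 : (b : Y) * y * (b : Y)⁻¹ = y := congrArg (fun x : X => (x.1 : Y))
        (Equiv.congr_fun hb ⟨⟨y, hy⟩, fun e' => e (congrArg Subtype.val e')⟩)
      rwa [mul_inv_eq_iff_eq_mul] at h2
  have h2 := Nat.card_le_card_of_injective _ h1
  have := Fintype.ofFinite N
  have h3 : Nat.card X = Nat.card N - 1 := by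
    rw [Nat.card_eq_fintype_card, Nat.card_eq_fintype_card, Fintype.card_subtype_compl, Fintype.card_subtype_eq]
  rwa [Nat.card_perm, h3] at h2

theorem le_normalizer_commutator {R B : Subgroup Y} (hB : B ≤ normalizer (R : Set Y)) :
    B ≤ normalizer ((⁅R, B⁆ : Subgroup Y) : Set Y) := by
  have key : ∀ b ∈ B, ∀ y ∈ ⁅R, B⁆, b * y * b⁻¹ ∈ ⁅R, B⁆ := fun b hb y hy => by
    have h1 : (⁅R, B⁆ : Subgroup Y).map (MulAut.conj b).toMonoidHom ≤ ⁅R, B⁆ := by
      rw [map_commutator]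
      refine commutator_mono ?_ ?_
      · rintro _ ⟨x, hx, rfl⟩
        exact (mem_normalizer_iff.1 (hB hb) x).1 hx
      · rintro _ ⟨x, hx, rfl⟩
        exact mul_mem (mul_mem hb hx) (inv_mem hb)
    exact h1 ⟨y, hy, rfl⟩
  intro b hb
  rw [mem_normalizer_iff]
  refine fun y => ⟨key b hb y, fun hy => ?_⟩
  have := key b⁻¹ (inv_mem hb) _ hy
  rwa [show b⁻¹ * (b * y * b⁻¹) * b⁻¹⁻¹ = y by group] at this

/-- coprime action: an element that centralises `[R, B]` centralises `R` -/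
theorem comm_of_comm_commutator {R B : Subgroup Y} {s p : ℕ} (hsp : Nat.Coprime p s)
    (hB : B ≤ normalizer (R : Set Y)) (he : ∀ g ∈ R, g ^ s = 1) (hp : IsPGroup p B) {b : Y} (hb : b ∈ B)
    (h : ∀ y ∈ ⁅R, B⁆, b * y = y * b) {y : Y} (hy : y ∈ R) : b * y = y * b := by
  obtain ⟨n, hn⟩ := hp ⟨b, hb⟩
  have hn' : b ^ p ^ n = 1 := congrArg Subtype.val hn
  have h1 : ⁅y, b⁆ ∈ ⁅R, B⁆ := commutator_mem_commutator hy hb
  set t := ⁅y, b⁆⁻¹ with ht
  have h2 : b * t = t * b := h t (inv_mem h1)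
  have h3 : t ^ s = 1 := he t (inv_mem (commutator_le_of_le_normalizer hB h1))
  have h4 : ∀ k : ℕ, b ^ k * y = t ^ k * y * b ^ k := by
    intro k
    induction k with
    | zero => simp
    | succ k ih =>
      have h5 : b * t ^ k = t ^ k * b := ((show Commute b t from h2).pow_right k).eq
      have h6 : b * y = t * y * b := by rw [ht, commutatorElement_def]; group
      rw [pow_succ', mul_assoc, ih, ← mul_assoc, ← mul_assoc, h5, mul_assoc (t ^ k), h6, pow_succ t]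
      simp only [mul_assoc]
  have h5 := h4 (p ^ n)
  rw [hn', one_mul, mul_one, eq_comm, mul_eq_right] at h5
  have h6 : t = 1 := by
    have h7 := Nat.dvd_gcd (orderOf_dvd_of_pow_eq_one h5) (orderOf_dvd_of_pow_eq_one h3)
    rwa [hsp.pow_left n, Nat.dvd_one, orderOf_eq_one_iff] at h7
  rw [ht, inv_eq_one, commutatorElement_eq_one_iff_mul_comm] at h6
  exact h6.symm

variable {k : Type*} [Field k] {V : Type*} [AddCommGroup V] [Module k V] {ρ : Representation k Y V}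
  [FiniteDimensional k V] [Finite Y]

/-- **RAD**: a `p`-group `B` normalises the elementary abelian `s`-group `R`, `n < |[R, B]|`, and all non-trivial
elements of `[R, B]` have codimension at least `c`. -/
theorem rad' {R B : Subgroup Y} {s p : ℕ} [Fact p.Prime] (hs : s.Prime) (hk : (s : k) ≠ 0)
    (hc : ∀ a ∈ R, ∀ b ∈ R, a * b = b * a) (he : ∀ g ∈ R, g ^ s = 1) (hB : B ≤ normalizer (R : Set Y))
    (hp : IsPGroup p B) {c : ℕ} (h : ∀ y ∈ ⁅R, B⁆, y ≠ 1 → c ≤ cod ρ (zpowers y)) {n : ℕ}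
    (hn : n < Nat.card (⁅R, B⁆ : Subgroup Y)) : (p - 1) * (s * (n * c)) ≤ p * ((s - 1) * ((n + 1) * cod ρ B)) := by
  have hle := commutator_le_of_le_normalizer hB
  have : Fact s.Prime := ⟨hs⟩
  have hR : (Nat.card R : k) ≠ 0 := by
    obtain ⟨j, hj⟩ := (elemAb_isPGroup (elemAb_of hc he)).exists_card_eq
    rw [hj, Nat.cast_pow]
    exact pow_ne_zero _ hk
  have h1 := coprime_bound (ρ := ρ) hc hR hB hp
  have h2 := XL.avg_ge (ρ := ρ) hs hk (fun a ha b hb => hc a (hle ha) b (hle hb)) (fun g hg => he g (hle hg)) h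
  obtain ⟨d, hd⟩ : ∃ d, Nat.card (⁅R, B⁆ : Subgroup Y) = n + d + 1 := ⟨_, (Nat.add_sub_cancel' hn).symm.trans
    (by rw [Nat.succ_add])⟩
  rw [hd, Nat.add_sub_cancel] at h2
  set C := cod ρ ⁅R, B⁆
  have h3 : s * (n * c) ≤ (s - 1) * ((n + 1) * C) := by
    refine Nat.le_of_mul_le_mul_left ?_ (show 0 < n + d + 1 by omega)
    calc (n + d + 1) * (s * (n * c)) = (n + d + 1) * n * (s * c) := by ring
      _ ≤ (n + 1) * (n + d) * (s * c) := Nat.mul_le_mul_right _ (by linarith only [])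
      _ = (n + 1) * (s * ((n + d) * c)) := by ring
      _ ≤ (n + 1) * ((s - 1) * (n + d + 1) * C) := Nat.mul_le_mul_left _ h2
      _ = (n + d + 1) * ((s - 1) * ((n + 1) * C)) := by ring
  calc (p - 1) * (s * (n * c)) ≤ (p - 1) * ((s - 1) * ((n + 1) * C)) := Nat.mul_le_mul_left _ h3
    _ = (s - 1) * (n + 1) * ((p - 1) * C) := by ring
    _ ≤ (s - 1) * (n + 1) * (p * cod ρ B) := Nat.mul_le_mul_left _ h1
    _ = p * ((s - 1) * ((n + 1) * cod ρ B)) := by ring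

/-- **RAD** for a faithful action: `(n - 1)! < |B|` gives `n < |[R, B]|`. -/
theorem rad {R B : Subgroup Y} {s p : ℕ} [Fact p.Prime] (hs : s.Prime) (hsp : p ≠ s) (hk : (s : k) ≠ 0)
    (hc : ∀ a ∈ R, ∀ b ∈ R, a * b = b * a) (he : ∀ g ∈ R, g ^ s = 1) (hB : B ≤ normalizer (R : Set Y))
    (hp : IsPGroup p B) (hf : ∀ b ∈ B, (∀ y ∈ R, b * y = y * b) → b = 1) {c : ℕ}
    (h : ∀ y ∈ ⁅R, B⁆, y ≠ 1 → c ≤ cod ρ (zpowers y)) {n : ℕ} (hn : n.factorial < Nat.card B) :
    (p - 1) * (s * ((n + 1) * c)) ≤ p * ((s - 1) * ((n + 2) * cod ρ B)) := by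
  refine rad' hs hk hc he hB hp h (lt_of_not_ge fun e => ?_)
  have h1 := card_le_factorial (le_normalizer_commutator hB) fun b hb hb' => hf b hb fun y hy =>
    comm_of_comm_commutator ((Nat.coprime_primes Fact.out hs).2 hsp) hB he hp hb hb' hy
  have h2 : (Nat.card (⁅R, B⁆ : Subgroup Y) - 1).factorial ≤ n.factorial := Nat.factorial_le (by omega)
  omega

end rad

/-- a `p`-group has a stabiliser of index at most `p ^ k` on a set whose size is not divisible by `p ^ (k + 1)` -/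
theorem exists_stab {p : ℕ} [Fact p.Prime] {A X : Type*} [Group A] [Finite A] [MulAction A X] [Finite X]
    (hA : IsPGroup p A) {k : ℕ} (h : ¬ p ^ (k + 1) ∣ Nat.card X) :
    ∃ x : X, Nat.card A ≤ p ^ k * Nat.card (MulAction.stabilizer A x) := by
  classical
  by_contra! e
  apply h
  have := Fintype.ofFinite X
  have := Fintype.ofFinite (MulAction.orbitRel.Quotient A X)
  rw [Nat.card_congr (MulAction.selfEquivSigmaOrbits A X), Nat.card_sigma]
  refine Finset.dvd_sum fun o _ => ?_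
  obtain ⟨j, hj⟩ := hA.index (MulAction.stabilizer A o.out)
  rw [Nat.card_coe_set_eq, ← MulAction.index_stabilizer, hj]
  refine pow_dvd_pow p (Nat.succ_le_of_lt (lt_of_not_ge fun e' => (e o.out).not_ge ?_))
  rw [← (MulAction.stabilizer A o.out).index_mul_card, hj]
  exact Nat.mul_le_mul_right _ (Nat.pow_le_pow_right (Fact.out : p.Prime).pos e')

/-- no covers and no outer automorphisms of order `p`: a bound in the faithful representations of `S` -/
theorem row88_of_rep {p : ℕ} [Fact p.Prime] {S : Type} [Group S] (hz : Zc p S 1) (hS : center S = ⊥)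
    (ho : ¬ p ∣ Nat.card (Out S))
    (h : ∀ (V : Type) [AddCommGroup V] [Module (ZMod p) V] [Finite V] (σ : Representation (ZMod p) S V),
      Function.Injective σ → ∀ A : Subgroup S, IsElementaryAbelian p A → ∀ r, small p < r → Nat.card A = p ^ r →
        2 * r + 1 ≤ cod σ A) : Row88 p S := row88_of_lo fun E hE r hr hc => by
  have hi : Function.Injective (MulAut.conj : S →* MulAut S) :=
    (injective_iff_map_eq_one _).2 fun x hx => (_root_.Cfsg.Agent.TwoF.XE.conj_eq_one_iff hS).1 hx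
  have h1 : (E.comap MulAut.conj).map MulAut.conj = E := by
    refine map_comap_eq_self fun α hα => ?_
    by_cases e : α = 1
    · rw [e]
      exact one_mem _
    · obtain ⟨x, hx, -⟩ := exists_inner hS ho e (hE.2 α hα)
      exact ⟨x, hx.symm⟩
  have h2 : IsElementaryAbelian p (E.comap (MulAut.conj : S →* MulAut S)) :=
    elemAb_of (fun a ha b hb => hi (by rw [map_mul, map_mul]; exact elemAb_comm hE ha hb))
      fun a ha => hi (by rw [map_pow, map_one]; exact hE.2 _ ha)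
  have h3 := lo_of_rep hz (MonoidHom.id S) (B := E.comap MulAut.conj) (n := 2 * r + 1) fun V _ _ _ σ hσ =>
    h V σ hσ _ h2 r hr (by rw [← card_map_of_injective hi, h1, hc])
  rwa [Subgroup.map_id, h1] at h3

end Cfsg.Agent.TwoF.XS.SpTwo
end

-- part: TwoF/XS/Sp2/Sie
section
/-!
# TwoF / XS / Sp2 : Siegel elements in characteristic two (helper75)

`Emb Q j` : `j` embeds `S` in `GL(W)` and the image contains the Siegel transformations of `Q`.
`core` : the bound for a `p`-group of isometries that fixes a singular vector.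
-/

set_option autoImplicit false

namespace Cfsg.Agent.TwoF.XS.SpTwo

open Module Gen Subgroup QuadraticMap Cfsg.Agent.LieClassical.OrthCore Cfsg.Agent.LieClassical.OrthFinite
open scoped commutatorElement

variable {F W : Type*} [Field F] [AddCommGroup W] [Module F W] {Q : QuadraticForm F W}

theorem exists_polar [FiniteDimensional F W] (hQ : Nondeg Q) (φ : W →ₗ[F] F) : ∃ b, ∀ x, polar Q b x = φ x := by
  have h1 : Function.Injective (polarBilin Q) :=
    (injective_iff_map_eq_zero _).2 fun x hx => hQ x fun y => LinearMap.congr_fun hx y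
  obtain ⟨b, hb⟩ := (LinearMap.injective_iff_surjective_of_finrank_eq_finrank
    (Subspace.dual_finrank_eq (K := F) (V := W)).symm).1 h1 φ
  exact ⟨b, fun x => LinearMap.congr_fun hb x⟩

theorem exists_dual [FiniteDimensional F W] (hQ : Nondeg Q) {v u : W} (hv : Q v = 0) (hu : Q u = 0)
    (h : polar Q v u = 0) {n : ℕ} (hn : n + 4 ≤ finrank F W) :
    ∃ a b : Fin n → W, (∀ i, polar Q v (a i) = 0) ∧ (∀ i, polar Q u (a i) = 0) ∧ (∀ i, polar Q (b i) v = 0) ∧
      (∀ i, polar Q (b i) u = 0) ∧ (∀ i, polar Q (b i) (a i) = 1) ∧ ∀ i j, i ≠ j → polar Q (b i) (a j) = 0 := by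
  let f : W →ₗ[F] F × F := (polarBilin Q v).prod (polarBilin Q u)
  have hf : ∀ x, x ∈ LinearMap.ker f ↔ polar Q v x = 0 ∧ polar Q u x = 0 := fun x => by
    rw [LinearMap.mem_ker, Prod.ext_iff]
    rfl
  have h1 := LinearMap.finrank_range_add_finrank_ker f
  have h2 : finrank F (LinearMap.range f) ≤ 2 := (Submodule.finrank_le _).trans (by simp)
  let v' : LinearMap.ker f := ⟨v, (hf v).2 ⟨polar_self_of_sing hv, by rw [polar_comm, h]⟩⟩
  let u' : LinearMap.ker f := ⟨u, (hf u).2 ⟨h, polar_self_of_sing hu⟩⟩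
  let L : Submodule F (LinearMap.ker f) := Submodule.span F (Set.range ![v', u'])
  have h3 : finrank F L ≤ 2 := (finrank_range_le_card ![v', u']).trans (by simp)
  have h4 := L.finrank_quotient_add_finrank
  have h5 : n ≤ finrank F (LinearMap.ker f ⧸ L) := by omega
  let bs := Module.finBasis F (LinearMap.ker f ⧸ L)
  choose a ha using fun i : Fin n => L.mkQ_surjective (bs (Fin.castLE h5 i))
  choose g hg using fun i : Fin n => LinearMap.exists_extend ((bs.coord (Fin.castLE h5 i)).comp L.mkQ)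
  choose b hb using fun i : Fin n => exists_polar hQ (g i)
  have h6 : ∀ i (x : LinearMap.ker f), polar Q (b i) x = bs.coord (Fin.castLE h5 i) (L.mkQ x) := fun i x =>
    (hb i x).trans (LinearMap.congr_fun (hg i) x)
  have h7 : ∀ i (x : LinearMap.ker f), x ∈ L → polar Q (b i) x = 0 := fun i x hx => by
    rw [h6, Submodule.mkQ_apply, (Submodule.Quotient.mk_eq_zero L).2 hx, map_zero]
  refine ⟨fun i => a i, b, fun i => ((hf _).1 (a i).2).1, fun i => ((hf _).1 (a i).2).2,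
    fun i => h7 i v' (Submodule.subset_span ⟨0, rfl⟩), fun i => h7 i u' (Submodule.subset_span ⟨1, rfl⟩),
    fun i => ?_, fun i j hij => ?_⟩
  · rw [h6, ha, Basis.coord_apply, Basis.repr_self, Finsupp.single_eq_same]
  · rw [h6, ha, Basis.coord_apply, Basis.repr_self,
      Finsupp.single_eq_of_ne fun e => hij (Fin.castLE_injective h5 e)]

variable {S : Type*} [Group S]

/-- an embedding whose image contains the Siegel transformations -/
structure Emb (Q : QuadraticForm F W) (j : S →* (W ≃ₗ[F] W)) : Prop where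
  inj : Function.Injective j
  le : E Q ≤ j.range
  nd : Nondeg Q
  two : (2 : F) = 0

namespace Emb

variable {j : S →* (W ≃ₗ[F] W)} (H : Emb Q j) {u v w w' : W}

open Classical in
/-- the Siegel elements -/
noncomputable def sg (u w : W) : S :=
  if h : Q u = 0 ∧ polar Q u w = 0 then (H.le (siegel_mem_E h.1 h.2)).choose else 1

theorem j_sg (hu : Q u = 0) (hw : polar Q u w = 0) : j (H.sg u w) = siegel Q u w hu hw := by
  rw [sg, dif_pos ⟨hu, hw⟩]
  exact (H.le (siegel_mem_E hu hw)).choose_spec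

theorem sg_apply (hu : Q u = 0) (hw : polar Q u w = 0) (x : W) :
    j (H.sg u w) x = x + polar Q u x • w - polar Q w x • u - (Q w * polar Q u x) • u := by
  rw [H.j_sg hu hw, siegel_apply]

theorem sg_mem (hu : Q u = 0) (hw : polar Q u w = 0) : j (H.sg u w) ∈ O Q := by
  rw [H.j_sg hu hw]
  exact siegel_mem_O hu hw

theorem sg_mul (hu : Q u = 0) (hw : polar Q u w = 0) (hw' : polar Q u w' = 0) :
    H.sg u w * H.sg u w' = H.sg u (w + w') := H.inj (by
  have h : polar Q u (w + w') = 0 := by rw [polar_add_right, hw, hw', add_zero]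
  rw [map_mul, H.j_sg hu hw, H.j_sg hu hw', H.j_sg hu h, siegel_mul])

theorem sg_conj {g : S} (hg : j g ∈ O Q) (hu : Q u = 0) (hw : polar Q u w = 0) :
    g * H.sg u w * g⁻¹ = H.sg (j g u) (j g w) := H.inj (by
  have h1 : Q (j g u) = 0 := (hg u).trans hu
  have h2 : polar Q (j g u) (j g w) = 0 := (polar_map hg u w).trans hw
  rw [map_mul, map_mul, map_inv, H.j_sg hu hw, H.j_sg h1 h2, siegel_conj hg])

theorem sg_line (hu : Q u = 0) (c : F) : H.sg u (c • u) = 1 := H.inj (by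
  have h : polar Q u (c • u) = 0 := by rw [polar_smul_right, polar_self_of_sing hu, smul_zero]
  ext x
  rw [H.sg_apply hu h, map_one, QuadraticMap.map_smul, hu, polar_smul_left, smul_zero, zero_mul, zero_smul, sub_zero,
    smul_smul, smul_eq_mul, mul_comm, add_sub_cancel_right]
  rfl)

include H in
theorem add_self (x : W) : x + x = 0 := by rw [← two_smul F, H.two, zero_smul]

theorem sg_sq (hu : Q u = 0) (hw : polar Q u w = 0) : H.sg u w ^ 2 = 1 := by
  rw [pow_two, H.sg_mul hu hw hw, H.add_self, ← zero_smul F u, H.sg_line hu]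

theorem sg_comm (hu : Q u = 0) (hw : polar Q u w = 0) (hw' : polar Q u w' = 0) :
    H.sg u w * H.sg u w' = H.sg u w' * H.sg u w := by
  rw [H.sg_mul hu hw hw', H.sg_mul hu hw' hw, add_comm]

theorem line_of_eq (h0 : u ≠ 0) (hu : Q u = 0) (hw : polar Q u w = 0) (hw' : polar Q u w' = 0)
    (h : H.sg u w = H.sg u w') : ∃ c : F, w = w' + c • u := by
  obtain ⟨x, hx⟩ := H.nd.exists_polar_eq h0 1
  have h1 := H.sg_apply hu hw x
  rw [h, H.sg_apply hu hw' x, hx] at h1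
  refine ⟨polar Q w x + Q w - polar Q w' x - Q w', ?_⟩
  linear_combination (norm := module) -h1

/-- conjugation by `sg u b` -/
theorem conj_sg {a b : W} (hv : Q v = 0) (hu : Q u = 0) (h : polar Q v u = 0) (ha : polar Q v a = 0)
    (ha' : polar Q u a = 0) (hb : polar Q b v = 0) (hb' : polar Q b u = 0) :
    H.sg u b * H.sg v a * (H.sg u b)⁻¹ = H.sg v (a - polar Q b a • u) := by
  have h1 : polar Q u b = 0 := by rw [polar_comm, hb']
  rw [H.sg_conj (H.sg_mem hu h1) hv ha, H.sg_apply hu h1, H.sg_apply hu h1, hb, ha', polar_comm _ u, h]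
  simp only [zero_smul, mul_zero, add_zero, sub_zero]

theorem conj_sg_one {a b : W} (hv : Q v = 0) (hu : Q u = 0) (h : polar Q v u = 0) (ha : polar Q v a = 0)
    (ha' : polar Q u a = 0) (hb : polar Q b v = 0) (hb' : polar Q b u = 0) (e : polar Q b a = 1) :
    H.sg u b * H.sg v a * (H.sg u b)⁻¹ = H.sg v a * H.sg v u := by
  rw [H.conj_sg hv hu h ha ha' hb hb', e, one_smul, H.sg_mul hv ha h, sub_eq_add_neg,
    neg_eq_of_add_eq_zero_left (H.add_self u)]

theorem conj_sg_zero {a b : W} (hv : Q v = 0) (hu : Q u = 0) (h : polar Q v u = 0) (ha : polar Q v a = 0)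
    (ha' : polar Q u a = 0) (hb : polar Q b v = 0) (hb' : polar Q b u = 0) (e : polar Q b a = 0) :
    H.sg u b * H.sg v a = H.sg v a * H.sg u b := by
  rw [← mul_inv_eq_iff_eq_mul, H.conj_sg hv hu h ha ha' hb hb', e, zero_smul, sub_zero]

/-- the unipotent radical of the stabiliser of a singular vector -/
def rd (hv : Q v = 0) : Subgroup S where
  carrier := {y | ∃ w, polar Q v w = 0 ∧ y = H.sg v w}
  one_mem' := ⟨0, polar_zero_right _ _, by rw [← zero_smul F v, H.sg_line hv]⟩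
  mul_mem' := by
    rintro _ _ ⟨w, hw, rfl⟩ ⟨w', hw', rfl⟩
    exact ⟨w + w', by rw [polar_add_right, hw, hw', add_zero], H.sg_mul hv hw hw'⟩
  inv_mem' := by
    rintro _ ⟨w, hw, rfl⟩
    exact ⟨w, hw, inv_eq_of_mul_eq_one_left (by rw [← pow_two, H.sg_sq hv hw])⟩

variable {p : ℕ} [Fact p.Prime] {V : Type*} [AddCommGroup V] [Module (ZMod p) V] [Finite V]
  {σ : Representation (ZMod p) S V} [FiniteDimensional F W]

/-- long root elements -/
theorem cod_z (hp : p ≠ 2) (hσ : Function.Injective σ) (hv : Q v = 0) (hu : Q u = 0) (h : polar Q v u = 0)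
    (h1 : H.sg v u ≠ 1) {n : ℕ} (hn : n + 4 ≤ finrank F W) : 2 ^ n ≤ cod σ (zpowers (H.sg v u)) := by
  obtain ⟨a, b, a1, a2, b1, b2, e1, e0⟩ := exists_dual H.nd hv hu h hn
  refine heis_cod_two (x := fun i => H.sg v (a i)) (y := fun i => H.sg u (b i)) ⟨Nat.prime_two, H.sg_sq hv h,
    fun i => H.sg_sq hv (a1 i), fun i => H.sg_comm hv h (a1 i),
    fun i => (H.conj_sg_zero hv hu h h (polar_self_of_sing hu) (b1 i) (b2 i) (b2 i)).symm,
    fun i k => H.sg_comm hv (a1 i) (a1 k),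
    fun i k e => H.conj_sg_zero hv hu h (a1 k) (a2 k) (b1 i) (b2 i) (e0 i k e),
    fun i => H.conj_sg_one hv hu h (a1 i) (a2 i) (b1 i) (b2 i) (e1 i)⟩ hp fun e => h1 (hσ (by rw [e, map_one]))

/-- all Siegel elements -/
theorem cod_y [Finite F] (hp : p ≠ 2) (hσ : Function.Injective σ) (h0 : v ≠ 0) (hv : Q v = 0) (hw : polar Q v w = 0)
    (h1 : H.sg v w ≠ 1) {n : ℕ} (hn : n + 5 ≤ finrank F W) (h7 : 7 ≤ finrank F W) :
    2 ^ n ≤ cod σ (zpowers (H.sg v w)) := by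
  have h2 : w ∉ Submodule.span F {v} := fun e => by
    obtain ⟨c, rfl⟩ := Submodule.mem_span_singleton.1 e
    exact h1 (H.sg_line hv c)
  obtain ⟨g, g0, g1⟩ := LinearMap.exists_extend_of_notMem (0 : Submodule.span F {v} →ₗ[F] F) h2 1
  obtain ⟨b, hb⟩ := exists_polar H.nd g
  have b0 : polar Q b v = 0 := (hb v).trans (LinearMap.congr_fun g0 ⟨v, Submodule.mem_span_singleton_self v⟩)
  obtain ⟨v', hv'⟩ := H.nd.exists_polar_eq h0 1
  obtain ⟨u, u0, hu, h3⟩ := exists_sing_perp (Q := Q) ![v, w, b, v'] h7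
  have h4 := H.conj_sg_one hv hu (h3 0) hw (by rw [polar_comm]; exact h3 1) b0 (h3 2) ((hb w).trans g1)
  have h5 : H.sg v u ≠ 1 := fun e => by
    rw [← H.sg_line hv 0, zero_smul] at e
    obtain ⟨c, hc⟩ := H.line_of_eq h0 hv (h3 0) (polar_zero_right _ _) e
    have h6 : polar Q v' u = 0 := h3 3
    rw [hc, zero_add, polar_smul_right, polar_comm, hv', smul_eq_mul, mul_one] at h6
    exact u0 (by rw [hc, h6, zero_smul, add_zero])
  have h6 := H.cod_z hp hσ hv hu (h3 0) h5 (n := n + 1) hn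
  have h8 := cod_zpowers_mul_le (ρ := σ) (H.sg v w)⁻¹ (H.sg u b * H.sg v w * (H.sg u b)⁻¹)
  rw [cod_zpowers_conj, zpowers_inv, h4, inv_mul_cancel_left] at h8
  omega

omit [FiniteDimensional F W] in
/-- an isometry that centralises the radical has order dividing four -/
theorem pow_four {g : S} (hg : j g ∈ O Q) (h0 : v ≠ 0) (hv : Q v = 0) (hf : j g v = v)
    (h : ∀ y ∈ H.rd hv, g * y = y * g) : g ^ 4 = 1 := H.inj (by
  have h1 : ∀ a, polar Q v a = 0 → ∃ c : F, j g a = a + c • v := fun a ha => by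
    have h2 := H.sg_conj hg hv ha
    rw [h _ ⟨a, ha, rfl⟩, mul_inv_cancel_right, hf] at h2
    exact H.line_of_eq h0 hv (by rw [← hf, polar_map hg, ha]) ha h2.symm
  ext x
  obtain ⟨c, hc⟩ := h1 (j g x - x) (by
    rw [polar_sub_right, sub_eq_zero]
    conv_lhs => rw [← hf]
    exact polar_map hg v x)
  have h3 : j g (j g x) = x + c • v := by
    rw [map_sub] at hc
    have h4 := H.add_self (j g x)
    have h5 := H.add_self x
    linear_combination (norm := module) hc + h4 - h5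
  have h4 := H.add_self (c • v)
  show j (g ^ 4) x = j 1 x
  rw [map_pow, map_one, show (j g ^ 4) x = j g (j g (j g (j g x))) from rfl, h3, map_add, map_add, h3, map_smul, hf,
    map_smul, hf, add_assoc, h4, add_zero]
  rfl)

include H in
/-- the bound for a `p`-group of isometries that fixes a singular vector -/
theorem core [Finite F] [Finite S] (hp : p ≠ 2) (hσ : Function.Injective σ) {B : Subgroup S} (hB : IsPGroup p B)
    (hO : ∀ b ∈ B, j b ∈ O Q) (h0 : v ≠ 0) (hv : Q v = 0) (hf : ∀ b ∈ B, j b v = v) {n : ℕ}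
    (hn : n + 5 ≤ finrank F W) (h7 : 7 ≤ finrank F W) {t : ℕ} (ht : t.factorial < Nat.card B) :
    (p - 1) * (2 * ((t + 1) * 2 ^ n)) ≤ p * ((t + 2) * cod σ B) := by
  have key : ∀ b ∈ B, ∀ y ∈ H.rd hv, b * y * b⁻¹ ∈ H.rd hv := by
    rintro b hb _ ⟨a, ha, rfl⟩
    refine ⟨j b a, by rw [← hf b hb, polar_map (hO b hb), ha], ?_⟩
    rw [H.sg_conj (hO b hb) hv ha, hf b hb]
  have hN : B ≤ normalizer (H.rd hv : Set S) := fun b hb => mem_normalizer_iff.2 fun y => ⟨key b hb y, fun hy => by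
    have := key b⁻¹ (inv_mem hb) _ hy
    rwa [show b⁻¹ * (b * y * b⁻¹) * b⁻¹⁻¹ = y by group] at this⟩
  have := rad (ρ := σ) (R := H.rd hv) (c := 2 ^ n) Nat.prime_two hp (XE.cast_ne_zero Nat.prime_two hp.symm)
    (by rintro _ ⟨a, ha, rfl⟩ _ ⟨b, hb, rfl⟩; exact H.sg_comm hv ha hb)
    (by rintro _ ⟨a, ha, rfl⟩; exact H.sg_sq hv ha) hN hB
    (fun b hb hc => by
      obtain ⟨k, hk⟩ := hB ⟨b, hb⟩
      have h1 := Nat.dvd_gcd (orderOf_dvd_of_pow_eq_one (show b ^ p ^ k = 1 from congrArg Subtype.val hk))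
        (orderOf_dvd_of_pow_eq_one (H.pow_four (hO b hb) h0 hv (hf b hb) hc))
      rwa [show Nat.gcd (p ^ k) 4 = 1 from
        Nat.Coprime.pow k 2 ((Nat.coprime_primes Fact.out Nat.prime_two).2 hp), Nat.dvd_one, orderOf_eq_one_iff] at h1)
    (fun y hy h1 => by
      obtain ⟨a, ha, rfl⟩ := commutator_le_of_le_normalizer hN hy
      exact H.cod_y hp hσ h0 hv ha h1 hn h7) ht
  rwa [Nat.add_one_sub_one, one_mul] at this

end Emb

end Cfsg.Agent.TwoF.XS.SpTwo
end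

-- part: TwoF/XS/Sp2/Main
section
/-!
# TwoF / XS / Sp2 : the rows `Sp₈(2)`, ..., `Sp₁₄(2)` (`p = 3, 5`) and `Ω₈⁻(2)` (`p = 3`) (helper75)
-/

set_option autoImplicit false

namespace Cfsg.Agent.TwoF.XS.SpTwo

open Module Gen Subgroup QuadraticMap XE Cfsg.Agent.LieClassical Cfsg.Agent.LieClassical.OrthCore
  Cfsg.Agent.LieClassical.OrthFinite Cfsg.Agent.ClassicalGeometry
open scoped Matrix

section lin

variable {F W : Type*} [Field F] [AddCommGroup W] [Module F W] {S : Type*} [Group S]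

/-- a non-zero vector with a large stabiliser -/
theorem exists_vec [Finite W] [Finite S] {p : ℕ} [Fact p.Prime] (j : S →* (W ≃ₗ[F] W)) {A : Subgroup S}
    (hA : IsPGroup p A) {T : Set W} (h0 : (0 : W) ∈ T) (hT : ∀ a ∈ A, ∀ v ∈ T, j a v ∈ T) {k : ℕ}
    (h : ¬ p ^ (k + 1) ∣ Nat.card T - 1) :
    ∃ v ∈ T, v ≠ 0 ∧ ∃ B ≤ A, (∀ b ∈ B, j b v = v) ∧ Nat.card A ≤ p ^ k * Nat.card B := by
  let : MulAction A ↥(T \ {0}) :=
    { smul := fun a v => ⟨j a v, hT a a.2 v v.2.1, fun e => v.2.2 ((j a).map_eq_zero_iff.1 e)⟩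
      one_smul := fun v => Subtype.ext (by
        show j ((1 : A) : S) v = v
        rw [OneMemClass.coe_one, map_one]
        rfl)
      mul_smul := fun a b v => Subtype.ext (by
        show j ((a * b : A) : S) v = j a (j b v)
        rw [Subgroup.coe_mul, map_mul]
        rfl) }
  obtain ⟨v, hv⟩ := exists_stab (X := ↥(T \ {0})) hA (k := k) (by
    rwa [Nat.card_coe_set_eq, Set.ncard_sdiff_singleton_of_mem h0, ← Nat.card_coe_set_eq])
  refine ⟨v, v.2.1, v.2.2, (MulAction.stabilizer A v).map A.subtype, map_subtype_le _, ?_, ?_⟩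
  · rintro _ ⟨b, hb, rfl⟩
    exact congrArg Subtype.val hb
  · rwa [card_map_of_injective A.subtype_injective]

/-- a group of odd order preserves a quadratic form with given polar form -/
theorem exists_form (h2 : (2 : F) = 0) (Q₁ : QuadraticForm F W) (j : S →* (W ≃ₗ[F] W)) {B : Subgroup S} [Finite B]
    (hB : Odd (Nat.card B)) (hj : ∀ b ∈ B, ∀ x y, polar Q₁ (j b x) (j b y) = polar Q₁ x y) {v : W} (h0 : v ≠ 0)
    (hf : ∀ b ∈ B, j b v = v) :
    ∃ Q : QuadraticForm F W, (∀ x y, polar Q x y = polar Q₁ x y) ∧ Q v = 0 ∧ ∀ b ∈ B, j b ∈ O Q := by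
  have := Fintype.ofFinite B
  obtain ⟨φ, -, hφ⟩ := LinearMap.exists_extend_of_notMem (0 : (⊥ : Submodule F W) →ₗ[F] F) (by simpa using h0) 1
  let Q₀ : QuadraticForm F W := Q₁ - Q₁ v • linMulLin φ φ
  have h1 : ∀ x, Q₀ x = Q₁ x - Q₁ v * (φ x * φ x) := fun x => rfl
  have h3 : ∀ x y, polar Q₀ x y = polar Q₁ x y := fun x y => by
    simp only [polar, h1, map_add]
    linear_combination (-(Q₁ v * φ x * φ y)) * h2
  let Q : QuadraticForm F W := ∑ b : B, Q₀.comp (j b).toLinearMap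
  have h4 : ∀ x, Q x = ∑ b : B, Q₀ (j b x) := fun x => by
    simp only [Q, _root_.sum_apply]
    rfl
  refine ⟨Q, fun x y => ?_, ?_, fun b hb x => ?_⟩
  · have h5 : polar Q x y = ∑ b : B, polar Q₀ (j b x) (j b y) := by
      simp only [polar, h4, map_add, Finset.sum_sub_distrib]
    obtain ⟨n, hn⟩ := hB
    rw [h5, Finset.sum_congr rfl fun (b : B) _ => (h3 _ _).trans (hj b b.2 x y), Finset.sum_const, Finset.card_univ,
      ← Nat.card_eq_fintype_card, hn, nsmul_eq_mul]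
    push_cast
    rw [h2, zero_mul, zero_add, one_mul]
  · rw [h4]
    exact Finset.sum_eq_zero fun b _ => by rw [hf b b.2, h1, hφ, mul_one, mul_one, sub_self]
  · rw [h4, h4]
    refine Fintype.sum_equiv (Equiv.mulRight (⟨b, hb⟩ : B)) _ _ fun c => ?_
    rw [Equiv.coe_mulRight, Subgroup.coe_mul, map_mul]
    rfl

end lin

theorem exists_quot {G : Type*} [Group G] (h : center G = ⊥) : Nonempty (G ⧸ center G ≃* G) :=
  ⟨(QuotientGroup.quotientMulEquivOfEq h).trans QuotientGroup.quotientBot⟩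

theorem center_eq_bot {S G : Type*} [Group S] [Group G] (e : S ≃* G) (h : center G = ⊥) : center S = ⊥ := by
  rw [← map_center_mulEquiv e.symm, h, Subgroup.map_bot]

theorem not_dvd_out {S : Type} [Group S] [Finite S] (hS : center S = ⊥) {p o : ℕ}
    (h : Nat.card (MulAut S) = o * Nat.card S) (ho : ¬ p ∣ o) : ¬ p ∣ Nat.card (Out S) := by
  rw [card_aut hS, mul_comm] at h
  rwa [Nat.eq_of_mul_eq_mul_right Nat.card_pos h]

theorem two_eq_zero {F : Type*} [Field F] [Fintype F] (hF : Fintype.card F = 2) : (2 : F) = 0 := by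
  have := FiniteField.cast_card_eq_zero F
  rwa [hF, Nat.cast_ofNat] at this

theorem row_omega {ι F : Type} [Fintype ι] [DecidableEq ι] [Field F] [Finite F] (Q : QuadraticForm F (ι → F))
    {q : (ι → F) → F} (hq : ⇑Q = q) (h2 : (2 : F) = 0) (hQ : Nondeg Q) (hι : Fintype.card ι = 8)
    (hz : Zc 3 (POmega F q) 1) (hc : ¬ 3 ^ 5 ∣ Nat.card (POmega F q))
    (ha : Nat.card (MulAut (POmega F q)) = 2 * Nat.card (POmega F q)) (hX : Nat.card {v // q v = 0} = 120) :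
    Row88 3 (POmega F q) := by
  subst hq
  have hd : finrank F (ι → F) = 8 := by rw [Module.finrank_fintype_fun_eq_card, hι]
  have hG := good_of_finite hQ (by omega)
  have h1 : center (E Q) = ⊥ := (eq_bot_iff_forall _).2 fun z hz => by
    obtain ⟨c, hc⟩ := OrthAut1.center_scalar hG hz
    obtain ⟨x, y, hxy⟩ := hG.exists_hyp
    have h3 := polar_map (E_le_O z.2) x y
    rw [hc, hc, polar_smul_left, polar_smul_right, hxy.pair, smul_eq_mul, smul_eq_mul, mul_one] at h3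
    have h4 : c = 1 := sub_eq_zero.1 (pow_eq_zero_iff two_ne_zero |>.1 (by
      linear_combination h3 + (1 - c) * h2))
    ext v
    rw [hc, h4, one_smul]
    rfl
  obtain ⟨e₁⟩ := exists_quot h1
  let e : POmega F Q ≃* E Q :=
    (quotientCenterCongr ((omegaEquiv Q).trans (MulEquiv.subgroupCongr hG.commutator_eq_E))).trans e₁
  let j : POmega F Q →* ((ι → F) ≃ₗ[F] (ι → F)) := (E Q).subtype.comp e.toMonoidHom
  have H : Emb Q j := ⟨Subtype.val_injective.comp e.injective,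
    fun g hg => ⟨e.symm ⟨g, hg⟩, congrArg Subtype.val (e.apply_symm_apply ⟨g, hg⟩)⟩, hQ, h2⟩
  have hO : ∀ g, j g ∈ O Q := fun g => E_le_O (e g).2
  have hS := center_eq_bot e h1
  refine row88_of_rep hz hS (not_dvd_out hS ha (by norm_num)) fun V _ _ _ σ hσ A hA r hr hcard => ?_
  obtain ⟨v, hv, h0, B, hBA, hf, hB⟩ := exists_vec j (elemAb_isPGroup hA) (T := {v | Q v = 0}) (map_zero Q)
    (fun a _ v hv => (hO a v).trans hv) (k := 0) (by
      rw [show Nat.card ↥{v | Q v = 0} = 120 from hX]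
      norm_num)
  have h3 := card_le_of_not_dvd (r₀ := 4) hc A hA
  rw [hcard, Nat.pow_le_pow_iff_right (by norm_num)] at h3
  have h4 : 3 ^ 3 ≤ 3 ^ r := Nat.pow_le_pow_right (by norm_num) hr
  have h5 := H.core (by norm_num) hσ ((elemAb_isPGroup hA).to_le hBA) (fun b _ => hO b) h0 hv hf (n := 3) (t := 3)
    (by omega) (by omega) (by rw [show Nat.factorial 3 = 6 from rfl]; omega)
  have h6 := cod_mono (ρ := σ) hBA
  omega

theorem _root_.Cfsg.Agent.TwoF.XS.o8m : O8m := fun F _ _ a b hF hab => by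
  have h1 : HasCyclicSchurMultiplier (POmega F (quadFormMinus 3 F a b)) 1 := S2099.result hF 4 le_rfl a b hab
  have h2 : 1 * Nat.card (POmega F (quadFormMinus 3 F a b)) = 197406720 := S0294.result hF 4 le_rfl a b hab
  have h3 : Nat.card (MulAut (POmega F (quadFormMinus 3 F a b))) =
      2 * 1 * Nat.card (POmega F (quadFormMinus 3 F a b)) := S0818.result 2 1 le_rfl hF 4 le_rfl a b hab
  have h4 : Nat.card {v // quadFormMinus 3 F a b v = 0} = 120 := S0290.result hF 4 (by norm_num) a b hab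
  exact row_omega _ (OrthForms.coe_minusForm 3 F a b) (two_eq_zero hF) (OrthForms.nondeg_minusForm 3 F a b hab)
    (by simp) (zc_of_cyclic h1) (by rw [← one_mul (Nat.card _), h2]; norm_num) h3 h4

/-! ### the symplectic groups -/

theorem exists_nine₀ : ∃ x : Matrix.symplecticGroup (Fin 4) (ZMod 2), x ^ 9 = 1 ∧ x ^ 3 ≠ 1 := by
  let M : Matrix (Fin 4 ⊕ Fin 4) (Fin 4 ⊕ Fin 4) (ZMod 2) :=
    Matrix.fromBlocks !![0, 0, 0, 0; 1, 0, 0, 0; 0, 1, 0, 0; 0, 0, 0, 1] !![0, 0, 1, 0; 0, 0, 0, 0; 0, 0, 0, 0; 0, 0, 0, 0]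
      !![0, 0, 1, 0; 0, 0, 0, 0; 0, 0, 0, 0; 0, 0, 0, 0] !![0, 0, 1, 0; 1, 0, 0, 0; 0, 1, 0, 0; 0, 0, 0, 1]
  let N : Matrix (Fin 4 ⊕ Fin 4) (Fin 4 ⊕ Fin 4) (ZMod 2) :=
    Matrix.fromBlocks !![0, 0, 0, 0; 0, 0, 0, 0; 0, 0, 0, 0; 0, 0, 0, 1] !![1, 0, 0, 0; 0, 1, 0, 0; 0, 0, 1, 0; 0, 0, 0, 0]
      !![1, 0, 0, 0; 0, 1, 0, 0; 0, 0, 1, 0; 0, 0, 0, 0] !![1, 0, 0, 0; 0, 1, 0, 0; 0, 0, 1, 0; 0, 0, 0, 1]
  have h1 : M * Matrix.J (Fin 4) (ZMod 2) * Mᵀ = Matrix.J (Fin 4) (ZMod 2) := by decide +kernel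
  have h2 : M * M * M = N := by decide +kernel
  have h3 : N * N * N = 1 := by decide +kernel
  have h4 : N ≠ 1 := by decide +kernel
  have h5 : M ^ 3 = N := by rw [pow_three', h2]
  refine ⟨⟨M, h1⟩, Subtype.ext ?_, fun e => h4 (h5.symm.trans (congrArg Subtype.val e))⟩
  show M ^ (3 * 3) = 1
  rw [pow_mul, h5, pow_three', h3]

variable {F : Type} [Field F] [Fintype F] {m : ℕ}

theorem center_sp (hF : Fintype.card F = 2) (hm : 1 ≤ m) : center (Matrix.symplecticGroup (Fin m) F) = ⊥ :=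
  card_eq_one.1 (S0246.result hF m hm)

theorem rank_le_four (hF : Fintype.card F = 2) (A : Subgroup (PSp 4 F)) (hA : IsElementaryAbelian 3 A) :
    Nat.card A ≤ 3 ^ 4 := by
  obtain ⟨e⟩ := exists_quot (center_sp (m := 4) hF (by norm_num))
  obtain ⟨x, h1, h2⟩ := exists_nine₀
  let e' := e.trans (FieldTransfer.spCongr (Fin 4)
    (FiniteField.ringEquivOfCardEq (K := F) (K' := ZMod 2) (by rw [hF, ZMod.card])))
  have h3 : e'.symm x ^ 9 = 1 := by rw [← map_pow, h1, map_one]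
  refine card_le_of_not_elemAb (r₀ := 4) (Q := zpowers (e'.symm x)) ?_ ?_
    (fun h => h2 (e'.symm.injective (by rw [map_pow, map_one]; exact h.2 _ (mem_zpowers _)))) A hA
  · rw [Nat.card_congr e.toEquiv, S0245.result hF 4]
    decide
  · rintro ⟨_, k, rfl⟩
    refine ⟨2, Subtype.ext ?_⟩
    show (e'.symm x ^ k) ^ 9 = 1
    rw [← zpow_natCast, ← zpow_mul, mul_comm, zpow_mul, zpow_natCast, h3, one_zpow]

theorem sp_core (hF : Fintype.card F = 2) (hm : 4 ≤ m) {p : ℕ} [Fact p.Prime] (hp : p ≠ 2) {V : Type*}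
    [AddCommGroup V] [Module (ZMod p) V] [Finite V] {σ : Representation (ZMod p) (PSp m F) V}
    (hσ : Function.Injective σ) {A : Subgroup (PSp m F)} (hA : IsPGroup p A) (k n t : ℕ)
    (hk : ¬ p ^ (k + 1) ∣ 2 ^ (m + m) - 1) (hn : n + 5 ≤ m + m) (ht : p ^ k * t.factorial < Nat.card A) :
    (p - 1) * (2 * ((t + 1) * 2 ^ n)) ≤ p * ((t + 2) * cod σ A) := by
  have h2 := two_eq_zero hF
  obtain ⟨e⟩ := exists_quot (center_sp (m := m) hF (by omega))
  let j : PSp m F →* ((Fin m ⊕ Fin m → F) ≃ₗ[F] (Fin m ⊕ Fin m → F)) :=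
    ((glEquiv (Fin m ⊕ Fin m) F).toMonoidHom.comp
      (Units.map (Matrix.symplecticGroup (Fin m) F).subtype)).comp (toUnits.toMonoidHom.comp e.toMonoidHom)
  have hj : ∀ g v, j g v = (e g).1 *ᵥ v := fun g v => rfl
  have hi : Function.Injective j := fun g g' h => e.injective (Subtype.ext (Matrix.mulVec_injective
    (funext fun v => (hj g v).symm.trans ((congrArg (fun f => f v) h).trans (hj g' v)))))
  have hs : ∀ x y, polar (OrthForms.plusForm m F) x y = sympForm m F x y := fun x y => by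
    rw [OrthForms.polar_plusForm, SympBasic.sympForm_eq_sum]
    exact Finset.sum_congr rfl fun i _ => by linear_combination (x (.inl i) * y (.inr i)) * h2
  have hd : finrank F (Fin m ⊕ Fin m → F) = m + m := by simp only [_root_.Module.finrank_fintype_fun_eq_card, _root_.Fintype.card_sum, _root_.Fintype.card_fin, _root_.Nat.add_left_cancel_iff]
  obtain ⟨v, -, h0, B, hBA, hf, hB⟩ := exists_vec j hA (T := Set.univ) trivial (fun _ _ _ _ => trivial) (k := k) (by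
    rwa [Nat.card_coe_set_eq, Set.ncard_univ, Nat.card_fun, Nat.card_eq_fintype_card, hF, Nat.card_sum,
      Nat.card_fin])
  have hB' := hA.to_le hBA
  obtain ⟨Q, q1, q2, q3⟩ := exists_form h2 (OrthForms.plusForm m F) j (B := B) (by
    obtain ⟨i, hi⟩ := hB'.exists_card_eq
    exact hi ▸ ((Fact.out : p.Prime).odd_of_ne_two hp).pow)
    (fun b _ x y => by rw [hs, hs, hj, hj, SympBasic.sympForm_mulVec (e b).2]) h0 hf
  have H : Emb Q j := ⟨hi, fun g hg => by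
    have h3 : ∀ x, LinearMap.toMatrix' g.toLinearMap *ᵥ x = g x := fun x => LinearMap.toMatrix'_mulVec _ x
    refine ⟨e.symm ⟨LinearMap.toMatrix' g.toLinearMap, SympBasic.mem_symplecticGroup_iff.2 fun x y => ?_⟩, ?_⟩
    · rw [h3, h3, ← hs, ← hs, ← q1, ← q1, polar_map (E_le_O hg)]
    · ext1 x
      rw [hj, e.apply_symm_apply, h3],
    fun x hx => OrthForms.nondeg_plusForm m F x fun y => (q1 x y).symm.trans (hx y), h2⟩
  have h4 := H.core hp hσ hB' q3 h0 q2 hf (n := n) (t := t) (by omega) (by omega)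
    (Nat.lt_of_mul_lt_mul_left (ht.trans_le hB))
  exact h4.trans (Nat.mul_le_mul_left _ (Nat.mul_le_mul_left _ (cod_mono hBA)))

theorem _root_.Cfsg.Agent.TwoF.XS.sp2 : Sp2 := fun p _ F _ _ m hF h4 h7 hp => by
  have h1 : HasCyclicSchurMultiplier (PSp m F) 1 := S2092.result hF m (by omega) (by omega) (by omega)
  have h2 := S0814.result 2 1 le_rfl hF m (by omega) (by omega)
  rw [if_neg (by omega)] at h2
  obtain ⟨e⟩ := exists_quot (center_sp (m := m) hF (by omega))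
  have hS := center_eq_bot e (center_sp hF (by omega))
  have h3 : p ≠ 2 := by omega
  refine row88_of_rep (zc_of_cyclic h1) hS (not_dvd_out hS h2 (Fact.out : p.Prime).not_dvd_one)
    fun V _ _ _ σ hσ A hA r hr hc => ?_
  have h5 := sp_core hF h4 h3 hσ (elemAb_isPGroup hA)
  have h6 : ∀ r₀, ¬ p ^ (r₀ + 1) ∣ 2 ^ m ^ 2 * ∏ i ∈ Finset.range m, (2 ^ (2 * (i + 1)) - 1) → r ≤ r₀ := fun r₀ h => by
    have := card_le_of_not_dvd (r₀ := r₀) (by rwa [Nat.card_congr e.toEquiv, S0245.result hF m]) A hA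
    rwa [hc, Nat.pow_le_pow_iff_right (Fact.out : p.Prime).one_lt] at this
  have h8 := Nat.pow_le_pow_right (Fact.out : p.Prime).pos (Nat.succ_le_of_lt hr)
  rw [← hc] at h8
  rcases hp with rfl | rfl
  · by_cases hm : m = 4
    · subst hm
      have h9 := rank_le_four hF A hA
      rw [hc, Nat.pow_le_pow_iff_right (by norm_num)] at h9
      have := h5 1 3 3 (by norm_num) le_rfl (lt_of_lt_of_le (by decide) h8)
      omega
    · have h9 := h6 15 (by interval_cases m <;> decide)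
      have := h5 2 5 2 (by interval_cases m <;> omega) (by omega) (lt_of_lt_of_le (by decide) h8)
      omega
  · have h9 := h6 3 (by interval_cases m <;> decide)
    have := h5 1 3 2 (by interval_cases m <;> norm_num) (by omega) (lt_of_lt_of_le (by decide) h8)
    omega

end Cfsg.Agent.TwoF.XS.SpTwo
end

-- part: TwoF/XS/Five/Main
section
/-!
# TwoF / XS : the rows `p = 5` with Sylow subgroups of order `25` (helper33)
-/

set_option autoImplicit false
set_option maxHeartbeats 400000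
set_option maxRecDepth 100000

namespace Cfsg.Agent.TwoF.XS.Fv

open Matrix Subgroup Cfsg.Agent.SporRec.GF4
open scoped commutatorElement

theorem row88_congr {p : ℕ} [Fact p.Prime] {S T : Type} [Group S] [Group T] (h : Row88 p T) (e : S ≃* T) : Row88 p S :=
  fun Y _ _ V _ _ _ K ρ hs he => h Y V K ρ hs (he.map fun f => f.trans e)

/-- the criterion for a matrix group modulo its centre -/
theorem row88_mat [Fact (Nat.Prime 5)] {G M : Type} [Group G] [Finite G] [Monoid M] (f : G →* M)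
    (hf : Function.Injective f) (h3 : ¬ 5 ^ 3 ∣ Nat.card (MulAut (G ⧸ center G))) {a g h : G} {a' c b' g' h' : M}
    (ea : f a = a') (eg : f g = g') (eh : f h = h') (e1 : h' * h' = 1) (e2 : h' * a' * h' = b') (e3 : a' ≠ 1)
    (e4 : a' * a' = c) (e5 : c * c * a' = 1) (e6 : a' * b' = b' * a') (e7 : a' * g' * a' = g') (e8 : g' * b' = b' * g') :
    Row88 5 (G ⧸ center G) := by
  have h1 : h⁻¹ = h := inv_eq_of_mul_eq_one_right (hf (by rw [map_mul, eh, e1, map_one]))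
  have h2 : f (h * a * h⁻¹) = b' := by rw [h1, map_mul, map_mul, ea, eh, e2]
  have h4 : a ^ 5 = 1 := hf (by
    rw [map_one, ← e5, ← e4, map_pow, ea, show 5 = 2 + 2 + 1 from rfl, pow_succ, pow_add, pow_two])
  have h5 : g * a * g⁻¹ = a⁻¹ := by
    rw [mul_inv_eq_iff_eq_mul, eq_inv_mul_iff_mul_eq, ← mul_assoc]
    exact hf (by rw [map_mul, map_mul, ea, eg, e7])
  let π := QuotientGroup.mk' (center G)
  refine row88_of_swap (by norm_num) h3 (a := π a) (b := π (h * a * h⁻¹)) (g := π g) (h := π h) (fun e => e3 ?_)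
    (by rw [← map_pow, h4, map_one]) ?_ (by rw [← map_inv, ← map_mul, ← map_mul, h5, map_inv]) ?_
    (by rw [map_mul, map_mul, map_inv]) ?_
  · have h6 := mem_center_iff.1 ((QuotientGroup.eq_one_iff a).1 e) g
    rw [h6, mul_inv_cancel_right, eq_inv_iff_mul_eq_one] at h5
    rw [show 5 = 2 + 2 + 1 from rfl, pow_succ, pow_add, pow_two, h5, one_mul, one_mul] at h4
    rw [← ea, h4, map_one]
  · rw [← map_mul, ← map_mul]
    exact congrArg π (hf (by rw [map_mul, h2, map_mul, h2, ea, e6]))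
  · rw [mul_inv_eq_iff_eq_mul, ← map_mul, ← map_mul]
    exact congrArg π (hf (by rw [map_mul, h2, map_mul, h2, eg, e8]))
  · have h6 : h * h = 1 := hf (by rw [map_mul, eh, e1, map_one])
    rw [← map_inv, ← map_mul, ← map_mul, h1, ← mul_assoc, ← mul_assoc, h6, one_mul, mul_assoc, h6, mul_one]
    exact mem_zpowers _

theorem aut_psp {F : Type} [Field F] [Fintype F] (r f : ℕ) [Fact r.Prime] (hf : 1 ≤ f) (hF : Fintype.card F = r ^ f) (m : ℕ)
    (hm : 2 ≤ m) (h22 : m = 2 → 3 ≤ r ^ f) (h : ¬ 5 ^ 3 ∣ (if m = 2 ∧ r = 2 then 2 else 1) * Nat.gcd 2 (r ^ f - 1) * f *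
      ((r ^ f) ^ (m ^ 2) * ∏ i ∈ Finset.range m, ((r ^ f) ^ (2 * (i + 1)) - 1))) :
    ¬ 5 ^ 3 ∣ Nat.card (MulAut (PSp m F)) := fun d => h (by
  rw [S0814.result r f hf hF m hm h22] at d
  rw [← S0245.result hF m]
  exact d.trans (mul_dvd_mul_left _ (card_quotient_dvd_card _)))

/-- an element of order five of `SL₂(4)` -/
def a4 : Matrix (Fin 2 ⊕ Fin 2) (Fin 2 ⊕ Fin 2) F4 := fromBlocks !![0, 0; 0, 1] !![1, 0; 0, 0] !![1, 0; 0, 0] !![.w, 0; 0, 1]

/-- its square -/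
def a4b : Matrix (Fin 2 ⊕ Fin 2) (Fin 2 ⊕ Fin 2) F4 :=
  fromBlocks !![1, 0; 0, 1] !![.w, 0; 0, 0] !![.w, 0; 0, 0] !![.w, 0; 0, 1]

/-- the same in the second factor -/
def b4 : Matrix (Fin 2 ⊕ Fin 2) (Fin 2 ⊕ Fin 2) F4 := fromBlocks !![1, 0; 0, 0] !![0, 0; 0, 1] !![0, 0; 0, 1] !![1, 0; 0, .w]

/-- an inverting element -/
def g4 : Matrix (Fin 2 ⊕ Fin 2) (Fin 2 ⊕ Fin 2) F4 := fromBlocks !![0, 0; 0, 1] !![1, 0; 0, 0] !![1, 0; 0, 0] !![0, 0; 0, 1]

/-- the exchange of the factors -/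
def h4 : Matrix (Fin 2 ⊕ Fin 2) (Fin 2 ⊕ Fin 2) F4 := fromBlocks !![0, 1; 1, 0] !![0, 0; 0, 0] !![0, 0; 0, 0] !![0, 1; 1, 0]

theorem sp44 [Fact (Nat.Prime 5)] : Row88 5 (PSp 2 F4) :=
  row88_mat (symplecticGroup (Fin 2) F4).subtype Subtype.val_injective
    (aut_psp 2 2 (by norm_num) rfl 2 le_rfl (fun _ => by norm_num) (by decide +kernel))
    (a := ⟨a4, SymplecticGroup.mem_iff.2 (by decide +kernel)⟩) (g := ⟨g4, SymplecticGroup.mem_iff.2 (by decide +kernel)⟩)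
    (h := ⟨h4, SymplecticGroup.mem_iff.2 (by decide +kernel)⟩) (a' := a4) (c := a4b) (b' := b4) (g' := g4) (h' := h4)
    rfl rfl rfl (by decide +kernel) (by decide +kernel) (by decide +kernel) (by decide +kernel) (by decide +kernel)
    (by decide +kernel) (by decide +kernel) (by decide +kernel)

/-- an element of order five of `Sp₄(3)` -/
def a3 : Matrix (Fin 4 ⊕ Fin 4) (Fin 4 ⊕ Fin 4) (ZMod 3) :=
  fromBlocks
    !![0, 2, 0, 0; 1, 0, 0, 0; 0, 0, 1, 0; 0, 0, 0, 1]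
    !![1, 2, 0, 0; 2, 2, 0, 0; 0, 0, 0, 0; 0, 0, 0, 0]
    !![1, 0, 0, 0; 2, 2, 0, 0; 0, 0, 0, 0; 0, 0, 0, 0]
    !![2, 1, 0, 0; 0, 0, 0, 0; 0, 0, 1, 0; 0, 0, 0, 1]

/-- its square -/
def a3b : Matrix (Fin 4 ⊕ Fin 4) (Fin 4 ⊕ Fin 4) (ZMod 3) :=
  fromBlocks
    !![1, 1, 0, 0; 0, 0, 0, 0; 0, 0, 1, 0; 0, 0, 0, 1]
    !![0, 2, 0, 0; 2, 1, 0, 0; 0, 0, 0, 0; 0, 0, 0, 0]
    !![1, 1, 0, 0; 2, 1, 0, 0; 0, 0, 0, 0; 0, 0, 0, 0]
    !![2, 1, 0, 0; 0, 2, 0, 0; 0, 0, 1, 0; 0, 0, 0, 1]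

/-- the same in the second factor -/
def b3 : Matrix (Fin 4 ⊕ Fin 4) (Fin 4 ⊕ Fin 4) (ZMod 3) :=
  fromBlocks
    !![1, 0, 0, 0; 0, 1, 0, 0; 0, 0, 0, 2; 0, 0, 1, 0]
    !![0, 0, 0, 0; 0, 0, 0, 0; 0, 0, 1, 2; 0, 0, 2, 2]
    !![0, 0, 0, 0; 0, 0, 0, 0; 0, 0, 1, 0; 0, 0, 2, 2]
    !![1, 0, 0, 0; 0, 1, 0, 0; 0, 0, 2, 1; 0, 0, 0, 0]

/-- an inverting element -/
def g3 : Matrix (Fin 4 ⊕ Fin 4) (Fin 4 ⊕ Fin 4) (ZMod 3) :=
  fromBlocks
    !![2, 2, 0, 0; 1, 1, 0, 0; 0, 0, 1, 0; 0, 0, 0, 1]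
    !![2, 2, 0, 0; 2, 0, 0, 0; 0, 0, 0, 0; 0, 0, 0, 0]
    !![0, 1, 0, 0; 1, 2, 0, 0; 0, 0, 0, 0; 0, 0, 0, 0]
    !![1, 2, 0, 0; 1, 2, 0, 0; 0, 0, 1, 0; 0, 0, 0, 1]

/-- the exchange of the factors -/
def h3 : Matrix (Fin 4 ⊕ Fin 4) (Fin 4 ⊕ Fin 4) (ZMod 3) :=
  fromBlocks
    !![0, 0, 1, 0; 0, 0, 0, 1; 1, 0, 0, 0; 0, 1, 0, 0]
    !![0, 0, 0, 0; 0, 0, 0, 0; 0, 0, 0, 0; 0, 0, 0, 0]
    !![0, 0, 0, 0; 0, 0, 0, 0; 0, 0, 0, 0; 0, 0, 0, 0]
    !![0, 0, 1, 0; 0, 0, 0, 1; 1, 0, 0, 0; 0, 1, 0, 0]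

theorem sp83 [Fact (Nat.Prime 5)] : Row88 5 (PSp 4 (ZMod 3)) :=
  row88_mat (symplecticGroup (Fin 4) (ZMod 3)).subtype Subtype.val_injective
    (aut_psp 3 1 le_rfl rfl 4 (by norm_num) (fun _ => by norm_num) (by decide +kernel))
    (a := ⟨a3, SymplecticGroup.mem_iff.2 (by decide +kernel)⟩) (g := ⟨g3, SymplecticGroup.mem_iff.2 (by decide +kernel)⟩)
    (h := ⟨h3, SymplecticGroup.mem_iff.2 (by decide +kernel)⟩) (a' := a3) (c := a3b) (b' := b3) (g' := g3) (h' := h3)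
    rfl rfl rfl (by decide +kernel) (by decide +kernel) (by decide +kernel) (by decide +kernel) (by decide +kernel)
    (by decide +kernel) (by decide +kernel) (by decide +kernel)

/-- an element of order `25` of `Sp₄(7)` -/
def x7 : Matrix (Fin 2 ⊕ Fin 2) (Fin 2 ⊕ Fin 2) (ZMod 7) :=
  fromBlocks
    !![3, 1; 4, 1]
    !![1, 0; 2, 5]
    !![3, 4; 6, 1]
    !![1, 1; 5, 5]

/-- its square -/
def x7b : Matrix (Fin 2 ⊕ Fin 2) (Fin 2 ⊕ Fin 2) (ZMod 7) :=
  fromBlocks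
    !![2, 1; 3, 4]
    !![6, 6; 5, 4]
    !![6, 5; 4, 4]
    !![3, 5; 3, 0]

/-- its fifth power -/
def y7 : Matrix (Fin 2 ⊕ Fin 2) (Fin 2 ⊕ Fin 2) (ZMod 7) :=
  fromBlocks
    !![1, 0; 1, 2]
    !![1, 2; 5, 2]
    !![0, 5; 1, 4]
    !![4, 3; 2, 6]

/-- its tenth power -/
def y7b : Matrix (Fin 2 ⊕ Fin 2) (Fin 2 ⊕ Fin 2) (ZMod 7) :=
  fromBlocks
    !![3, 6; 5, 2]
    !![2, 3; 0, 5]
    !![1, 0; 4, 0]
    !![5, 5; 6, 3]

theorem fact7 : Fact (Nat.Prime 7) := ⟨by norm_num⟩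

attribute [local instance] fact7 in
theorem sp47 [Fact (Nat.Prime 5)] : Row88 5 (PSp 2 (ZMod 7)) := by
  have h3 := aut_psp (F := ZMod 7) 7 1 le_rfl rfl 2 le_rfl (fun _ => by norm_num) (by decide +kernel)
  let x : symplecticGroup (Fin 2) (ZMod 7) := ⟨x7, SymplecticGroup.mem_iff.2 (by decide +kernel)⟩
  let y : symplecticGroup (Fin 2) (ZMod 7) := ⟨y7, SymplecticGroup.mem_iff.2 (by decide +kernel)⟩
  have e1 : x7 * x7 = x7b := by decide +kernel
  have e2 : x7b * x7b * x7 = y7 := by decide +kernel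
  have e3 : y7 * y7 = y7b := by decide +kernel
  have e4 : y7b * y7b * y7 = 1 := by decide +kernel
  have e5 : J (Fin 2) (ZMod 7) * (y7 * J (Fin 2) (ZMod 7) * (y7b * y7b)) ≠
      y7 * J (Fin 2) (ZMod 7) * (y7b * y7b) * J (Fin 2) (ZMod 7) := by decide +kernel
  have h1 : x ^ 5 = y := by
    rw [show 5 = 2 + 2 + 1 from rfl, pow_succ, pow_add, pow_two]
    exact Subtype.ext (show x7 * x7 * (x7 * x7) * x7 = y7 by rw [e1, e2])
  have h2 : y ^ 5 = 1 := by
    rw [show 5 = 2 + 2 + 1 from rfl, pow_succ, pow_add, pow_two]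
    exact Subtype.ext (show y7 * y7 * (y7 * y7) * y7 = 1 by rw [e3, e4])
  let π := QuotientGroup.mk' (center (symplecticGroup (Fin 2) (ZMod 7)))
  let α : MulAut (PSp 2 (ZMod 7)) := MulAut.conj (π x)
  have h4 : α ^ 5 = MulAut.conj (π y) := by rw [← map_pow, ← map_pow, h1]
  have h5 : α ^ 5 ^ 2 = 1 := by rw [pow_two, pow_mul, h4, ← map_pow, ← map_pow, h2, map_one, map_one]
  refine row88_of_rank (XE.card_le_of_not_elemAb (r₀ := 1) h3 (Q := zpowers α) ?_ fun h => ?_)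
  · rintro ⟨_, n, rfl⟩
    refine ⟨2, Subtype.ext ?_⟩
    change (α ^ n) ^ 5 ^ 2 = 1
    rw [← zpow_natCast, ← _root_.zpow_mul, mul_comm, _root_.zpow_mul, zpow_natCast, h5, _root_.one_zpow]
  · have h6 := h.2 α (mem_zpowers α)
    rw [h4] at h6
    let j := SymplecticGroup.symJ (Fin 2) (ZMod 7)
    have h7 : π (y * j * y⁻¹ * j⁻¹) = 1 := by
      have h7 : π y * π j * (π y)⁻¹ = π j := DFunLike.congr_fun h6 (π j)
      rw [map_mul, map_mul, map_mul, map_inv, map_inv, h7, mul_inv_cancel]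
    have h8 := mem_center_iff.1 ((QuotientGroup.eq_one_iff _).1 h7) j
    have h9 : y⁻¹ = y * y * (y * y) := inv_eq_of_mul_eq_one_left
      (Subtype.ext (show y7 * y7 * (y7 * y7) * y7 = 1 by rw [e3, e4]))
    rw [inv_mul_cancel_right, ← mul_assoc, mul_inv_eq_iff_eq_mul, h9] at h8
    exact e5 (e3 ▸ (congrArg Subtype.val h8 :))

/-- an element of order five of `Ω₄⁻(2)` -/
def a2 : Matrix (Fin 4 ⊕ Fin 4) (Fin 4 ⊕ Fin 4) (ZMod 2) :=
  fromBlocks
    !![0, 0, 0, 0; 0, 0, 0, 0; 0, 0, 1, 0; 0, 0, 0, 1]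
    !![1, 0, 0, 0; 0, 1, 0, 0; 1, 0, 0, 0; 0, 0, 0, 0]
    !![1, 0, 1, 0; 0, 1, 0, 0; 0, 0, 0, 0; 0, 0, 0, 0]
    !![1, 1, 1, 0; 1, 0, 0, 0; 1, 0, 1, 0; 0, 0, 0, 1]

/-- its square -/
def a2b : Matrix (Fin 4 ⊕ Fin 4) (Fin 4 ⊕ Fin 4) (ZMod 2) :=
  fromBlocks
    !![1, 0, 1, 0; 0, 1, 0, 0; 1, 0, 0, 0; 0, 0, 0, 1]
    !![1, 1, 1, 0; 1, 0, 0, 0; 0, 1, 1, 0; 0, 0, 0, 0]
    !![1, 1, 0, 0; 1, 0, 1, 0; 1, 0, 1, 0; 0, 0, 0, 0]
    !![1, 1, 0, 0; 1, 0, 1, 0; 0, 1, 0, 0; 0, 0, 0, 1]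

/-- the same in the second factor -/
def b2 : Matrix (Fin 4 ⊕ Fin 4) (Fin 4 ⊕ Fin 4) (ZMod 2) :=
  fromBlocks
    !![1, 0, 0, 0; 0, 1, 0, 0; 0, 0, 0, 0; 0, 0, 0, 0]
    !![0, 0, 0, 0; 0, 0, 0, 1; 0, 0, 1, 1; 0, 0, 0, 1]
    !![0, 0, 0, 0; 0, 0, 0, 0; 0, 0, 1, 0; 0, 1, 1, 1]
    !![1, 0, 0, 0; 0, 1, 0, 1; 0, 0, 0, 0; 0, 1, 0, 1]

/-- an inverting element -/
def g2 : Matrix (Fin 4 ⊕ Fin 4) (Fin 4 ⊕ Fin 4) (ZMod 2) :=
  fromBlocks
    !![0, 0, 0, 0; 0, 0, 0, 0; 0, 0, 1, 0; 0, 0, 0, 1]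
    !![1, 0, 0, 0; 0, 1, 0, 0; 0, 0, 0, 0; 0, 0, 0, 0]
    !![1, 0, 0, 0; 0, 1, 0, 0; 0, 0, 0, 0; 0, 0, 0, 0]
    !![0, 0, 0, 0; 0, 0, 0, 0; 0, 0, 1, 0; 0, 0, 0, 1]

/-- the exchange of the factors -/
def h2 : Matrix (Fin 4 ⊕ Fin 4) (Fin 4 ⊕ Fin 4) (ZMod 2) :=
  fromBlocks
    !![0, 0, 0, 1; 0, 0, 0, 0; 0, 0, 0, 0; 1, 0, 0, 0]
    !![0, 0, 0, 0; 0, 0, 1, 0; 0, 1, 0, 0; 0, 0, 0, 0]
    !![0, 0, 0, 0; 0, 0, 1, 0; 0, 1, 0, 0; 0, 0, 0, 0]
    !![0, 0, 0, 1; 0, 0, 0, 0; 0, 0, 0, 0; 1, 0, 0, 0]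

/-- an involution -/
def x2 : Matrix (Fin 4 ⊕ Fin 4) (Fin 4 ⊕ Fin 4) (ZMod 2) :=
  fromBlocks
    !![0, 0, 0, 0; 0, 1, 0, 0; 0, 0, 1, 0; 0, 0, 0, 1]
    !![1, 0, 0, 0; 0, 0, 0, 0; 0, 0, 0, 0; 0, 0, 0, 0]
    !![1, 0, 0, 0; 0, 0, 0, 0; 0, 0, 0, 0; 0, 0, 0, 0]
    !![0, 0, 0, 0; 0, 1, 0, 0; 0, 0, 1, 0; 0, 0, 0, 1]

/-- an involution -/
def y2 : Matrix (Fin 4 ⊕ Fin 4) (Fin 4 ⊕ Fin 4) (ZMod 2) :=
  fromBlocks
    !![1, 0, 1, 0; 0, 1, 1, 0; 1, 1, 1, 0; 0, 0, 0, 1]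
    !![1, 1, 1, 0; 1, 1, 1, 0; 1, 1, 0, 0; 0, 0, 0, 0]
    !![1, 1, 1, 0; 1, 1, 1, 0; 1, 1, 0, 0; 0, 0, 0, 0]
    !![1, 0, 1, 0; 0, 1, 1, 0; 1, 1, 1, 0; 0, 0, 0, 1]

/-- an involution -/
def z2 : Matrix (Fin 4 ⊕ Fin 4) (Fin 4 ⊕ Fin 4) (ZMod 2) :=
  fromBlocks
    !![0, 0, 1, 0; 1, 0, 0, 0; 1, 0, 0, 0; 0, 0, 0, 0]
    !![0, 0, 0, 0; 0, 0, 0, 1; 0, 0, 0, 0; 0, 1, 0, 0]
    !![0, 0, 0, 0; 0, 0, 0, 1; 0, 0, 0, 1; 0, 1, 1, 0]
    !![0, 1, 1, 0; 0, 0, 0, 0; 1, 0, 0, 0; 0, 0, 0, 0]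

/-- an involution -/
def w2 : Matrix (Fin 4 ⊕ Fin 4) (Fin 4 ⊕ Fin 4) (ZMod 2) :=
  fromBlocks
    !![1, 0, 1, 0; 1, 0, 0, 1; 1, 0, 0, 1; 0, 0, 1, 1]
    !![0, 1, 0, 0; 1, 0, 1, 1; 0, 1, 0, 0; 0, 1, 0, 0]
    !![0, 1, 1, 0; 1, 0, 1, 1; 1, 1, 0, 1; 0, 1, 1, 0]
    !![1, 1, 1, 0; 0, 0, 0, 0; 1, 0, 0, 1; 0, 1, 1, 1]

/-- the check that a matrix preserves the form -/
def Iso (M : Matrix (Fin 4 ⊕ Fin 4) (Fin 4 ⊕ Fin 4) (ZMod 2)) : Prop := ∀ s t u v s' t' u' v' : ZMod 2,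
  quadFormPlus 4 (ZMod 2) (M *ᵥ Sum.elim ![s, t, u, v] ![s', t', u', v']) =
    quadFormPlus 4 (ZMod 2) (Sum.elim ![s, t, u, v] ![s', t', u', v'])

theorem exists_iso {M N : Matrix (Fin 4 ⊕ Fin 4) (Fin 4 ⊕ Fin 4) (ZMod 2)} (h : Iso M) (e : N * M = 1) :
    ∃ x : isometryGroup (ZMod 2) (quadFormPlus 4 (ZMod 2)), x.1.1 = M := by
  refine ⟨⟨⟨M, N, mul_eq_one_comm.1 e, e⟩, fun u _ => ?_⟩, rfl⟩
  have h1 : u = Sum.elim ![u (.inl 0), u (.inl 1), u (.inl 2), u (.inl 3)]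
      ![u (.inr 0), u (.inr 1), u (.inr 2), u (.inr 3)] := by
    ext (i | i) <;> fin_cases i <;> rfl
  rw [h1]
  exact h _ _ _ _ _ _ _ _

private def gram4 (M : Matrix (Fin 4 ⊕ Fin 4) (Fin 4 ⊕ Fin 4) (ZMod 2)) (a b : Fin 4 ⊕ Fin 4) : ZMod 2 :=
  M (.inl 0) a * M (.inr 0) b + M (.inl 1) a * M (.inr 1) b + M (.inl 2) a * M (.inr 2) b + M (.inl 3) a * M (.inr 3) b

private theorem quad_gram (M : Matrix (Fin 4 ⊕ Fin 4) (Fin 4 ⊕ Fin 4) (ZMod 2)) (v : Fin 4 ⊕ Fin 4 → ZMod 2) :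
    quadFormPlus 4 (ZMod 2) (M *ᵥ v) = ∑ p : (Fin 4 ⊕ Fin 4) × (Fin 4 ⊕ Fin 4), gram4 M p.1 p.2 * (v p.1 * v p.2) := by
  have e : ∀ a b, gram4 M a b = ∑ i : Fin 4, M (.inl i) a * M (.inr i) b := fun a b => by rw [Fin.sum_univ_four]; rfl
  have e2 : ∀ i : Fin 4, (M *ᵥ v) (.inl i) * (M *ᵥ v) (.inr i) =
      ∑ p : (Fin 4 ⊕ Fin 4) × (Fin 4 ⊕ Fin 4), M (.inl i) p.1 * M (.inr i) p.2 * (v p.1 * v p.2) := fun i => by
    rw [Fintype.sum_prod_type]
    refine (Finset.sum_mul_sum Finset.univ Finset.univ (fun a => M (.inl i) a * v a) (fun b => M (.inr i) b * v b)).trans ?_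
    exact Finset.sum_congr rfl fun a _ => Finset.sum_congr rfl fun b _ => mul_mul_mul_comm _ _ _ _
  unfold quadFormPlus
  rw [Finset.sum_congr rfl fun i _ => e2 i, Finset.sum_comm]
  exact Finset.sum_congr rfl fun p _ => by rw [e, Finset.sum_mul]

private theorem iso_of {M : Matrix (Fin 4 ⊕ Fin 4) (Fin 4 ⊕ Fin 4) (ZMod 2)} (h1 : ∀ a, gram4 M a a = 0)
    (h2 : ∀ a b, gram4 M a b + gram4 M b a = gram4 1 a b + gram4 1 b a) : Iso M := by
  intro s t u v s' t' u' v'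
  generalize (Sum.elim ![s, t, u, v] ![s', t', u', v'] : Fin 4 ⊕ Fin 4 → ZMod 2) = w
  have h0 : ∀ a, gram4 1 a a = 0 := by decide +kernel
  conv_rhs => rw [← Matrix.one_mulVec w]
  rw [quad_gram, quad_gram, ← sub_eq_zero, ← Finset.sum_sub_distrib]
  refine Finset.sum_involution (fun p _ => p.swap) (fun p _ => ?_) (fun p _ hp e => hp ?_) (fun _ _ => Finset.mem_univ _)
    (fun p _ => Prod.swap_swap p)
  · show _ + (gram4 M p.2 p.1 * (w p.2 * w p.1) - gram4 1 p.2 p.1 * (w p.2 * w p.1)) = 0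
    linear_combination (w p.1 * w p.2) * h2 p.1 p.2
  · have e' : p.2 = p.1 := congrArg Prod.fst e
    rw [e', h1, h0, sub_self]

seal _root_.Finset.sum _root_.dotProduct in
theorem o82 [Fact (Nat.Prime 5)] : Row88 5 (POmega (ZMod 2) (quadFormPlus 4 (ZMod 2))) := by
  let f : isometryGroup (ZMod 2) (quadFormPlus 4 (ZMod 2)) →* Matrix (Fin 4 ⊕ Fin 4) (Fin 4 ⊕ Fin 4) (ZMod 2) :=
    (Units.coeHom _).comp (Subgroup.subtype _)
  have hf : Function.Injective f := Units.val_injective.comp Subtype.val_injective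
  have e4 : a2 * a2 = a2b := by decide +kernel
  have e5 : a2b * a2b * a2 = 1 := by decide +kernel
  have e7 : a2 * g2 * a2 = g2 := by decide +kernel
  have key : ∀ {M N P : Matrix (Fin 4 ⊕ Fin 4) (Fin 4 ⊕ Fin 4) (ZMod 2)}, Iso M → Iso N → M * M = 1 → N * N = 1 →
      M * N * M * N = P → ∃ x ∈ commutator _, f x = P := by
    intro M N P h1 h2 h3 h4 h5
    obtain ⟨x, hx⟩ := exists_iso h1 h3
    obtain ⟨y, hy⟩ := exists_iso h2 h4
    replace hx : f x = M := hx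
    replace hy : f y = N := hy
    refine ⟨⁅x, y⁆, commutator_mem_commutator (mem_top _) (mem_top _), ?_⟩
    rw [commutatorElement_def, inv_eq_of_mul_eq_one_right (hf (by rw [map_mul, hx, h3, map_one]) : x * x = 1),
      inv_eq_of_mul_eq_one_right (hf (by rw [map_mul, hy, h4, map_one]) : y * y = 1), map_mul, map_mul, map_mul, hx, hy,
      h5]
  obtain ⟨g, hg, eg⟩ := key (M := x2) (N := y2) (P := g2) (iso_of (by decide +kernel) (by decide +kernel)) (iso_of (by decide +kernel) (by decide +kernel))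
    (by decide +kernel) (by decide +kernel) (by decide +kernel)
  obtain ⟨h, hh, eh⟩ := key (M := z2) (N := w2) (P := h2) (iso_of (by decide +kernel) (by decide +kernel)) (iso_of (by decide +kernel) (by decide +kernel))
    (by decide +kernel) (by decide +kernel) (by decide +kernel)
  obtain ⟨a, ea⟩ := exists_iso (M := a2) (iso_of (by decide +kernel) (by decide +kernel)) e5
  replace ea : f a = a2 := ea
  have ha : a ∈ commutator _ := by
    have h1 : a * g * a = g := hf (by rw [map_mul, map_mul, ea, eg, e7])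
    have h2 : a * a * (a * a) * a = 1 := hf (by simp only [map_mul, ea, map_one, e4, e5])
    have h3 : a = ⁅g, a * a⁆ := by
      have h4 : g * a * g⁻¹ = a⁻¹ := by rw [mul_inv_eq_iff_eq_mul, eq_inv_mul_iff_mul_eq, ← mul_assoc, h1]
      rw [commutatorElement_def, ← conj_mul, h4, ← _root_.mul_inv_rev, ← _root_.mul_inv_rev,
        inv_eq_of_mul_eq_one_right (by exact h2)]
    rw [h3]
    exact commutator_mem_commutator (mem_top _) (mem_top _)
  refine row88_mat (f.comp (Subgroup.subtype _)) (hf.comp Subtype.val_injective) (fun d => ?_) (a := ⟨a, ha⟩) (g := ⟨g, hg⟩)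
    (h := ⟨h, hh⟩) (c := a2b) (b' := b2) ea eg eh (by decide +kernel) (by decide +kernel) (by decide +kernel) e4 e5
    (by decide +kernel) e7 (by decide +kernel)
  have h1 := S0293.result (F := ZMod 2) (q := 2) rfl 4 le_rfl
  rw [S0817.result (F := ZMod 2) 2 1 le_rfl rfl 4 le_rfl] at d
  have h2 : Nat.card (POmega (ZMod 2) (quadFormPlus 4 (ZMod 2))) = 174182400 := by
    rw [show Nat.gcd 4 (2 ^ 4 - 1) = 1 from rfl, one_mul] at h1
    exact h1.trans (by decide +kernel)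
  rw [h2] at d
  revert d
  decide +kernel

end Cfsg.Agent.TwoF.XS.Fv

namespace Cfsg.Agent.TwoF.XS

open Fv LieClassical.FieldTransfer

/-- **the rows `p = 5`** -/
theorem five : Five := by
  rintro p _ F _ _ rfl
  have := fact7
  refine ⟨fun h => h.elim (fun h => ?_) fun h => ?_, fun h => ?_, fun h => ?_⟩
  · exact row88_congr sp44 (pspCongr 2 (FiniteField.ringEquivOfCardEq h))
  · exact row88_congr sp47 (pspCongr 2 (FiniteField.ringEquivOfCardEq (h.trans (ZMod.card 7).symm)))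
  · exact row88_congr sp83 (pspCongr 4 (FiniteField.ringEquivOfCardEq (h.trans (ZMod.card 3).symm)))
  · obtain ⟨e⟩ := UGT.U2.Rec.Congr.nonempty_POmega (FiniteField.ringEquivOfCardEq (h.trans (ZMod.card 2).symm))
      (Q := quadFormPlus 4 F) (Q' := quadFormPlus 4 (ZMod 2)) fun v => by simp [quadFormPlus, map_sum, map_mul]
    exact row88_congr o82 e

end Cfsg.Agent.TwoF.XS
end

-- part: TwoF/XS/Red/Sp
section
/-!
# TwoF / XS, the reduction (2): symplectic groups (helper23)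
-/

set_option autoImplicit false

namespace Cfsg.Agent.TwoF.XS.Red

open Cfsg.Agent.TwoF.XE Cfsg.Agent.TwoF.Gen

/-- the dimension bound -/
def dSp (m r q : ℕ) : ℕ := if m = 3 ∧ q = 2 then 0 else if r = 2 then q ^ m - 1 else (q ^ m - 1) / 2
/-- the multiplier -/
def zSp (m q : ℕ) : ℕ := if m = 3 ∧ q = 2 then 2 else Nat.gcd 2 (q - 1)
/-- the order of the symplectic group -/
def nSp (m q : ℕ) : ℕ := q ^ (m ^ 2) * ∏ i ∈ Finset.range m, (q ^ (2 * (i + 1)) - 1)
/-- the outer automorphisms -/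
def oSp (m r f : ℕ) : ℕ := (if m = 2 ∧ r = 2 then 2 else 1) * Nat.gcd 2 (r ^ f - 1) * f

/-- the survivors -/
def ESp (m q o p : ℕ) : Prop :=
  (p = 2 ∧ m = 2 ∧ q = 3) ∨
  (p = 2 ∧ ((m = 2 ∧ (q = 5 ∨ q = 7 ∨ q = 9 ∨ q = 11)) ∨ (m = 3 ∧ (q = 3 ∨ q = 5)) ∨ ((m = 4 ∨ m = 5) ∧ q = 3))) ∨
  (¬ p ∣ o ∧ ((p = 3 ∧ m = 3 ∧ q = 2) ∨ (q = 2 ∧ 4 ≤ m ∧ m ≤ 7 ∧ (p = 3 ∨ p = 5)) ∨
    (p = 5 ∧ ((m = 2 ∧ (q = 4 ∨ q = 7)) ∨ (m = 4 ∧ q = 3)))))

set_option synthInstance.maxSize 100000 in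
set_option synthInstance.maxHeartbeats 400000 in
theorem tab_sp : ∀ r ∈ [2, 3, 5, 7, 11, 13, 17, 19, 23, 29, 31], ∀ f < 5, ∀ m < 10, 1 ≤ f → 2 ≤ m → (r ^ f) ^ m < 1024 →
    (m = 2 → 3 ≤ r ^ f) →
    big (dSp m r (r ^ f)) (zSp m (r ^ f)) (nSp m (r ^ f) / Nat.gcd 2 (r ^ f - 1)) (oSp m r f) = true ∧
      ∀ t ∈ [2, 3, 5, 7, 11, 13, 17, 19, 23], t = r ∨
        ok (dSp m r (r ^ f)) (zSp m (r ^ f)) (nSp m (r ^ f) / Nat.gcd 2 (r ^ f - 1)) (oSp m r f) t = true ∨
        ESp m (r ^ f) (oSp m r f) t := by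
  unfold ESp
  decide +kernel

theorem nSp_le (m q : ℕ) : nSp m q ≤ q ^ (2 * m ^ 2 + m) := by
  rw [show 2 * m ^ 2 + m = m ^ 2 + (m ^ 2 + m) by ring, pow_add]
  exact Nat.mul_le_mul_left _ (prod_le q m)

theorem cop_sub {r f m a : ℕ} (hr : r.Prime) (hf : 1 ≤ f) (hm : 1 ≤ m) : (Nat.gcd a ((r ^ f) ^ m - 1)).Coprime r := by
  refine Nat.Coprime.coprime_dvd_left (Nat.gcd_dvd_right _ _) (Nat.Coprime.symm ((Nat.Prime.coprime_iff_not_dvd hr).2
    fun h => hr.one_lt.ne' (Nat.dvd_one.1 ?_)))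
  exact (Nat.dvd_sub_iff_right (Nat.one_le_pow _ _ (pow_pos hr.pos _))
    ((dvd_pow_self r (by omega)).trans (dvd_pow_self _ (by omega)))).1 h

variable {p : ℕ} [Fact p.Prime]

theorem dt_sp {F : Type} [Field F] [Fintype F] {r f m : ℕ} (hr : r.Prime) [CharP F r] (hf : 1 ≤ f)
    (hF : Fintype.card F = r ^ f) (hm : 2 ≤ m) (h2 : m = 2 → 3 ≤ r ^ f) (hrp : r ≠ p)
    (hc : Subgroup.center (PSp m F) = ⊥) :
    Dt p (PSp m F) (dSp m r (r ^ f)) (zSp m (r ^ f)) (nSp m (r ^ f) / Nat.gcd 2 (r ^ f - 1)) (oSp m r f) := by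
  have : Fact r.Prime := ⟨hr⟩
  have hg : 0 < Nat.gcd 2 (r ^ f - 1) := Nat.gcd_pos_of_pos_left _ two_pos
  have hs : Nat.card (PSp m F) = nSp m (r ^ f) / Nat.gcd 2 (r ^ f - 1) := by
    rw [nSp, ← S0245.result hF m, Subgroup.card_eq_card_quotient_mul_card_subgroup
      (Subgroup.center (Matrix.symplecticGroup (Fin m) F)), S0246.result hF m (by omega), Nat.mul_div_cancel _ hg]
  have hz : ∀ (K : Type) [Group K] [Finite K] (π : K →* PSp m F), IsStemExtension π →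
      Nat.card π.ker ∣ zSp m (r ^ f) := fun K _ _ π hπ => by
    unfold zSp
    split_ifs with h
    · obtain ⟨rfl, h⟩ := h
      exact card_ker_dvd' (S2093.result (hF.trans h)) K π hπ
    · exact card_ker_dvd' (S2092.result hF m hm h2 h) K π hπ
  refine ⟨?_, hz, by unfold zSp; split_ifs; exacts [two_pos, hg], hs, hs ▸ S0814.result r f hf hF m hm h2, hc⟩
  unfold dSp
  split_ifs with h h'
  · exact lb_zero
  all_goals
    refine lb_of_mult ?_ hz (r := r) (by rw [zSp, if_neg h, ← pow_one (r ^ f)]; exact cop_sub hr hf le_rfl)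
  · subst h'
    exact H175.BdSp.bd_psp_even hF (by omega) (by exact_mod_cast cast_ne_zero hr hrp) (MulEquiv.refl _)
  · exact H175.BdSp.bd_psp hr hF (by omega) (cast_ne_zero hr hrp) (MulEquiv.refl _)

theorem box_psp (H : Small) : Box fun K _ => IsPSp K := by
  rintro p _ S _ _ _ ⟨F, _, _, m, hm, h2, ⟨e⟩⟩ hp -
  obtain ⟨r, f, hr, hc, hf, hF⟩ := exists_char F
  have hrp : r ≠ p := by
    rintro rfl
    exact hp (.inr <| .inl ⟨F, _, _, hc, m, hm, h2, ⟨e⟩⟩)
  have : IsSimpleGroup (PSp m F) := e.symm.isSimpleGroup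
  refine Row.of_equiv (row_of_center fun hZ => ?_) e
  have D := dt_sp hr hf hF hm (hF ▸ h2) hrp hZ
  have hq : 2 ≤ r ^ f := hF ▸ Fintype.one_lt_card
  by_cases hQ : 1024 ≤ (r ^ f) ^ m
  · have h32 : ¬ (m = 3 ∧ r ^ f = 2) := fun h => by rw [h.1, h.2] at hQ; omega
    refine D.row_gen hq hQ ?_ (by rw [dSp, if_neg h32]; split_ifs <;> omega)
    rw [zSp, if_neg h32]
    have h3 : oSp m r f ≤ (r ^ f) ^ 2 := by
      have h4 := two_mul_le (f := f) hr.two_le
      have h5 := gcd_two_le (r ^ f - 1)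
      have h6 : oSp m r f ≤ 2 * 2 * f := by unfold oSp; gcongr; split_ifs <;> omega
      nlinarith only [hq, h4, h6]
    calc _ ≤ (r ^ f) ^ (2 * m ^ 2 + m) * (r ^ f) ^ 2 :=
          Nat.mul_le_mul ((Nat.mul_div_le _ _).trans (nSp_le _ _)) h3
      _ ≤ _ := by rw [← pow_add]; exact Nat.pow_le_pow_right (by omega) (by omega)
  obtain ⟨h3, h4, h5⟩ := small_range hr hf hm (not_le.1 hQ)
  refine (D.row_or hrp (tab_sp r h3 f h4 m h5 hf hm (not_le.1 hQ) (hF ▸ h2))).elim id ?_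
  rw [← hF]
  rintro (⟨rfl, rfl, h⟩ | ⟨rfl, h⟩ | ⟨h0, h⟩)
  · let _ : Fintype (GaloisField 2 2) := Fintype.ofFinite _
    have h4 : Fintype.card (GaloisField 2 2) = 2 ^ 2 := by
      rw [← Nat.card_eq_fintype_card]; exact GaloisField.card 2 2 two_ne_zero
    obtain ⟨e'⟩ := S0822.result h4 h
    exact (hp (.inr <| .inr <| .inl ⟨GaloisField 2 2, _, _, inferInstance, 4, 2, h4, by omega, by omega,
      ⟨e.trans e'.symm⟩⟩)).elim
  · exact H.p2 F m h
  refine ⟨?_, D.row89 h0⟩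
  rcases h with ⟨rfl, rfl, h⟩ | ⟨h, h6, h7, h8⟩ | ⟨h6, ⟨rfl, h⟩ | ⟨rfl, h⟩⟩
  · exact H.sp62 F h
  · exact H.sp2 p F m h h6 h7 h8
  · exact (H.five p F h6).1 h
  · exact (H.five p F h6).2.1 h

end Cfsg.Agent.TwoF.XS.Red
end

-- part: TwoF/XS/Red/Main
section
/-!
# TwoF / XS, the reduction (3): orthogonal groups, `red` (helper23)
-/

set_option autoImplicit false

namespace Cfsg.Agent.TwoF.XS.Red

open Cfsg.Agent.TwoF.XE Cfsg.Agent.TwoF.Gen

variable {p : ℕ} [Fact p.Prime]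

theorem eq_div {a b c : ℕ} (ha : 0 < a) (h : a * b = c) : b = c / a := by rw [← h, Nat.mul_div_cancel_left _ ha]

theorem pow_le_bd {q m e : ℕ} (hq : 2 ≤ q) (h : m ≤ e) : q ^ m ≤ 2 * ((q - 1) * q ^ e) + 2 := by
  have h1 := Nat.pow_le_pow_right (show 0 < q by omega) h
  have h2 : 1 * q ^ e ≤ (q - 1) * q ^ e := Nat.mul_le_mul_right _ (by omega)
  omega

/-! ### odd dimension -/

/-- the dimension bound -/
def dB (m q : ℕ) : ℕ := if m = 3 ∧ q = 3 then 0 else (q - 1) * q ^ (2 * m - 3)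
/-- the multiplier -/
def zB (m q : ℕ) : ℕ := if m = 3 ∧ q = 3 then 6 else 2

set_option synthInstance.maxSize 100000 in
set_option synthInstance.maxHeartbeats 400000 in
theorem tab_odd : ∀ r ∈ [2, 3, 5, 7, 11, 13, 17, 19, 23, 29, 31], ∀ f < 5, ∀ m < 10, 1 ≤ f → 3 ≤ m → (r ^ f) ^ m < 1024 →
    r ≠ 2 → big (dB m (r ^ f)) (zB m (r ^ f)) (nSp m (r ^ f) / 2) (2 * f) = true ∧
      ∀ t ∈ [2, 3, 5, 7, 11, 13, 17, 19, 23], t = r ∨ ok (dB m (r ^ f)) (zB m (r ^ f)) (nSp m (r ^ f) / 2) (2 * f) t = true ∨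
        (t = 2 ∧ m = 3 ∧ r ^ f = 3) := by
  decide +kernel

theorem dt_odd {F : Type} [Field F] [Fintype F] {r f m : ℕ} (hr : r.Prime) [CharP F r] (hf : 1 ≤ f)
    (hF : Fintype.card F = r ^ f) (hm : 3 ≤ m) (h2 : r ≠ 2) (hrp : r ≠ p)
    (hc : Subgroup.center (POmega F (quadFormOdd m F)) = ⊥) :
    Dt p (POmega F (quadFormOdd m F)) (dB m (r ^ f)) (zB m (r ^ f)) (nSp m (r ^ f) / 2) (2 * f) := by
  have : Fact r.Prime := ⟨hr⟩
  have ho := hr.odd_of_ne_two h2
  have hs := eq_div two_pos (S0292.result hF ho.pow m hm)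
  have hz : ∀ (K : Type) [Group K] [Finite K] (π : K →* POmega F (quadFormOdd m F)), IsStemExtension π →
      Nat.card π.ker ∣ zB m (r ^ f) := fun K _ _ π hπ => by
    unfold zB
    split_ifs with h
    · obtain ⟨rfl, h⟩ := h
      exact card_ker_dvd' (S2095.result (hF.trans h)) K π hπ
    · exact card_ker_dvd' (S2094.result hF ho.pow m hm h) K π hπ
  refine ⟨?_, hz, by unfold zB; split_ifs <;> omega, hs, hs ▸ S0816.result r f hf hF ho m hm, hc⟩
  unfold dB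
  split_ifs with h
  · exact lb_zero
  refine lb_of_mult ?_ hz (r := r) (by rw [zB, if_neg h]; exact (Nat.coprime_primes Nat.prime_two hr).2 h2.symm)
  exact hF ▸ H203.OrthHeis.bd_pomega_odd_heis hr (cast_ne_zero hr hrp) hF
    (Ring.two_ne_zero (by rwa [ringChar.eq F r])) hm

theorem box_odd (H : Small) : Box fun K _ => IsPOmegaOdd K := by
  rintro p _ S _ _ _ ⟨F, _, _, m, hm, h2, ⟨e⟩⟩ hp -
  obtain ⟨r, f, hr, hc, hf, hF⟩ := exists_char F
  have hrp : r ≠ p := by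
    rintro rfl
    exact hp (.inr <| .inr <| .inr <| .inl ⟨F, _, _, hc, m, hm, h2, ⟨e⟩⟩)
  have hr2 : r ≠ 2 := by
    rintro rfl
    rw [hF] at h2
    exact absurd (Nat.odd_iff.1 ((Nat.odd_pow_iff (by omega)).1 h2)) (by norm_num)
  have : IsSimpleGroup (POmega F (quadFormOdd m F)) := e.symm.isSimpleGroup
  have : Finite (POmega F (quadFormOdd m F)) := Finite.of_equiv _ e.toEquiv
  refine Row.of_equiv (row_of_center fun hZ => ?_) e
  have D := dt_odd hr hf hF hm hr2 hrp hZ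
  have hq : 2 ≤ r ^ f := hF ▸ Fintype.one_lt_card
  by_cases hQ : 1024 ≤ (r ^ f) ^ m
  · have h33 : ¬ (m = 3 ∧ r ^ f = 3) := fun h => by rw [h.1, h.2] at hQ; omega
    refine D.row_gen hq hQ ?_ (by rw [dB, if_neg h33]; exact pow_le_bd hq (by omega))
    rw [zB, if_neg h33]
    calc _ ≤ (r ^ f) ^ (2 * m ^ 2 + m) * (r ^ f) ^ 1 :=
          Nat.mul_le_mul ((Nat.mul_div_le _ _).trans (nSp_le _ _)) ((two_mul_le hr.two_le).trans (pow_one _).ge)
      _ ≤ _ := by rw [← pow_add]; exact Nat.pow_le_pow_right (by omega) (by omega)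
  obtain ⟨h3, h4, h5⟩ := small_range hr hf (by omega) (not_le.1 hQ)
  refine (D.row_or hrp (tab_odd r h3 f h4 m h5 hf hm (not_le.1 hQ) hr2)).elim id ?_
  rintro ⟨rfl, rfl, h⟩
  exact H.o73 F (hF.trans h)

/-! ### even dimension -/

/-- the order up to the centre, `a = q ^ m ∓ 1` -/
def nD (m q a : ℕ) : ℕ := q ^ (m * (m - 1)) * a * ∏ i ∈ Finset.range (m - 1), (q ^ (2 * (i + 1)) - 1)

theorem gen_D {m q a g z o f : ℕ} (hm : 4 ≤ m) (hq : 2 ≤ q) (ha : a ≤ q ^ m + 1) (hz : z ≤ 4) (ho : o ≤ 24 * f)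
    (hf : 2 * f ≤ q) : z * (nD m q a / g) * o ≤ q ^ (2 * m ^ 2 + 2 * m) := by
  obtain ⟨n, rfl⟩ : ∃ n, m = n + 1 := ⟨m - 1, by omega⟩
  have h1 : 2 ^ 2 ≤ q ^ 2 := Nat.pow_le_pow_left hq 2
  have h2 : 2 ^ 4 * q ≤ q ^ 4 * q := Nat.mul_le_mul_right _ (Nat.pow_le_pow_left hq 4)
  calc _ ≤ q ^ 2 * (q ^ ((n + 1) * n) * q ^ (n + 1 + 1) * q ^ (n ^ 2 + n)) * (q ^ 4 * q) :=
        Nat.mul_le_mul (Nat.mul_le_mul (by omega) ((Nat.div_le_self _ _).trans (Nat.mul_le_mul
          (Nat.mul_le_mul_left _ (ha.trans (pow_add_one_le hq _))) (prod_le q n)))) (by omega)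
    _ = q ^ (2 * n ^ 2 + 3 * n + 9) := by ring
    _ ≤ _ := Nat.pow_le_pow_right (by omega) (by linarith only [hm])

/-- the dimension bound -/
def dP (m q : ℕ) : ℕ := if m = 4 ∧ q = 2 then 0 else (q - 1) * q ^ (2 * m - 4)
/-- the multiplier -/
def zP (m q : ℕ) : ℕ :=
  if m = 4 ∧ q = 2 then 4 else if Even m then Nat.gcd 2 (q ^ m - 1) * Nat.gcd 2 (q ^ m - 1) else Nat.gcd 4 (q ^ m - 1)
/-- the outer automorphisms -/
def oP (m r f : ℕ) : ℕ :=
  (if m = 4 then 3 else 1) * (if r = 2 then 2 else (if Even (m * (r ^ f - 1) / 2) then 8 else 4)) * f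
/-- the outer automorphisms -/
def oM (m r f : ℕ) : ℕ := (if r = 2 then 2 else (if Even (m * (r ^ f - 1) / 2) then 4 else 8)) * f

set_option synthInstance.maxSize 100000 in
set_option synthInstance.maxHeartbeats 400000 in
theorem tab_plus : ∀ r ∈ [2, 3, 5, 7, 11, 13, 17, 19, 23, 29, 31], ∀ f < 5, ∀ m < 10, 1 ≤ f → 4 ≤ m → (r ^ f) ^ m < 1024 →
    big (dP m (r ^ f)) (zP m (r ^ f)) (nD m (r ^ f) ((r ^ f) ^ m - 1) / Nat.gcd 4 ((r ^ f) ^ m - 1)) (oP m r f) = true ∧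
      ∀ t ∈ [2, 3, 5, 7, 11, 13, 17, 19, 23], t = r ∨ ok (dP m (r ^ f)) (zP m (r ^ f))
        (nD m (r ^ f) ((r ^ f) ^ m - 1) / Nat.gcd 4 ((r ^ f) ^ m - 1)) (oP m r f) t = true ∨
        (m = 4 ∧ r ^ f = 2 ∧ (t = 3 ∨ (t = 5 ∧ ¬ t ∣ oP m r f))) := by
  decide +kernel

set_option synthInstance.maxSize 100000 in
set_option synthInstance.maxHeartbeats 400000 in
theorem tab_minus : ∀ r ∈ [2, 3, 5, 7, 11, 13, 17, 19, 23, 29, 31], ∀ f < 5, ∀ m < 10, 1 ≤ f → 4 ≤ m → (r ^ f) ^ m < 1024 →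
    big ((r ^ f - 1) * (r ^ f) ^ (2 * m - 4)) (Nat.gcd 4 ((r ^ f) ^ m + 1))
      (nD m (r ^ f) ((r ^ f) ^ m + 1) / Nat.gcd 4 ((r ^ f) ^ m + 1)) (oM m r f) = true ∧
      ∀ t ∈ [2, 3, 5, 7, 11, 13, 17, 19, 23], t = r ∨ ok ((r ^ f - 1) * (r ^ f) ^ (2 * m - 4)) (Nat.gcd 4 ((r ^ f) ^ m + 1))
        (nD m (r ^ f) ((r ^ f) ^ m + 1) / Nat.gcd 4 ((r ^ f) ^ m + 1)) (oM m r f) t = true ∨
        (m = 4 ∧ r ^ f = 2 ∧ t = 3 ∧ ¬ t ∣ oM m r f) := by
  decide +kernel

theorem card_prod (a : ℕ) : Nat.card (Multiplicative (ZMod a × ZMod a)) = a * a := by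
  rw [Nat.card_congr Multiplicative.toAdd, Nat.card_prod, Nat.card_zmod]

theorem dt_plus {F : Type} [Field F] [Fintype F] {r f m : ℕ} (hr : r.Prime) (hf : 1 ≤ f)
    (hF : Fintype.card F = r ^ f) (hm : 4 ≤ m) (hrp : r ≠ p)
    (hc : Subgroup.center (POmega F (quadFormPlus m F)) = ⊥) :
    Dt p (POmega F (quadFormPlus m F)) (dP m (r ^ f)) (zP m (r ^ f))
      (nD m (r ^ f) ((r ^ f) ^ m - 1) / Nat.gcd 4 ((r ^ f) ^ m - 1)) (oP m r f) := by
  have : Fact r.Prime := ⟨hr⟩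
  have hs := eq_div (Nat.gcd_pos_of_pos_left _ four_pos) (S0293.result hF m hm)
  have hz : ∀ (K : Type) [Group K] [Finite K] (π : K →* POmega F (quadFormPlus m F)), IsStemExtension π →
      Nat.card π.ker ∣ zP m (r ^ f) := fun K _ _ π hπ => by
    unfold zP
    split_ifs with h h'
    · obtain ⟨rfl, h⟩ := h
      exact (card_ker_dvd (S2098.result (hF.trans h)) K π hπ).trans (card_prod 2).dvd
    · exact (card_ker_dvd (S2097.result hF m hm h' h) K π hπ).trans (card_prod _).dvd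
    · exact card_ker_dvd' (S2096.result hF m (by rw [Nat.even_iff] at h'; omega) (Nat.not_even_iff_odd.1 h')) K π hπ
  refine ⟨?_, hz, ?_, hs, hs ▸ S0817.result r f hf hF m hm, hc⟩
  · unfold dP
    split_ifs with h
    · exact lb_zero
    refine lb_of_mult (hF ▸ H203.OrthHeis.bd_pomega_plus_heis hr (cast_ne_zero hr hrp) hF hm) hz ?_
    rw [zP, if_neg h]
    split_ifs
    · exact Nat.Coprime.mul_left (cop_sub hr hf (by omega)) (cop_sub hr hf (by omega))
    · exact cop_sub hr hf (by omega)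
  · unfold zP
    split_ifs <;> positivity

theorem box_plus (H : Small) : Box fun K _ => IsPOmegaPlus K := by
  rintro p _ S _ _ _ ⟨F, _, _, m, hm, ⟨e⟩⟩ hp -
  obtain ⟨r, f, hr, hc, hf, hF⟩ := exists_char F
  have hrp : r ≠ p := by
    rintro rfl
    exact hp (.inr <| .inr <| .inr <| .inr <| .inl ⟨F, _, inferInstance, hc, m, hm, ⟨e⟩⟩)
  have : IsSimpleGroup (POmega F (quadFormPlus m F)) := e.symm.isSimpleGroup
  have : Finite (POmega F (quadFormPlus m F)) := Finite.of_equiv _ e.toEquiv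
  refine Row.of_equiv (row_of_center fun hZ => ?_) e
  have D := dt_plus hr hf hF hm hrp hZ
  have hq : 2 ≤ r ^ f := hF ▸ Fintype.one_lt_card
  by_cases hQ : 1024 ≤ (r ^ f) ^ m
  · have h42 : ¬ (m = 4 ∧ r ^ f = 2) := fun h => by rw [h.1, h.2] at hQ; omega
    refine D.row_gen hq hQ (gen_D hm hq (by omega) ?_ ?_ (two_mul_le hr.two_le))
      (by rw [dP, if_neg h42]; exact pow_le_bd hq (by omega))
    · rw [zP, if_neg h42]
      split_ifs
      · exact Nat.mul_le_mul (gcd_two_le _) (gcd_two_le _)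
      · exact Nat.gcd_le_left _ four_pos
    · refine Nat.mul_le_mul_right _ ?_
      split_ifs <;> omega
  obtain ⟨h3, h4, h5⟩ := small_range hr hf (by omega) (not_le.1 hQ)
  refine (D.row_or hrp (tab_plus r h3 f h4 m h5 hf hm (not_le.1 hQ))).elim id ?_
  rintro ⟨rfl, h, rfl | ⟨h6, h7⟩⟩
  · exact H.o8p F (hF.trans h)
  · exact ⟨(H.five p F h6).2.2 (hF.trans h), D.row89 h7⟩

theorem dt_minus {F : Type} [Field F] [Fintype F] {r f m : ℕ} (hr : r.Prime) (hf : 1 ≤ f)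
    (hF : Fintype.card F = r ^ f) (hm : 4 ≤ m) (hrp : r ≠ p) {a b : F}
    (hab : ∀ z₁ z₂ : F, z₁ ^ 2 + a * z₁ * z₂ + b * z₂ ^ 2 = 0 → z₁ = 0 ∧ z₂ = 0)
    (hc : Subgroup.center (POmega F (quadFormMinus (m - 1) F a b)) = ⊥) :
    Dt p (POmega F (quadFormMinus (m - 1) F a b)) ((r ^ f - 1) * (r ^ f) ^ (2 * m - 4)) (Nat.gcd 4 ((r ^ f) ^ m + 1))
      (nD m (r ^ f) ((r ^ f) ^ m + 1) / Nat.gcd 4 ((r ^ f) ^ m + 1)) (oM m r f) := by
  have : Fact r.Prime := ⟨hr⟩
  have hs := eq_div (Nat.gcd_pos_of_pos_left _ four_pos) (S0294.result hF m hm a b hab)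
  have hz := card_ker_dvd' (S2099.result hF m hm a b hab)
  refine ⟨lb_of_mult (hF ▸ H203.OrthHeis.bd_pomega_minus_heis hr (cast_ne_zero hr hrp) hF hm hab) hz ?_, hz,
    Nat.gcd_pos_of_pos_left _ four_pos, hs, hs ▸ S0818.result r f hf hF m hm a b hab, hc⟩
  refine Nat.Coprime.coprime_dvd_left (Nat.gcd_dvd_right _ _) (Nat.Coprime.symm ((Nat.Prime.coprime_iff_not_dvd hr).2
    fun h => hr.one_lt.ne' (Nat.dvd_one.1 ?_)))
  exact (Nat.dvd_add_right ((dvd_pow_self r (by omega)).trans (dvd_pow_self _ (by omega)))).1 h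

theorem box_minus (H : Small) : Box fun K _ => IsPOmegaMinus K := by
  rintro p _ S _ _ _ ⟨F, _, _, m, a, b, hm, hab, ⟨e⟩⟩ hp -
  obtain ⟨r, f, hr, hc, hf, hF⟩ := exists_char F
  have hrp : r ≠ p := by
    rintro rfl
    exact hp (.inr <| .inr <| .inr <| .inr <| .inr <| .inl ⟨F, _, inferInstance, hc, m, a, b, hm, hab, ⟨e⟩⟩)
  have : IsSimpleGroup (POmega F (quadFormMinus (m - 1) F a b)) := e.symm.isSimpleGroup
  have : Finite (POmega F (quadFormMinus (m - 1) F a b)) := Finite.of_equiv _ e.toEquiv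
  refine Row.of_equiv (row_of_center fun hZ => ?_) e
  have D := dt_minus hr hf hF hm hrp hab hZ
  have hq : 2 ≤ r ^ f := hF ▸ Fintype.one_lt_card
  by_cases hQ : 1024 ≤ (r ^ f) ^ m
  · refine D.row_gen hq hQ (gen_D hm hq le_rfl (Nat.gcd_le_left _ four_pos) (Nat.mul_le_mul_right _ ?_)
      (two_mul_le hr.two_le)) (pow_le_bd hq (by omega))
    split_ifs <;> omega
  obtain ⟨h3, h4, h5⟩ := small_range hr hf (by omega) (not_le.1 hQ)
  refine (D.row_or hrp (tab_minus r h3 f h4 m h5 hf hm (not_le.1 hQ))).elim id ?_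
  rintro ⟨rfl, h, rfl, h7⟩
  exact ⟨H.o8m F a b (hF.trans h) hab, D.row89 h7⟩

end Cfsg.Agent.TwoF.XS.Red

/-- **the reduction to the small rows** -/
theorem Cfsg.Agent.TwoF.XS.red : Cfsg.Agent.TwoF.XS.Red := fun H =>
  ⟨Cfsg.Agent.TwoF.XS.Red.box_psp H, Cfsg.Agent.TwoF.XS.Red.box_odd H, Cfsg.Agent.TwoF.XS.Red.box_plus H,
    Cfsg.Agent.TwoF.XS.Red.box_minus H⟩
end

-- part: TwoF/XS/Main
section
/-!
# TwoF / XS: the symplectic and orthogonal groups in cross characteristic (helper85)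
-/

set_option autoImplicit false

namespace Cfsg.Agent.TwoF.XS

theorem four : Four := red ⟨p2, sp62, sp2, five, o8m, o8p, o73⟩

end Cfsg.Agent.TwoF.XS
end

private theorem dce_827d57fba219 : _root_.True := by
  try have : _root_.True := by simp only [_root_.Cfsg.Agent.TwoF.XS.Red.dP.eq_1]
  try have : _root_.True := by simp only [_root_.Cfsg.Agent.TwoF.XS.Red.zB.eq_1]
  try have : _root_.True := by simp only [_root_.FiniteField.ringEquivOfCardEq.congr_simp]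
  try have : _root_.True := by simp only [_root_.Cfsg.Agent.TwoF.XS.P2.Cm.eq_1]
  try have : _root_.True := by simp only [_root_.Cfsg.Agent.TwoF.XS.Red.zSp.eq_1]
  try have : _root_.True := by simp only [_root_.Cfsg.Agent.TwoF.XS.Red.nSp.eq_1]
  try have : _root_.True := by simp only [_root_.Cfsg.Agent.TwoF.XS.SpTwo.Emb.sg.congr_simp]
  try have : _root_.True := by simp only [_root_.Cfsg.Agent.TwoF.XS.Red.dSp.eq_1]
  try have : _root_.True := by simp only [_root_.Cfsg.Agent.TwoF.XS.SpTwo.Emb.sg.eq_1]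
  try have : _root_.True := by simp only [_root_.Cfsg.Agent.TwoF.LB.congr_simp]
  try have : _root_.True := by simp only [_root_.Cfsg.Agent.TwoF.XS.Red.zP.eq_1]
  try have : _root_.True := by simp only [_root_.Cfsg.Agent.TwoF.XS.Red.dB.eq_1]
  exact _root_.True.intro
end

-- part: TwoF/SpD/J4/Row
section
prune_inst 0x10000000000000
set_option linter.all false
open scoped Cfsg.Agent.FastGrp

/-!
# TwoF SP-D: the row of `J4` (helper55)
-/

set_option autoImplicit false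
set_option maxHeartbeats 400000

namespace Cfsg.Agent.TwoF.SpD.J4

open Cfsg Subgroup Module Cfsg.Agent.TwoF.Gen Cfsg.Agent.TAB.J4
open Cfsg.Agent.H859 Cfsg.Agent.H860 Cfsg.Agent.H860.PairGroup
open scoped commutatorElement

section

variable {k : Type*} [Field k] {Y : Type*} [Group Y] {V : Type*} [AddCommGroup V] [Module k V]
  {ρ : Representation k Y V}

theorem cod_isConj {a b : Y} (h : IsConj a b) : cod ρ (zpowers a) = cod ρ (zpowers b) := by
  obtain ⟨c, rfl⟩ := isConj_iff.1 h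
  exact (cod_zpowers_conj c a).symm

theorem rho_ne (hf : Function.Injective ρ) {a : Y} (h : a ≠ 1) : ρ a ≠ 1 := fun e => h (hf (e.trans (map_one ρ).symm))

theorem comm_mem {p : ℕ} [Fact p.Prime] {a b w : Y} (h : Heis.Rel p a b w) [Finite Y] :
    ∀ x ∈ Heis.gp h, ∀ y ∈ Heis.gp h, ⁅x, y⁆ ∈ zpowers w := by
  rintro _ ⟨i, j, l, rfl⟩ _ ⟨i', j', l', rfl⟩
  have h1 : ∀ n, Commute (a ^ (i + i') * b ^ (j + j')) (w ^ n) := fun n =>
    ((show Commute a w from h.aw).pow_pow _ _).mul_left ((show Commute b w from h.bw).pow_pow _ _)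
  rw [commutatorElement_def, mul_assoc (_ * _), ← mul_inv_rev, h.mul, h.mul, add_comm i' i, add_comm j' j, (h1 _).eq,
    (h1 _).eq, mul_inv_rev, mul_assoc, mul_inv_cancel_left]
  exact mul_mem (pow_mem (mem_zpowers w) _) (inv_mem (pow_mem (mem_zpowers w) _))

theorem ord_le [Finite k] [Finite V] (hf : Function.Injective ρ) {s n q : ℕ} [Fact s.Prime] (hq : Nat.card k = q)
    (hs : ¬ s ∣ q) (hn : ∀ d < n, 0 < d → q ^ d % s ≠ 1 % s) {x : Y} (hx : orderOf x = s) : n ≤ cod ρ (zpowers x) :=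
  le_cod_of_order hf (s := s) (hq ▸ hs) (fun d h1 h2 => hq ▸ hn d h2 h1)
    (IsPGroup.of_card (n := 1) (by rw [Nat.card_zpowers, hx, pow_one]))
    (by rw [Ne, zpowers_eq_bot, ← orderOf_eq_one_iff, hx]; exact (Fact.out : s.Prime).ne_one)

end

variable {p : ℕ} [Fact p.Prime] {V : Type} [AddCommGroup V] [Module (ZMod p) V]
  {ρ : Representation (ZMod p) Spor.J4 V}

theorem card_le {A : Subgroup Spor.J4} (hA : Off p ρ A) {e : ℕ} (he : ¬ p ^ (e + 1) ∣ 86775571046077562880) :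
    cod ρ A ≤ 2 * e := by
  obtain ⟨r, -, h1, h2⟩ := hA.exists_card
  refine h2.trans (Nat.mul_le_mul_left _ (not_lt.1 fun h => he ?_))
  rw [← card_J4]
  exact (pow_dvd_pow p h).trans (h1 ▸ card_subgroup_dvd_card A)

theorem exists_elt {A : Subgroup Spor.J4} (hA : Off p ρ A) : ∃ a ∈ A, orderOf a = p := by
  obtain ⟨⟨a, ha⟩, h⟩ := ne_bot_iff_exists_ne_one.1 hA.2.1
  exact ⟨a, ha, orderOf_eq_prime (hA.1.2 a ha) fun e => h (Subtype.ext e)⟩

/-! ### `p = 2` -/

section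

variable {V : Type} [AddCommGroup V] [Module (ZMod 2) V] [Finite V] {ρ : Representation (ZMod 2) Spor.J4 V}

theorem cod_c (hf : Function.Injective ρ) : 110 ≤ cod ρ (zpowers NU.c) := by
  have h := heis (ρ := ρ) (Q := NU.U) (z := NU.c) (r := 11) (by norm_num) NU.rel.wp (by decide) (rho_ne hf NU.rel.w1)
    (fun q hq => (Heis.w_comm NU.rel hq).symm) (comm_mem NU.rel) (zpowers NU.c)
    (fun t ht h => by_contra fun h1 => h (Heis.center_le NU.rel ht fun x hx => by_contra fun h2 => h1 ⟨x, hx, h2⟩))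
    (m := 11) (by
      have h := ((zpowers NU.c).subgroupOf NU.U).card_mul_index
      rw [Nat.card_congr (subgroupOfEquivOfLe SylEleven.zpowers_le_U).toEquiv, Nat.card_zpowers, ord_c, NU.card_U] at h
      rw [relIndex]
      omega)
  have h1 : orderOf ((Fintype.card (ZMod 2) : ℕ) : ZMod 11) = 10 := by
    rw [ZMod.card]
    exact (orderOf_eq_iff (by norm_num)).2 (by decide)
  rwa [h1] at h

theorem cod_11 (hf : Function.Injective ρ) {y : Spor.J4} (hy : orderOf y = 11) : 100 ≤ cod ρ (zpowers y) := by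
  rcases ClassEleven.isConj_or hy with h | h
  · rw [cod_isConj h]
    obtain ⟨q, hq, h1⟩ : ∃ q ∈ NU.U, SylEleven.x * q ≠ q * SylEleven.x := by_contra fun h1 =>
      SylEleven.x_notMem (Heis.center_le NU.rel SylEleven.x_mem fun x hx => by_contra fun h2 => h1 ⟨x, hx, h2⟩)
    have h2 := comm_mem NU.rel q hq _ SylEleven.x_mem
    have h3 : ∀ u ∈ NU.U, u * ⁅q, SylEleven.x⁆ = ⁅q, SylEleven.x⁆ * u := fun u hu =>
      (mem_centralizer_singleton_iff.1 (SylEleven.U_le_centralizer h2 hu))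
    have h4 := heis_noncentral (ρ := ρ) SylEleven.isPGroup_U (by decide) SylEleven.x_mem hq (h3 q hq)
      (h3 _ SylEleven.x_mem)
    rw [cod_isConj (ClassEleven.isConj_c h2 fun e => h1 (commutatorElement_eq_one_iff_mul_comm.1 e).symm)] at h4
    have := cod_c hf
    omega
  · rw [cod_isConj h]
    exact (by norm_num : 100 ≤ 110).trans (cod_c hf)

theorem inv_t {v : ℕ} (h : cjB (v, 623462498632562154221793043834028406) (0, mP 15) (Tab.pw (0, mP 15) 10) = true) :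
    E (v, 623462498632562154221793043834028406) * R 18 * (E (v, 623462498632562154221793043834028406))⁻¹ =
      (R 18)⁻¹ := by
  have h1 := cj_of h
  rw [E_pw (a := (0, mP 15)) (ok_mP 15), ← R_18] at h1
  rw [h1, eq_inv_iff_mul_eq_one, ← pow_succ]
  exact orderOf_dvd_iff_pow_eq_one.1 (rp (t := 18) (by norm_num)).ord.dvd

theorem cod_two (hf : Function.Injective ρ) {a : Spor.J4} (ha : orderOf a = 2) : 50 ≤ cod ρ (zpowers a) := by
  have h0 : orderOf (R 18) = 11 := (rp (t := 18) (by norm_num)).ord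
  have h1 := cod_11 hf h0
  obtain ⟨i, hi, h⟩ := cover2 (g := a) (n := 1) (by rw [pow_one, ← ha, pow_orderOf_eq_one])
  have h2 := (ord_Q hi).symm.trans ((ord_conj h).trans ha)
  rw [← cod_isConj h]
  rcases (by decide : ∀ i < 10, [1, 2, 2, 4, 4, 4, 8, 8, 8, 16].getD i 0 = 2 → i = 1 ∨ i = 2) i hi h2 with rfl | rfl
  · have h3 := cod_le_of_inverts (ρ := ρ) (by rw [h0]; decide) (inv_t (v := 707) (by decide +kernel))
    rw [cod_isConj (two_of (a := (707, 623462498632562154221793043834028406))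
      (c := 926358707141998417591264146089543776) (j := 2) (by decide +kernel))]
    omega
  · have h3 := cod_le_of_inverts (ρ := ρ) (by rw [h0]; decide) (inv_t (v := 0) (by decide +kernel))
    rw [cod_isConj (two_of (a := (0, 623462498632562154221793043834028406))
      (c := 926358707141998417591264146089543776) (j := 2) (by decide +kernel))]
    omega

end

theorem core2 : SpB.Core 2 Spor.J4 := fun V _ _ _ ρ hf _ A hA => by
  obtain ⟨a, h1, h2⟩ := exists_elt hA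
  have h3 := card_le hA (e := 21) (by norm_num)
  have h4 := cod_two hf h2
  have h5 := cod_mono (ρ := ρ) (zpowers_le.2 h1)
  omega

/-! ### `p = 3` -/

theorem core3 : SpB.Core 3 Spor.J4 := fun V _ _ _ ρ hf _ A hA => by
  have : Fact (Nat.Prime 37) := ⟨by norm_num⟩
  obtain ⟨a, h1, h2⟩ := exists_elt hA
  have h3 := card_le hA (e := 3) (by norm_num)
  have h5 := cod_mono (ρ := ρ) (zpowers_le.2 h1)
  obtain ⟨h6, h7⟩ := BigNum.data37 (P := zpowers x37) (by rw [Nat.card_zpowers, ord37])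
  obtain ⟨b, hb⟩ := exists_prime_orderOf_dvd_card' (G := normalizer (zpowers x37 : Set Spor.J4)) 3 (by rw [h7]; norm_num)
  rw [← orderOf_coe] at hb
  have h8 := frobenius_bound_elt (ρ := ρ) (by norm_num) ord37 (by decide) hb b.2 fun e => by
    have h := dvd_cc (x := x37) (y := b) e
    rw [hb, ← cc_zpowers, h6] at h
    norm_num at h
  have h9 : 18 ≤ cod ρ (zpowers x37) := ord_le hf (Nat.card_zmod 3) (by norm_num) (by decide) ord37
  rw [cod_isConj ((conj3 hb).trans (conj3 h2).symm)] at h8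
  omega

/-! ### `p = 11` -/

theorem core11 [Fact (Nat.Prime 11)] : SpB.Core 11 Spor.J4 := fun V _ _ _ ρ hf _ A hA => by
  have : Fact (Nat.Prime 23) := ⟨by norm_num⟩
  refine ⟨A, hA, by_contra fun hc => ?_⟩
  have h1 : 11 ^ 2 ∣ Nat.card A := hA.pow_dvd_of_not_cub hc
  obtain ⟨Q, hQ⟩ := (elemAb_isPGroup hA.1).exists_le_sylow
  obtain ⟨g, hg⟩ := MulAction.exists_smul_eq Spor.J4 Q (SylEleven.isPGroup_U.toSylow SylEleven.not_dvd_U)
  have h2 : A.map (MulAut.conj g).toMonoidHom ≤ NU.U := by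
    rintro _ ⟨a, ha, rfl⟩
    have h : _ ∈ ((g • Q : Sylow 11 Spor.J4) : Subgroup Spor.J4) := smul_mem_pointwise_smul a (MulAut.conj g) _ (hQ ha)
    rwa [hg] at h
  have h3 := card_le (hA.conj g) (e := 3) (by norm_num)
  obtain ⟨y, h4, h5⟩ : ∃ y ∈ A.map (MulAut.conj g).toMonoidHom, y ∉ zpowers NU.c := by_contra fun h => by
    have h4 := card_le_of_le (show A.map (MulAut.conj g).toMonoidHom ≤ zpowers NU.c from
      fun y hy => by_contra fun h5 => h ⟨y, hy, h5⟩)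
    rw [card_map_conj, Nat.card_zpowers, ord_c] at h4
    exact absurd ((Nat.le_of_dvd Nat.card_pos h1).trans h4) (by norm_num)
  obtain ⟨n, -, h6⟩ : y ∈ SylEleven.orb SylEleven.N SylEleven.x := SylEleven.orb_eq ▸ ⟨h2 h4, h5⟩
  obtain ⟨s, hs⟩ := ex_is SylEleven.x
  obtain rfl := (by decide +kernel : ∀ s < 44, tO s = 11 → tC s = 242 → s = 18) s hs.lt
    (hs.ord.symm.trans ClassEleven.orderOf_x) (hs.cen.symm.trans SylEleven.card_centralizer_x_eq)
  have h7 : orderOf (E (0, 184550418723165853173467277237337674)) = 23 :=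
    ord_of (ps := [23]) (by decide +kernel) (by norm_num) fun q h7 h8 =>
      List.mem_singleton.2 ((Nat.prime_dvd_prime_iff_eq h7 Fact.out).1 h8)
  have h8 := cj_of (c := (0, mP 15)) (a := (0, 184550418723165853173467277237337674))
    (b := Tab.pw (0, 184550418723165853173467277237337674) 2) (by decide +kernel)
  rw [E_pw (by decide +kernel), ← R_18] at h8
  have h9 := frobenius_bound_elt (ρ := ρ) (a := R 18) (p := 11) Fact.out h7
    (by rw [Ne, ZMod.natCast_eq_zero_iff]; norm_num) (rp (by norm_num)).ord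
    (mem_normalizer_fintype fun _ ⟨m, hm⟩ => by
      rw [← hm, ← conj_zpow, h8]
      exact zpow_mem (pow_mem (mem_zpowers _) 2) m) fun e => by
    rw [e, mul_inv_cancel_right, pow_two, left_eq_mul, ← orderOf_eq_one_iff, h7] at h8
    norm_num at h8
  have h10 : 22 ≤ cod ρ (zpowers _) := ord_le hf (Nat.card_zmod 11) (by norm_num) (by decide) h7
  have h11 := cod_mono (ρ := ρ) (zpowers_le.2 h4)
  rw [cod_isConj ((hs.one rfl).trans (isConj_iff.2 ⟨n, h6.symm⟩))] at h9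
  omega

theorem row (p : ℕ) [hp : Fact p.Prime] : Row p Spor.J4 := by
  refine SpB.row_of_core S2068.result S2042.result (fun d h _ => Nat.dvd_one.1 h) ?_
  by_cases h2 : p = 2
  · subst h2; exact core2
  by_cases h3 : p = 3
  · subst h3; exact core3
  by_cases h11 : p = 11
  · subst h11; exact core11
  intro V _ _ _ ρ _ _ A hA
  refine ⟨A, hA, by_contra fun hc => ?_⟩
  have h1 := (hA.pow_dvd_of_not_cub hc).trans (card_subgroup_dvd_card A)
  rw [small_of_ne h2 h3, card_J4, show 86775571046077562880 = 2 ^ 21 * 3 ^ 3 * 11 ^ 3 * (5 * 7 * 23 * 29 * 31 * 37 * 43)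
    by norm_num] at h1
  have h4 : ∀ {q : ℕ}, q.Prime → p ≠ q → ∀ n, Nat.Coprime (p ^ (1 + 1)) (q ^ n) := fun hq h n =>
    ((Nat.coprime_primes hp.out hq).2 h).pow _ _
  have h5 := (((h4 Nat.prime_two h2 21).mul_right (h4 Nat.prime_three h3 3)).mul_right
    (h4 (by norm_num) h11 3)).dvd_of_dvd_mul_left h1
  have h6 : Squarefree (5 * 7 * 23 * 29 * 31 * 37 * 43) := by
    simp only [Nat.squarefree_mul_iff]
    refine ⟨by norm_num, ⟨by norm_num, ⟨by norm_num, ⟨by norm_num, ⟨by norm_num, ⟨by norm_num, ?_, ?_⟩, ?_⟩, ?_⟩, ?_⟩,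
      ?_⟩, ?_⟩ <;> exact (Nat.Prime.prime (by norm_num)).squarefree
  exact hp.out.one_lt.ne' (Nat.isUnit_iff.1 (h6 p (by rwa [← pow_two])))

end Cfsg.Agent.TwoF.SpD.J4
end
end
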